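import Cfsg.Agent.ItoCS.CaseB
import Cfsg.Agent.S0144
/-!
Ito's theorem: groups with exactly two noncentral class sizes are solvable.
-/
set_option autoImplicit false
set_option linter.all false

namespace Cfsg.Agent.ItoCS

open Cfsg.Agent.H35.CR

universe u

variable {G : Type u} [Group G] [Finite G] {a b : ℕ}

/-- two primes in the centralizer -/
def Big (g : G) : Prop :=
  ∃ q r : ℕ, q.Prime ∧ r.Prime ∧ q ≠ r ∧ (∃ u ∈ cz g, u ∉ Subgroup.center G ∧ IsP q u) ∧
    ∃ u ∈ cz g, u ∉ Subgroup.center G ∧ IsP r u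

theorem Big.congr {g k : G} (h : Big g) (hc : c g = c k) : Big k := by
  obtain ⟨q, r, hq, hr, hqr, h1, h2⟩ := h
  exact ⟨q, r, hq, hr, hqr, mem_card hq hc h1, mem_card hr hc h2⟩

/-- big centralizers are abelian -/
theorem Big.abel (hF : IsF G) {g : G} (hg : g ∉ Subgroup.center G) (h : Big g) : ∀ d ∈ cz g, cz g ≤ cz d := by
  obtain ⟨q, r, hq, hr, hqr, ⟨u, hu, hun, huq⟩, v, hv, hvn, hvr⟩ := h
  obtain ⟨p, g', hp, hg'g, hg'n, hg'p, -⟩ := prime_part' hg
  have he : cz g = cz g' := hF _ _ hg hg'n (cz_le_of_mem_zpowers hg'g)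
  -- some `t`-element `w`, `t ≠ p`, noncentral in `cz g`
  obtain ⟨t, w, ht, htp, hw, hwn, hwt⟩ : ∃ (t : ℕ) (w : G), t.Prime ∧ t ≠ p ∧ w ∈ cz g ∧ w ∉ Subgroup.center G ∧ IsP t w := by
    by_cases e : q = p
    · exact ⟨r, v, hr, fun e' => hqr (e.trans e'.symm), hv, hvn, hvr⟩
    · exact ⟨q, u, hq, e, hu, hun, huq⟩
  have hw' : cz g = cz w := by
    rw [he] at hw ⊢
    exact hF _ _ hg'n hwn (hF.central hg'n hw (IsP.coprime hp ht htp.symm hg'p hwt))
  apply abel_of_primary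
  intro s hs x hx hxs
  by_cases hsp : s = p
  · rw [hw'] at hx ⊢
    exact hF.central hwn hx (IsP.coprime ht hs (by rw [hsp]; exact htp) hwt hxs)
  · rw [he] at hx ⊢
    exact hF.central hg'n hx (IsP.coprime hp hs (fun e => hsp e.symm) hg'p hxs)

theorem Big.cz_eq (hF : IsF G) {g : G} (hg : g ∉ Subgroup.center G) (h : Big g) {d : G} (hd : d ∈ cz g)
    (hdn : d ∉ Subgroup.center G) : cz d = cz g :=
  (hF _ _ hg hdn (h.abel hF hg d hd)).symm

theorem Big.comm (hF : IsF G) {g : G} (hg : g ∉ Subgroup.center G) (h : Big g) : ∀ x ∈ cz g, ∀ y ∈ cz g, x * y = y * x := by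
  intro x hx y hy
  exact (mem_cz.1 (h.abel hF hg x hx hy)).symm

/-- big centralizers of the same order are conjugate -/
theorem Big.conj (hF : IsF G) {g₁ g₂ : G} (h1 : g₁ ∉ Subgroup.center G) (h2 : g₂ ∉ Subgroup.center G) (hb : Big g₁)
    (hc : c g₁ = c g₂) : ∃ x : G, (cz g₂).map (MulAut.conj x).toMonoidHom = cz g₁ := by
  have hb2 : Big g₂ := hb.congr hc
  have hb' := hb
  obtain ⟨q, r, hq, hr, hqr, hu, hv⟩ := hb'
  have hl : ∀ ℓ : ℕ, ℓ = q ∨ ℓ = r → ℓ.Prime ∧ ∃ w ∈ cz g₁, w ∉ Subgroup.center G ∧ IsP ℓ w := by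
    rintro ℓ (rfl | rfl)
    · exact ⟨hq, hu⟩
    · exact ⟨hr, hv⟩
  obtain ⟨ℓ, hℓ, hcov⟩ := covS hq hr hqr (cz g₁) (fun ℓ _ w hw hwn _ => hb.cz_eq hF h1 hw hwn) (fun ℓ hℓ => (hl ℓ hℓ).2)
  obtain ⟨hℓ1, hℓ2⟩ := hl ℓ hℓ
  obtain ⟨u, hu2, hun, huℓ⟩ := mem_card hℓ1 hc hℓ2
  have hcomm := hb2.comm hF h2
  obtain ⟨x, hx⟩ := hcov u (prt ℓ (cz g₂) (fun x hx _ y hy => hcomm x hx y hy)) ⟨hu2, huℓ⟩ (prt_pgroup hℓ1)
    (fun a ha b hb' => hcomm a ha.1 b hb'.1) (by
      rw [card_prt hℓ1]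
      change ℓ ^ (c g₁).factorization ℓ ≤ ℓ ^ (c g₂).factorization ℓ
      rw [hc])
  refine ⟨x, ?_⟩
  rw [← hb2.cz_eq hF h2 hu2 hun, ← cz_conj]
  exact hb.cz_eq hF h1 hx (nc_conj hun)

/-- the main case -/
theorem Dat.solvable (h : Dat G a b) : Group.IsSolvable G := by
  classical
  have hF : IsF G := fun g₁ g₂ h1 h2 hle => h.isF h1 h2 hle
  -- a big element
  obtain ⟨g₁, m, m₂, hg₁, hcm, hbig, hmm⟩ : ∃ (g₁ : G) (m m₂ : ℕ), g₁ ∉ Subgroup.center G ∧ c g₁ = m ∧ Big g₁ ∧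
      ∀ g : G, g ∉ Subgroup.center G → c g = m ∨ c g = m₂ := by
    obtain ⟨r₁, p1, -, -, u₁, n1, i1⟩ := h.pi3 0 0
    obtain ⟨r₂, p2, e21, -, u₂, n2, i2⟩ := h.pi3 r₁ r₁
    obtain ⟨r₃, p3, e31, e32, u₃, n3, i3⟩ := h.pi3 r₁ r₂
    have key : ∀ (u v : G) (r s : ℕ), r.Prime → s.Prime → r ≠ s → u ∉ Subgroup.center G → v ∉ Subgroup.center G → IsP r u →
        IsP s v → c u = c v → Big u := by
      intro u v r s hr hs hrs hu hv hur hvs he
      exact ⟨r, s, hr, hs, hrs, ⟨u, self_mem u, hu, hur⟩, mem_card hs he.symm ⟨v, self_mem v, hv, hvs⟩⟩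
    have two := h.two
    have fin : ∀ u : G, u ∉ Subgroup.center G → Big u → ∃ (g₁ : G) (m m₂ : ℕ), g₁ ∉ Subgroup.center G ∧ c g₁ = m ∧ Big g₁ ∧
        ∀ g : G, g ∉ Subgroup.center G → c g = m ∨ c g = m₂ := by
      intro u hu hub
      rcases two u hu with e | e
      · exact ⟨u, a, b, hu, e, hub, two⟩
      · exact ⟨u, b, a, hu, e, hub, fun g hg => (two g hg).symm⟩
    by_cases e12 : c u₁ = c u₂
    · exact fin u₁ n1 (key u₁ u₂ r₁ r₂ p1 p2 e21.symm n1 n2 i1 i2 e12)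
    by_cases e13 : c u₁ = c u₃
    · exact fin u₁ n1 (key u₁ u₃ r₁ r₃ p1 p3 e31.symm n1 n3 i1 i3 e13)
    have e23 : c u₂ = c u₃ := by
      rcases two u₁ n1 with a1 | a1 <;> rcases two u₂ n2 with a2 | a2 <;> rcases two u₃ n3 with a3 | a3 <;>
        first
          | exact a2.trans a3.symm
          | exact absurd (a1.trans a2.symm) e12
          | exact absurd (a1.trans a3.symm) e13
    exact fin u₂ n2 (key u₂ u₃ r₂ r₃ p2 p3 e32.symm n2 n3 i2 i3 e23)
  by_cases hI : ∃ p : ℕ, p.Prime ∧ ∀ g : G, g ∉ Subgroup.center G → c g ≠ m → ∀ q : ℕ, q.Prime → ∀ u ∈ cz g,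
      u ∉ Subgroup.center G → IsP q u → q = p
  · obtain ⟨p, hp, hpI⟩ := hI
    apply CI.solvable (D := cz g₁) hp
    refine ⟨⟨fun d hd hdn => hbig.cz_eq hF hg₁ hd hdn, ?_⟩, ?_⟩
    · intro s
      obtain ⟨r, hr, hrp, hrs, u, hun, hur⟩ := h.pi3 p s
      refine ⟨r, hr, hrp, hrs, ?_⟩
      have hcu : c u = m := by
        by_contra hn
        exact hrp (hpI u hun hn r hr u (self_mem u) hun hur)
      exact mem_card hr (hcu.trans hcm.symm) ⟨u, self_mem u, hun, hur⟩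
    · intro q hq hqp g hg hgq
      have hcg : c g = m := by
        by_contra hn
        exact hqp (hpI g hg hn q hq g (self_mem g) hg hgq)
      obtain ⟨x, hx⟩ := hbig.conj hF hg₁ hg (hcm.trans hcg.symm)
      refine ⟨x, ?_⟩
      rw [← hx]
      exact ⟨g, self_mem g, rfl⟩
  · push_neg at hI
    obtain ⟨g₀, hg₀, hc₀, q₀, hq₀, u₀, hu₀, hu₀n, hu₀q, -⟩ := hI 2 Nat.prime_two
    obtain ⟨g₂, hg₂, hc₂, q₁, hq₁, u₁, hu₁, hu₁n, hu₁q, hne⟩ := hI q₀ hq₀
    have e0 := (hmm g₀ hg₀).resolve_left hc₀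
    have e2 := (hmm g₂ hg₂).resolve_left hc₂
    have hbig₂ : Big g₂ := ⟨q₁, q₀, hq₁, hq₀, hne, ⟨u₁, hu₁, hu₁n, hu₁q⟩,
      mem_card hq₀ (e0.trans e2.symm) ⟨u₀, hu₀, hu₀n, hu₀q⟩⟩
    apply TI0.solvable_two (D₁ := cz g₁) (D₂ := cz g₂) ⟨fun d hd hdn => hbig.cz_eq hF hg₁ hd hdn, g₁, self_mem g₁, hg₁⟩
      ⟨fun d hd hdn => hbig₂.cz_eq hF hg₂ hd hdn, g₂, self_mem g₂, hg₂⟩
    intro g hg
    rcases hmm g hg with e | e
    · left
      obtain ⟨x, hx⟩ := hbig.conj hF hg₁ hg (hcm.trans e.symm)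
      refine ⟨x, ?_⟩
      rw [← hx]
      exact ⟨g, self_mem g, rfl⟩
    · right
      obtain ⟨x, hx⟩ := hbig₂.conj hF hg₂ hg (e2.trans e.symm)
      refine ⟨x, ?_⟩
      rw [← hx]
      exact ⟨g, self_mem g, rfl⟩

theorem two_primes {n p q : ℕ} (hp : p.Prime) (hn : n ≠ 0) (h : ∀ s : ℕ, s.Prime → s ∣ n → s = p ∨ s = q) :
    ∃ i j : ℕ, n = p ^ i * q ^ j := by
  refine ⟨n.factorization p, (ordCompl[p] n).primeFactorsList.length, ?_⟩
  rw [← Nat.eq_prime_pow_of_unique_prime_dvd (n := ordCompl[p] n) (p := q) (Nat.ordCompl_pos p hn).ne', Nat.ordProj_mul_ordCompl_eq_self]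
  intro d hd hdv
  rcases h d hd (hdv.trans (Nat.ordCompl_dvd n p)) with e | e
  · exfalso
    rw [e] at hdv
    exact Nat.not_dvd_ordCompl hp hn hdv
  · exact e

/-- Ito's theorem -/
theorem ito {n₁ n₂ : ℕ} (h12 : n₂ < n₁)
    (h : ∀ x : G, (Subgroup.centralizer ({x} : Set G)).index = 1 ∨ (Subgroup.centralizer ({x} : Set G)).index = n₂ ∨
      (Subgroup.centralizer ({x} : Set G)).index = n₁) : Group.IsSolvable G := by
  classical
  by_cases hpi : ∀ s t : ℕ, ∃ r : ℕ, r.Prime ∧ r ≠ s ∧ r ≠ t ∧ ∃ u : G, u ∉ Subgroup.center G ∧ IsP r u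
  · have hcard : ∀ x : G, c x * (Subgroup.centralizer ({x} : Set G)).index = Nat.card G := fun x =>
      Subgroup.card_mul_index (Subgroup.centralizer ({x} : Set G))
    -- noncentral elements
    have hnc : ∀ x : G, x ∉ Subgroup.center G → (Subgroup.centralizer ({x} : Set G)).index ≠ 1 := by
      intro x hx he
      apply hx
      apply center_of_cz_top
      exact Subgroup.index_eq_one.1 he
    have hn2 : n₂ = 0 ∨ 0 < n₂ := Nat.eq_zero_or_pos n₂
    have hidx : ∀ x : G, (Subgroup.centralizer ({x} : Set G)).index ≠ 0 := fun x => Subgroup.index_ne_zero_of_finite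
    by_cases hone : ∃ n : ℕ, ∀ x : G, x ∉ Subgroup.center G → (Subgroup.centralizer ({x} : Set G)).index = n
    · -- a single size : take `b` arbitrary
      obtain ⟨n, hn⟩ := hone
      apply Dat.solvable (a := Nat.card G / n) (b := Nat.card G / n + 1)
      refine ⟨by omega, ?_, hpi⟩
      intro g hg
      left
      have h1 := hcard g
      have h2 := hn g hg
      rw [h2] at h1
      have hn0 : 0 < n := Nat.pos_of_ne_zero (h2 ▸ hidx g)
      rw [← h1, Nat.mul_div_cancel _ hn0]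
    · push_neg at hone
      obtain ⟨x₁, hx₁, hi₁⟩ := hone n₂
      obtain ⟨x₂, hx₂, hi₂⟩ := hone n₁
      have e1 : (Subgroup.centralizer ({x₁} : Set G)).index = n₁ := ((h x₁).resolve_left (hnc x₁ hx₁)).resolve_left hi₁
      have e2 : (Subgroup.centralizer ({x₂} : Set G)).index = n₂ := ((h x₂).resolve_left (hnc x₂ hx₂)).resolve_right hi₂
      have hn1 : 0 < n₁ := Nat.pos_of_ne_zero (e1 ▸ hidx x₁)
      have hn2 : 0 < n₂ := Nat.pos_of_ne_zero (e2 ▸ hidx x₂)
      apply Dat.solvable (a := Nat.card G / n₁) (b := Nat.card G / n₂)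
      refine ⟨?_, ?_, hpi⟩
      · have k1 := hcard x₁
        have k2 := hcard x₂
        rw [e1] at k1
        rw [e2] at k2
        have l1 : Nat.card G / n₁ = c x₁ := by rw [← k1, Nat.mul_div_cancel _ hn1]
        have l2 : Nat.card G / n₂ = c x₂ := by rw [← k2, Nat.mul_div_cancel _ hn2]
        rw [l1, l2]
        have p1 : 0 < c x₁ := c_pos x₁
        by_contra hle
        push_neg at hle
        have : c x₂ * n₂ < c x₁ * n₁ := by
          calc c x₂ * n₂ ≤ c x₁ * n₂ := Nat.mul_le_mul_right _ hle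
            _ < c x₁ * n₁ := Nat.mul_lt_mul_of_pos_left h12 p1
        omega
      · intro g hg
        have h1 := hcard g
        rcases (h g).resolve_left (hnc g hg) with e | e
        · right
          rw [e] at h1
          rw [← h1, Nat.mul_div_cancel _ hn2]
        · left
          rw [e] at h1
          rw [← h1, Nat.mul_div_cancel _ hn1]
  · push_neg at hpi
    obtain ⟨s, t, hst⟩ := hpi
    -- the order of `G/Z` involves two primes
    have hprimes : ∀ r : ℕ, r.Prime → r ∣ Nat.card (G ⧸ Subgroup.center G) → r = s ∨ r = t := by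
      intro r hr hrd
      by_contra hcon
      push_neg at hcon
      have h1 : r ∣ (Subgroup.center G).relIndex ⊤ := by
        rw [Subgroup.relIndex_top_right]; exact hrd
      obtain ⟨u, -, hun, hur⟩ := exists_of_dvd (Z := Subgroup.center G) (D := ⊤) le_top
        (le_normalizer_of_central (fun z hz d _ => (Subgroup.mem_center_iff.1 hz d).symm)) hr h1
      exact hst r hr hcon.1 hcon.2 u hun hur
    have hq : Group.IsSolvable (G ⧸ Subgroup.center G) := by
      have hs' : ∃ s' t' : ℕ, s'.Prime ∧ t'.Prime ∧ ∀ r : ℕ, r.Prime → r ∣ Nat.card (G ⧸ Subgroup.center G) → r = s' ∨ r = t' := by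
        refine ⟨if s.Prime then s else 2, if t.Prime then t else 2, ?_, ?_, ?_⟩
        · split_ifs with h1
          · exact h1
          · exact Nat.prime_two
        · split_ifs with h1
          · exact h1
          · exact Nat.prime_two
        · intro r hr hrd
          rcases hprimes r hr hrd with e | e
          · left
            rw [if_pos (e ▸ hr)]; exact e
          · right
            rw [if_pos (e ▸ hr)]; exact e
      obtain ⟨s', t', hs', ht', hr'⟩ := hs'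
      obtain ⟨i, j, hij⟩ := two_primes hs' Nat.card_pos.ne' hr'
      exact Cfsg.Agent.S0144.result s' t' i j hs' ht' hij
    have s5 : Group.IsSolvable (Subgroup.center G) :=
      isSolvable_of_comm (fun a b => Subtype.ext (Subgroup.mem_center_iff.1 b.2 a))
    exact solvable_of_ker_le_range (Subgroup.center G).subtype (QuotientGroup.mk' (Subgroup.center G)) (by
      rw [QuotientGroup.ker_mk', Subgroup.range_subtype])

end Cfsg.Agent.ItoCS
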