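import Cfsg.Agent.H35.CRb
import Cfsg.Agent.H67.ConjCover
/-!
Groups with two noncentral class sizes: basic facts.
-/
set_option autoImplicit false
set_option linter.all false

namespace Cfsg.Agent.ItoCS

open Cfsg.Agent.H35.CR

universe u

variable {G : Type u} [Group G]

/-- elements of `p`-power order -/
def IsP (p : ℕ) (g : G) : Prop := ∃ k : ℕ, g ^ p ^ k = 1

theorem IsP.conj {p : ℕ} {g : G} (h : IsP p g) (x : G) : IsP p (x * g * x⁻¹) := by
  obtain ⟨k, hk⟩ := h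
  exact ⟨k, by rw [conj_pow, hk, mul_one, mul_inv_cancel]⟩

theorem IsP.mem_zpowers {p : ℕ} {g h : G} (hg : IsP p g) (hh : h ∈ Subgroup.zpowers g) : IsP p h := by
  obtain ⟨k, hk⟩ := hg
  obtain ⟨i, rfl⟩ := Subgroup.mem_zpowers_iff.1 hh
  refine ⟨k, ?_⟩
  rw [← zpow_natCast, ← zpow_mul, mul_comm, zpow_mul, zpow_natCast, hk, one_zpow]

theorem cz_mul {x w : G} (hxw : x * w = w * x) (hcop : (orderOf x).Coprime (orderOf w)) :
    cz (x * w) = cz x ⊓ cz w := by
  apply le_antisymm (le_inf (cz_mul_le hxw hcop) (cz_mul_le' hxw hcop))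
  intro g hg
  obtain ⟨h1, h2⟩ := Subgroup.mem_inf.1 hg
  rw [mem_cz] at h1 h2 ⊢
  exact (show Commute g x from h1).mul_right (show Commute g w from h2)

theorem cz_top_of_center {g : G} (h : g ∈ Subgroup.center G) : cz g = ⊤ := by
  rw [eq_top_iff]
  intro x _
  rw [mem_cz]
  exact Subgroup.mem_center_iff.1 h x

theorem center_of_cz_top {g : G} (h : cz g = ⊤) : g ∈ Subgroup.center G := by
  rw [Subgroup.mem_center_iff]
  intro x
  have : x ∈ cz g := by rw [h]; trivial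
  exact mem_cz.1 this

theorem nc_of_le {g h : G} (hh : h ∉ Subgroup.center G) (hle : cz g ≤ cz h) : g ∉ Subgroup.center G := by
  intro hg
  apply hh
  apply center_of_cz_top
  rw [eq_top_iff, ← cz_top_of_center hg]
  exact hle

theorem center_le_cz (g : G) : Subgroup.center G ≤ cz g := by
  intro x hx
  rw [mem_cz]
  exact (Subgroup.mem_center_iff.1 hx g).symm

theorem cz_conj (x g : G) : cz (x * g * x⁻¹) = (cz g).map (MulAut.conj x).toMonoidHom := by
  ext y
  constructor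
  · intro hy
    refine ⟨x⁻¹ * y * x, ?_, ?_⟩
    · show x⁻¹ * y * x ∈ cz g
      rw [mem_cz] at hy ⊢
      have : x⁻¹ * (y * (x * g * x⁻¹)) * x = x⁻¹ * ((x * g * x⁻¹) * y) * x := by rw [hy]
      simpa [mul_assoc] using this
    · show x * (x⁻¹ * y * x) * x⁻¹ = y
      group
  · rintro ⟨z, hz, rfl⟩
    have hz' : z * g = g * z := mem_cz.1 hz
    rw [mem_cz]
    show x * z * x⁻¹ * (x * g * x⁻¹) = x * g * x⁻¹ * (x * z * x⁻¹)
    calc x * z * x⁻¹ * (x * g * x⁻¹) = x * (z * g) * x⁻¹ := by group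
      _ = x * (g * z) * x⁻¹ := by rw [hz']
      _ = x * g * x⁻¹ * (x * z * x⁻¹) := by group

variable [Finite G]

theorem IsP.coprime {p q : ℕ} (hp : p.Prime) (hq : q.Prime) (hpq : p ≠ q) {x w : G} (hx : IsP p x) (hw : IsP q w) :
    (orderOf x).Coprime (orderOf w) := by
  obtain ⟨i, hi⟩ := hx
  obtain ⟨j, hj⟩ := hw
  exact Nat.Coprime.coprime_dvd_left (orderOf_dvd_of_pow_eq_one hi)
    (Nat.Coprime.coprime_dvd_right (orderOf_dvd_of_pow_eq_one hj)
      (Nat.Coprime.pow_left _ (Nat.Coprime.pow_right _ ((Nat.coprime_primes hp hq).2 hpq))))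

theorem IsP.cop {p : ℕ} (hp : p.Prime) {x w : G} (hx : IsP p x) (hw : ¬ p ∣ orderOf w) :
    (orderOf x).Coprime (orderOf w) := by
  obtain ⟨i, hi⟩ := hx
  exact orderOf_two_pow_coprime hp hi hw

theorem IsP.not_dvd {p q : ℕ} (hp : p.Prime) (hq : q.Prime) (hpq : p ≠ q) {x : G} (hx : IsP p x) :
    ¬ q ∣ orderOf x := by
  obtain ⟨i, hi⟩ := hx
  intro h
  have := h.trans (orderOf_dvd_of_pow_eq_one hi)
  exact hpq ((Nat.prime_dvd_prime_iff_eq hq hp).1 (hq.dvd_of_dvd_pow this)).symm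

theorem orderOf_dvd_of_mem_zpowers' {g h : G} (hh : h ∈ Subgroup.zpowers g) : orderOf h ∣ orderOf g :=
  orderOf_dvd_of_mem_zpowers hh

/-- an element outside a subgroup has a primary part outside it -/
theorem prime_part (X : Subgroup G) : ∀ (n : ℕ) (g : G), orderOf g ≤ n → g ∉ X →
    ∃ (p : ℕ) (h : G), p.Prime ∧ h ∈ Subgroup.zpowers g ∧ h ∉ X ∧ IsP p h ∧ p ∣ orderOf g := by
  intro n
  induction n with
  | zero =>
    intro g hg
    exact absurd hg (by have := orderOf_pos g; omega)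
  | succ n ih =>
    intro g hg hgX
    have hg1 : orderOf g ≠ 1 := by
      intro h
      rw [orderOf_eq_one_iff] at h
      exact hgX (h ▸ X.one_mem)
    obtain ⟨p, hp, hpg⟩ := Nat.exists_prime_and_dvd hg1
    obtain ⟨x, w, hx, hw, hxw, hxp, hwp⟩ := split g hp
    by_cases hxX : x ∈ X
    · have hwX : w ∉ X := fun h => hgX (hxw ▸ X.mul_mem hxX h)
      have hle : orderOf w ∣ orderOf g := orderOf_dvd_of_mem_zpowers hw
      have hlt : orderOf w < orderOf g := by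
        refine lt_of_le_of_ne (Nat.le_of_dvd (orderOf_pos g) hle) ?_
        intro h
        exact hwp (h ▸ hpg)
      obtain ⟨q, h, hq, h1, h2, h3, h4⟩ := ih w (by omega) hwX
      refine ⟨q, h, hq, ?_, h2, h3, h4.trans hle⟩
      exact (Subgroup.zpowers_le.2 hw) h1
    · exact ⟨p, x, hp, hx, hxX, hxp, hpg⟩

theorem prime_part' {X : Subgroup G} {g : G} (hg : g ∉ X) :
    ∃ (p : ℕ) (h : G), p.Prime ∧ h ∈ Subgroup.zpowers g ∧ h ∉ X ∧ IsP p h ∧ p ∣ orderOf g :=
  prime_part X (orderOf g) g le_rfl hg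

/-- `r`-elements outside a normal subgroup -/
theorem dvd_of_mem {Z D : Subgroup G} (hZD : Z ≤ D) (hn : D ≤ Subgroup.normalizer (Z : Set G)) {r : ℕ} (hr : r.Prime)
    {u : G} (hu : u ∈ D) (huZ : u ∉ Z) (hur : IsP r u) : r ∣ Z.relIndex D := by
  haveI : (Z.subgroupOf D).Normal := Subgroup.normal_subgroupOf_of_le_normalizer hn
  set q : D ⧸ Z.subgroupOf D := QuotientGroup.mk ⟨u, hu⟩ with hq
  have hq1 : q ≠ 1 := by
    intro h
    rw [hq, QuotientGroup.eq_one_iff, Subgroup.mem_subgroupOf] at h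
    exact huZ h
  obtain ⟨k, hk⟩ := hur
  have hqk : q ^ r ^ k = 1 := by
    rw [hq, ← QuotientGroup.mk_pow]
    have : (⟨u, hu⟩ : D) ^ r ^ k = 1 := Subtype.ext hk
    rw [this, QuotientGroup.mk_one]
  have h1 : orderOf q ∣ r ^ k := orderOf_dvd_of_pow_eq_one hqk
  obtain ⟨j, -, hj⟩ := (Nat.dvd_prime_pow hr).1 h1
  have hj0 : j ≠ 0 := by
    rintro rfl
    rw [pow_zero, orderOf_eq_one_iff] at hj
    exact hq1 hj
  have h2 : r ∣ orderOf q := by rw [hj]; exact dvd_pow_self r hj0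
  exact h2.trans (orderOf_dvd_natCard q)

theorem exists_of_dvd {Z D : Subgroup G} (hZD : Z ≤ D) (hn : D ≤ Subgroup.normalizer (Z : Set G)) {r : ℕ} (hr : r.Prime)
    (hd : r ∣ Z.relIndex D) : ∃ u ∈ D, u ∉ Z ∧ IsP r u := by
  haveI : (Z.subgroupOf D).Normal := Subgroup.normal_subgroupOf_of_le_normalizer hn
  haveI : Fact r.Prime := ⟨hr⟩
  obtain ⟨q, hq⟩ := exists_prime_orderOf_dvd_card' (G := D ⧸ Z.subgroupOf D) r hd
  obtain ⟨d, rfl⟩ := QuotientGroup.mk_surjective q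
  obtain ⟨x, w, hx, hw, hxw, hxp, hwp⟩ := split (d : G) hr
  have hxD : x ∈ D := (Subgroup.zpowers_le.2 d.2) hx
  have hwD : w ∈ D := (Subgroup.zpowers_le.2 d.2) hw
  refine ⟨x, hxD, ?_, hxp⟩
  intro hxZ
  have h1 : (QuotientGroup.mk d : D ⧸ Z.subgroupOf D) = QuotientGroup.mk (⟨w, hwD⟩ : D) := by
    have : d = (⟨x, hxD⟩ : D) * ⟨w, hwD⟩ := Subtype.ext hxw
    rw [this, QuotientGroup.mk_mul]
    have : (QuotientGroup.mk (⟨x, hxD⟩ : D) : D ⧸ Z.subgroupOf D) = 1 := by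
      rw [QuotientGroup.eq_one_iff, Subgroup.mem_subgroupOf]; exact hxZ
    rw [this, one_mul]
  have h2 : orderOf (QuotientGroup.mk (⟨w, hwD⟩ : D) : D ⧸ Z.subgroupOf D) ∣ orderOf w := by
    apply orderOf_dvd_of_pow_eq_one
    rw [← QuotientGroup.mk_pow]
    have : (⟨w, hwD⟩ : D) ^ orderOf w = 1 := Subtype.ext (pow_orderOf_eq_one w)
    rw [this, QuotientGroup.mk_one]
  rw [← h1, hq] at h2
  exact hwp h2

/-- the central case, in terms of orders -/
theorem central_iff {Z D : Subgroup G} (hZD : Z ≤ D) (hn : D ≤ Subgroup.normalizer (Z : Set G)) {r : ℕ} (hr : r.Prime) :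
    (∃ u ∈ D, u ∉ Z ∧ IsP r u) ↔ r ∣ Nat.card D / Nat.card Z := by
  have h : Z.relIndex D = Nat.card D / Nat.card Z := by
    have h1 := (Z.subgroupOf D).card_mul_index
    rw [Nat.card_congr (Subgroup.subgroupOfEquivOfLe hZD).toEquiv] at h1
    rw [← h1, Nat.mul_div_cancel_left _ Nat.card_pos]
    rfl
  rw [← h]
  constructor
  · rintro ⟨u, hu, huZ, hur⟩
    exact dvd_of_mem hZD hn hr hu huZ hur
  · exact exists_of_dvd hZD hn hr

theorem le_normalizer_of_central {Z D : Subgroup G} (h : ∀ z ∈ Z, ∀ d ∈ D, z * d = d * z) :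
    D ≤ Subgroup.normalizer (Z : Set G) := by
  intro d hd
  rw [Subgroup.mem_normalizer_iff]
  intro z
  constructor
  · intro hz
    have h1 : d * z * d⁻¹ = z := by rw [← h z hz d hd, mul_inv_cancel_right]
    rw [h1]; exact hz
  · intro hz
    have h1 := h _ hz d hd
    have h2 : z = d * z * d⁻¹ := by
      have : d * z * d⁻¹ * d = d * (d * z * d⁻¹) := h1
      have h3 : d * z = d * (d * z * d⁻¹) := by
        calc d * z = d * z * d⁻¹ * d := by group
          _ = _ := this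
      exact mul_left_cancel h3
    rw [h2]; exact hz

theorem exists_of_card {Z D D' : Subgroup G} (h : ∀ z ∈ Z, ∀ d ∈ D, z * d = d * z) (h' : ∀ z ∈ Z, ∀ d ∈ D', z * d = d * z)
    (hZ : Z ≤ D) (hZ' : Z ≤ D') {r : ℕ} (hr : r.Prime) (hc : Nat.card D = Nat.card D')
    (hu : ∃ u ∈ D, u ∉ Z ∧ IsP r u) : ∃ u ∈ D', u ∉ Z ∧ IsP r u := by
  rw [central_iff hZ (le_normalizer_of_central h) hr] at hu
  rw [central_iff hZ' (le_normalizer_of_central h') hr, ← hc]
  exact hu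

end Cfsg.Agent.ItoCS
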