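import Cfsg.Agent.ItoCS.TI
/-!
TI subgroups modulo the centre which are centralizers of all their noncentral elements: rank lemma etc.
-/
set_option autoImplicit false
set_option linter.all false

namespace Cfsg.Agent.ItoCS

open Cfsg.Agent.H35.CR

universe u

variable {G : Type u} [Group G] [Finite G]

/-- TI-type data -/
structure TI (G : Type u) [Group G] (p : ℕ) (D : Subgroup G) : Prop where
  hD : ∀ d ∈ D, d ∉ Subgroup.center G → cz d = D
  h2 : ∀ s : ℕ, ∃ q : ℕ, q.Prime ∧ q ≠ p ∧ q ≠ s ∧ ∃ w ∈ D, w ∉ Subgroup.center G ∧ IsP q w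

namespace TI

variable {p : ℕ} {D : Subgroup G}

theorem center_le (h : TI G p D) : Subgroup.center G ≤ D := by
  obtain ⟨q, -, -, -, w, hw, hwn, -⟩ := h.h2 0
  rw [← h.hD w hw hwn]
  exact center_le_cz w

theorem comm (h : TI G p D) {a b : G} (ha : a ∈ D) (hb : b ∈ D) : a * b = b * a := by
  by_cases hac : a ∈ Subgroup.center G
  · exact (Subgroup.mem_center_iff.1 hac b).symm
  · rw [← h.hD a ha hac] at hb
    exact (mem_cz.1 hb).symm

theorem of_comm (h : TI G p D) {g d : G} (hg : g ∉ D) (hd : d ∈ D) (hc : g * d = d * g) : d ∈ Subgroup.center G := by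
  by_contra hdn
  apply hg
  rw [← h.hD d hd hdn]
  exact mem_cz.2 hc

theorem eq_of (h : TI G p D) {p' : ℕ} {E : Subgroup G} (hE : TI G p' E) {w : G} (hwD : w ∈ D) (hwE : w ∈ E)
    (hwn : w ∉ Subgroup.center G) : D = E := by
  rw [← h.hD w hwD hwn, hE.hD w hwE hwn]

theorem map_of (h : TI G p D) {g w : G} (hw : w ∈ D) (hwn : w ∉ Subgroup.center G) (h' : g * w * g⁻¹ ∈ D) :
    D.map (MulAut.conj g).toMonoidHom = D := by
  have h1 : cz (g * w * g⁻¹) = D := h.hD _ h' (nc_conj hwn)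
  rw [cz_conj, h.hD w hw hwn] at h1
  exact h1

theorem norm_of_map {g : G} (h1 : D.map (MulAut.conj g).toMonoidHom = D) : g ∈ Subgroup.normalizer (D : Set G) := by
  rw [Subgroup.mem_normalizer_iff]
  intro x
  constructor
  · intro hx
    rw [← h1]
    exact ⟨x, hx, rfl⟩
  · intro hx
    rw [← h1] at hx
    obtain ⟨y, hy, hyx⟩ := hx
    have h2 : g * y * g⁻¹ = g * x * g⁻¹ := hyx
    have h3 : y = x := mul_left_cancel (mul_right_cancel h2)
    rw [← h3]; exact hy

theorem norm_of (h : TI G p D) {g w : G} (hw : w ∈ D) (hwn : w ∉ Subgroup.center G) (h' : g * w * g⁻¹ ∈ D) :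
    g ∈ Subgroup.normalizer (D : Set G) := norm_of_map (h.map_of hw hwn h')

theorem conj_mem (h : TI G p D) {g d : G} (hg : g ∈ Subgroup.normalizer (D : Set G)) (hd : d ∈ D) : g * d * g⁻¹ ∈ D :=
  (Subgroup.mem_normalizer_iff.1 hg d).1 hd

theorem norm_of_cm (h : TI G p D) {g w : G} (hw : w ∈ D) (hwn : w ∉ Subgroup.center G) (h' : g ∈ cm w) :
    g ∈ Subgroup.normalizer (D : Set G) := by
  obtain ⟨z, hz, he⟩ := mem_cm'.1 h'
  apply h.norm_of hw hwn
  rw [he]
  exact D.mul_mem hw (h.center_le hz)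

/-- the action on `D` -/
def cje (D : Subgroup G) (g : Subgroup.normalizer (D : Set G)) : Monoid.End D :=
  (D.normalizerMonoidHom g).toMonoidHom

theorem cje_coe (g : Subgroup.normalizer (D : Set G)) (d : D) : ((cje D g d : D) : G) = g * d * (g : G)⁻¹ := rfl

theorem cje_mul (a b : Subgroup.normalizer (D : Set G)) : cje D (a * b) = cje D a * cje D b := by
  ext d
  rw [cje_coe]
  show _ = ((cje D a (cje D b d) : D) : G)
  rw [cje_coe, cje_coe]
  simp only [Subgroup.coe_mul]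
  group

theorem cje_one : cje D (1 : Subgroup.normalizer (D : Set G)) = 1 := by
  ext d
  rw [cje_coe]
  show _ = (d : G)
  simp

theorem cje_pow (a : Subgroup.normalizer (D : Set G)) (n : ℕ) : cje D (a ^ n) = cje D a ^ n := by
  induction n with
  | zero => rw [pow_zero, pow_zero, cje_one]
  | succ n ih => rw [pow_succ, pow_succ, cje_mul, ih]

theorem cje_eq_one (h : TI G p D) (a : Subgroup.normalizer (D : Set G)) (ha : (a : G) ∈ D) : cje D a = 1 := by
  ext d
  rw [cje_coe]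
  show _ = (d : G)
  rw [h.comm ha d.2]; group

/-- the rank lemma: `N(D)/D` has no elementary abelian subgroup of order `ℓ²` -/
theorem rank (h : TI G p D) {ℓ : ℕ} (hℓ : ℓ.Prime) {x₁ x₂ : G} (h1 : x₁ ∈ Subgroup.normalizer (D : Set G))
    (h2 : x₂ ∈ Subgroup.normalizer (D : Set G)) (p1 : x₁ ^ ℓ ∈ D) (p2 : x₂ ^ ℓ ∈ D) (hc : x₁ * x₂ * x₁⁻¹ * x₂⁻¹ ∈ D)
    (hx2 : x₂ ∉ D) : ∃ i : ℕ, x₁ * x₂ ^ i ∈ D := by
  by_contra hcon
  push_neg at hcon
  letI : CommGroup D := { (inferInstance : Group D) with mul_comm := fun a b => Subtype.ext (h.comm a.2 b.2) }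
  set y₁ : Subgroup.normalizer (D : Set G) := ⟨x₁, h1⟩ with hy₁
  set y₂ : Subgroup.normalizer (D : Set G) := ⟨x₂, h2⟩ with hy₂
  have hcomm : Commute (cje D y₁) (cje D y₂) := by
    have e : y₁ * y₂ = (y₁ * y₂ * y₁⁻¹ * y₂⁻¹) * (y₂ * y₁) := by group
    have e1 : cje D (y₁ * y₂ * y₁⁻¹ * y₂⁻¹) = 1 := h.cje_eq_one _ hc
    show cje D y₁ * cje D y₂ = cje D y₂ * cje D y₁
    rw [← cje_mul, e, cje_mul, e1, one_mul, cje_mul]
  -- norms are central
  have hnorm : ∀ g : Subgroup.normalizer (D : Set G), (g : G) ∉ D → (g : G) ^ ℓ ∈ D → ∀ a : D,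
      ∏ j ∈ Finset.range ℓ, ((cje D g) ^ j) a ∈ (Subgroup.center G).subgroupOf D := by
    intro g hg hgℓ a
    have e1 : (cje D g) ^ ℓ = 1 := by
      rw [← cje_pow]
      exact h.cje_eq_one _ (by rw [Subgroup.coe_pow]; exact hgℓ)
    have e2 := norm_fix (cje D g) ℓ e1 a
    rw [Subgroup.mem_subgroupOf]
    apply h.of_comm hg (Subtype.prop _)
    have e3 := congrArg (fun d : D => (d : G)) e2
    have e4 : (g : G) * ((∏ j ∈ Finset.range ℓ, ((cje D g) ^ j) a : D) : G) * (g : G)⁻¹ =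
      ((∏ j ∈ Finset.range ℓ, ((cje D g) ^ j) a : D) : G) := e3
    exact mul_inv_eq_iff_eq_mul.1 e4
  have key : ∀ a : D, a ^ ℓ ∈ (Subgroup.center G).subgroupOf D := by
    intro a
    apply rank_abs ((Subgroup.center G).subgroupOf D) ℓ hℓ.pos (cje D y₁) (cje D y₂) hcomm
    · intro z hz
      rw [Subgroup.mem_subgroupOf] at hz ⊢
      rw [cje_coe]
      exact (inferInstance : (Subgroup.center G).Normal).conj_mem _ hz _
    · intro i a
      rw [← cje_pow, ← cje_mul]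
      apply hnorm
      · show x₁ * ((y₂ ^ i : Subgroup.normalizer (D : Set G)) : G) ∉ D
        rw [Subgroup.coe_pow]
        exact hcon i
      · -- the ℓ-th power
        have e1 : cje D ((y₁ * y₂ ^ i) ^ ℓ) = 1 := by
          rw [cje_pow, cje_mul, cje_pow, (hcomm.pow_right i).mul_pow, ← cje_pow, ← pow_mul, mul_comm i ℓ, pow_mul, ← cje_pow y₂]
          rw [h.cje_eq_one (y₁ ^ ℓ) (by rw [Subgroup.coe_pow]; exact p1),
            h.cje_eq_one (y₂ ^ ℓ) (by rw [Subgroup.coe_pow]; exact p2), one_pow, one_mul]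
        obtain ⟨q, hq, -, -, w, hw, hwn, -⟩ := h.h2 0
        have e2 : (cje D ((y₁ * y₂ ^ i) ^ ℓ) ⟨w, hw⟩ : D) = ⟨w, hw⟩ := by rw [e1]; rfl
        have e3 := congrArg (fun d : D => (d : G)) e2
        have e4 : (((y₁ * y₂ ^ i) ^ ℓ : Subgroup.normalizer (D : Set G)) : G) * w *
            (((y₁ * y₂ ^ i) ^ ℓ : Subgroup.normalizer (D : Set G)) : G)⁻¹ = w := e3
        have e5 : (((y₁ * y₂ ^ i) ^ ℓ : Subgroup.normalizer (D : Set G)) : G) ∈ cz w :=
          mem_cz.2 (mul_inv_eq_iff_eq_mul.1 e4)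
        exact (h.hD w hw hwn) ▸ e5
    · intro j hj0 hjℓ a
      rw [← cje_pow]
      apply hnorm
      · rw [Subgroup.coe_pow]
        intro hmem
        apply hx2
        exact cop_mem hmem p2 ((hℓ.coprime_iff_not_dvd.2 (Nat.not_dvd_of_pos_of_lt hj0 hjℓ)).symm)
      · rw [Subgroup.coe_pow, ← pow_mul, mul_comm, pow_mul]
        exact D.pow_mem p2 j
  obtain ⟨q, hq, -, hqℓ, w, hw, hwn, hwq⟩ := h.h2 ℓ
  apply hwn
  apply hwq.mem_of_pow hq hℓ hqℓ
  have := key ⟨w, hw⟩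
  rw [Subgroup.mem_subgroupOf] at this
  exact this

end TI

end Cfsg.Agent.ItoCS
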