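import Cfsg.Agent.ItoCS.CI
/-!
TI subgroups modulo the centre: no involution in `N(D)/D`.
-/
set_option autoImplicit false
set_option linter.all false

namespace Cfsg.Agent.ItoCS

open Cfsg.Agent.H35.CR

universe u

variable {G : Type u} [Group G] [Finite G]

/-- a prime step outside a subgroup -/
theorem prime_step {X : Subgroup G} {g : G} (hg : g ∉ X) : ∃ (q : ℕ) (h : G), q.Prime ∧ h ∈ Subgroup.zpowers g ∧ h ∉ X ∧
    h ^ q ∈ X := by
  classical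
  have hex : ∃ n : ℕ, 0 < n ∧ g ^ n ∈ X := ⟨orderOf g, orderOf_pos g, by rw [pow_orderOf_eq_one]; exact X.one_mem⟩
  set n := Nat.find hex with hn
  obtain ⟨hn0, hnX⟩ := Nat.find_spec hex
  have hn1 : n ≠ 1 := by
    intro h
    rw [← hn, h, pow_one] at hnX
    exact hg hnX
  obtain ⟨q, hq, m, hm⟩ := Nat.exists_prime_and_dvd hn1
  have hm0 : 0 < m := by
    rcases Nat.eq_zero_or_pos m with h | h
    · rw [h, mul_zero] at hm; omega
    · exact h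
  refine ⟨q, g ^ m, hq, Subgroup.pow_mem _ (Subgroup.mem_zpowers g) m, ?_, ?_⟩
  · intro hmem
    have h1 := Nat.find_min' hex ⟨hm0, hmem⟩
    rw [← hn] at h1
    have h2 := hq.two_le
    nlinarith
  · rw [← pow_mul, mul_comm, ← hm]; exact hnX

namespace TI

variable {p : ℕ} {D : Subgroup G}

/-- elements acting trivially on `D` modulo the centre -/
theorem triv (h : TI G p D) {g : G} (hg : ∀ d ∈ D, g ∈ cm d) : g ∈ D := by
  by_contra hgD
  obtain ⟨q, g', hq, hg'g, hg'D, hg'q⟩ := prime_step hgD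
  have h1 : ∀ d ∈ D, g' ∈ cm d := fun d hd => (Subgroup.zpowers_le.2 (hg d hd)) hg'g
  have h2 : ∀ d ∈ D, d ^ q ∈ Subgroup.center G := by
    intro d hd
    apply h.of_comm hg'D (D.pow_mem hd q)
    have h3 : g' ^ q ∈ cz d := mem_cz.2 (h.comm hg'q hd)
    exact mem_cz.1 (pow_mem_cz' (h1 d hd) h3)
  obtain ⟨r, hr, -, hrq, w, hw, hwn, hwr⟩ := h.h2 q
  exact hwn (hwr.mem_of_pow hr hq hrq (h2 w hw))

/-- an element of `N(D) \ D` with square in `D` inverts `D` modulo the centre -/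
theorem inv_of (h : TI G p D) {t : G} (ht : t ∈ Subgroup.normalizer (D : Set G)) (htD : t ∉ D) (ht2 : t * t ∈ D)
    {d : G} (hd : d ∈ D) : d * (t * d * t⁻¹) ∈ Subgroup.center G := by
  have hd' := h.conj_mem ht hd
  apply h.of_comm htD (D.mul_mem hd hd')
  have h1 : t * (t * d * t⁻¹) * t⁻¹ = d := by
    have : t * t * d = d * (t * t) := h.comm ht2 hd
    calc t * (t * d * t⁻¹) * t⁻¹ = t * t * d * t⁻¹ * t⁻¹ := by group
      _ = d * (t * t) * t⁻¹ * t⁻¹ := by rw [this]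
      _ = d := by group
  have h2 : t * (d * (t * d * t⁻¹)) * t⁻¹ = d * (t * d * t⁻¹) := by
    calc t * (d * (t * d * t⁻¹)) * t⁻¹ = (t * d * t⁻¹) * (t * (t * d * t⁻¹) * t⁻¹) := by group
      _ = (t * d * t⁻¹) * d := by rw [h1]
      _ = _ := h.comm hd' hd
  exact mul_inv_eq_iff_eq_mul.1 h2

/-- no such element if there is a nontrivial `ℓ`-part in `N(D)/D` -/
theorem noV (h : TI G p D) {t : G} (ht : t ∈ Subgroup.normalizer (D : Set G)) (htD : t ∉ D) (ht2 : t * t ∈ D)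
    {ℓ : ℕ} (hℓ : ℓ.Prime) (hℓ2 : ℓ ≠ 2) {x y : G} (hy : y ∈ D) (hyn : y ∉ Subgroup.center G) (hyℓ : IsP ℓ y)
    (hxD : x ∉ D) (hxy : x ∈ cm y) : False := by
  have hx : x ∈ Subgroup.normalizer (D : Set G) := h.norm_of_cm hy hyn hxy
  -- in the quotient
  have hinv : ∀ d ∈ D, (QuotientGroup.mk t : G ⧸ Subgroup.center G) * QuotientGroup.mk d * (QuotientGroup.mk t)⁻¹ =
      (QuotientGroup.mk d)⁻¹ := by
    intro d hd
    have h1 := h.inv_of ht htD ht2 hd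
    have h2 := (QuotientGroup.eq_one_iff _).2 h1
    rw [QuotientGroup.mk_mul, QuotientGroup.mk_mul, QuotientGroup.mk_mul, QuotientGroup.mk_inv] at h2
    exact eq_inv_of_mul_eq_one_right h2
  have hc : t * x * t⁻¹ * x⁻¹ ∈ D := by
    apply h.triv
    intro d hd
    rw [mem_cm]
    -- `x⁻¹ d x ∈ D`
    have hd1 : x⁻¹ * d * x ∈ D := by
      have := h.conj_mem (Subgroup.inv_mem _ hx) hd
      rwa [inv_inv] at this
    have e1 := hinv _ hd1
    have e2 := hinv _ hd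
    rw [QuotientGroup.mk_mul, QuotientGroup.mk_mul, QuotientGroup.mk_inv] at e1
    rw [QuotientGroup.mk_mul, QuotientGroup.mk_mul, QuotientGroup.mk_mul, QuotientGroup.mk_inv, QuotientGroup.mk_inv]
    generalize (QuotientGroup.mk t : G ⧸ Subgroup.center G) = T at e1 e2 ⊢
    generalize (QuotientGroup.mk x : G ⧸ Subgroup.center G) = X at e1 e2 ⊢
    generalize (QuotientGroup.mk d : G ⧸ Subgroup.center G) = E at e1 e2 ⊢
    have e3 : T⁻¹ * E * T = E⁻¹ := by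
      have : E = T⁻¹ * E⁻¹ * T := by rw [← e2]; group
      calc T⁻¹ * E * T = (T⁻¹ * E⁻¹ * T)⁻¹ := by group
        _ = E⁻¹ := by rw [← this]
    have e4 : T * (X⁻¹ * E⁻¹ * X) * T⁻¹ = X⁻¹ * E * X := by
      calc T * (X⁻¹ * E⁻¹ * X) * T⁻¹ = (T * (X⁻¹ * E * X) * T⁻¹)⁻¹ := by group
        _ = (X⁻¹ * E * X)⁻¹⁻¹ := by rw [e1]
        _ = X⁻¹ * E * X := by rw [inv_inv]
    have e5 : T⁻¹ * (X⁻¹ * E * X) * T = X⁻¹ * E⁻¹ * X := by rw [← e4]; group
    have e6 : (T * X * T⁻¹ * X⁻¹) * E * (T * X * T⁻¹ * X⁻¹)⁻¹ = E := by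
      calc (T * X * T⁻¹ * X⁻¹) * E * (T * X * T⁻¹ * X⁻¹)⁻¹ = T * X * (T⁻¹ * (X⁻¹ * E * X) * T) * X⁻¹ * T⁻¹ := by group
        _ = T * X * (X⁻¹ * E⁻¹ * X) * X⁻¹ * T⁻¹ := by rw [e5]
        _ = (T * E * T⁻¹)⁻¹ := by group
        _ = E := by rw [e2, inv_inv]
    exact mul_inv_eq_iff_eq_mul.1 e6
  obtain ⟨z, hz, hxz⟩ := mem_cm'.1 hxy
  have hti := h.inv_of ht htD ht2 hy
  set v := y * (t * y * t⁻¹) with hv
  have hty : t * y * t⁻¹ = y⁻¹ * v := by rw [hv]; group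
  have kz : ∀ v ∈ Subgroup.center G, ∀ a : G, a * v = v * a := fun v hv a => Subgroup.mem_center_iff.1 hv a
  -- conjugate by `t`
  set k := t * x * t⁻¹ * x⁻¹ with hk
  have hkx : t * x * t⁻¹ = k * x := by rw [hk]; group
  have f1 : (k * x) * (y⁻¹ * v) * (k * x)⁻¹ = y⁻¹ * v * z := by
    rw [← hkx, ← hty]
    calc t * x * t⁻¹ * (t * y * t⁻¹) * (t * x * t⁻¹)⁻¹ = t * (x * y * x⁻¹) * t⁻¹ := by group
      _ = t * (y * z) * t⁻¹ := by rw [hxz]
      _ = t * y * (z * t⁻¹) := by group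
      _ = t * y * (t⁻¹ * z) := by rw [kz z hz]
      _ = _ := by group
  have f2 : x * y⁻¹ * x⁻¹ = y⁻¹ * z⁻¹ := by
    calc x * y⁻¹ * x⁻¹ = (x * y * x⁻¹)⁻¹ := by group
      _ = z⁻¹ * y⁻¹ := by rw [hxz]; group
      _ = y⁻¹ * z⁻¹ := (kz _ ((Subgroup.center G).inv_mem hz) _).symm
  have f3 : (k * x) * (y⁻¹ * v) * (k * x)⁻¹ = y⁻¹ * z⁻¹ * v := by
    calc (k * x) * (y⁻¹ * v) * (k * x)⁻¹ = k * (x * y⁻¹ * (v * x⁻¹)) * k⁻¹ := by group
      _ = k * (x * y⁻¹ * (x⁻¹ * v)) * k⁻¹ := by rw [kz v hti]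
      _ = k * (x * y⁻¹ * x⁻¹) * (v * k⁻¹) := by group
      _ = k * (y⁻¹ * z⁻¹) * (k⁻¹ * v) := by rw [f2, kz v hti]
      _ = (k * y⁻¹) * (z⁻¹ * k⁻¹) * v := by group
      _ = (y⁻¹ * k) * (k⁻¹ * z⁻¹) * v := by
        rw [h.comm hc (D.inv_mem hy), kz _ ((Subgroup.center G).inv_mem hz) k⁻¹]
      _ = y⁻¹ * z⁻¹ * v := by group
  have f4 : z * z = 1 := by
    rw [f3, mul_assoc, mul_assoc] at f1
    have f5 := mul_left_cancel f1
    rw [kz z hz v] at f5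
    have f6 := mul_right_cancel f5
    exact mul_eq_one_iff_inv_eq.2 f6
  have f5 : z = 1 := by
    obtain ⟨j, hj⟩ := hyℓ
    have g1 := conj_pow_of' hz hxz (ℓ ^ j)
    rw [hj, mul_one, mul_inv_cancel, one_mul] at g1
    have g2 : z ∈ (⊥ : Subgroup G) := cop_mem (m := 2) (n := ℓ ^ j) (by rw [pow_two, f4]; exact Subgroup.one_mem _)
      (by rw [← g1]; exact Subgroup.one_mem _)
      (Nat.Coprime.pow_right _ ((Nat.coprime_primes Nat.prime_two hℓ).2 hℓ2.symm))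
    exact Subgroup.mem_bot.1 g2
  apply hxD
  rw [f5, mul_one] at hxz
  rw [← h.hD y hy hyn]
  exact mem_cz.2 (mul_inv_eq_iff_eq_mul.1 hxz)

end TI

end Cfsg.Agent.ItoCS
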