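import Cfsg.Agent.ItoCS.CI2
/-!
Groups with all `p'`-elements conjugate into a TI subgroup modulo the centre.
-/
set_option autoImplicit false
set_option linter.all false

namespace Cfsg.Agent.ItoCS

open Cfsg.Agent.H35.CR

universe u

variable {G : Type u} [Group G] [Finite G]

theorem central_of_conj {g x : G} (h : x * g * x⁻¹ ∈ Subgroup.center G) : g ∈ Subgroup.center G := by
  by_contra hn
  exact nc_conj hn h

theorem TI.conj {p : ℕ} {D : Subgroup G} (h : TI G p D) (x : G) : TI G p (D.map (MulAut.conj x).toMonoidHom) := by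
  constructor
  · rintro _ ⟨e, he, rfl⟩ hdn
    have hdn' : x * e * x⁻¹ ∉ Subgroup.center G := hdn
    have hen : e ∉ Subgroup.center G := fun hc => hdn' ((inferInstance : (Subgroup.center G).Normal).conj_mem _ hc x)
    show cz (x * e * x⁻¹) = _
    rw [cz_conj, h.hD e he hen]
  · intro s
    obtain ⟨q, h1, h2, h3, w, hw, hwn, hwq⟩ := h.h2 s
    exact ⟨q, h1, h2, h3, x * w * x⁻¹, ⟨w, hw, rfl⟩, nc_conj hwn, hwq.conj x⟩

/-- all noncentral `p'`-elements of prime power order are conjugate into `D` -/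
structure CI (G : Type u) [Group G] (p : ℕ) (D : Subgroup G) : Prop where
  ti : TI G p D
  hC : ∀ q : ℕ, q.Prime → q ≠ p → ∀ g : G, g ∉ Subgroup.center G → IsP q g → ∃ x, x * g * x⁻¹ ∈ D

theorem CI.conj {p : ℕ} {D : Subgroup G} (h : CI G p D) (x : G) : CI G p (D.map (MulAut.conj x).toMonoidHom) := by
  refine ⟨h.ti.conj x, ?_⟩
  intro q hq hqp g hg hgq
  obtain ⟨y, hy⟩ := h.hC q hq hqp g hg hgq
  refine ⟨x * y, y * g * y⁻¹, hy, ?_⟩
  show x * (y * g * y⁻¹) * x⁻¹ = _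
  group

theorem CI.conj_cz {p : ℕ} {D : Subgroup G} (h : CI G p D) {q : ℕ} (hq : q.Prime) (hqp : q ≠ p) {g : G}
    (hg : g ∉ Subgroup.center G) (hgq : IsP q g) : ∃ x, x * g * x⁻¹ ∈ D ∧ (cz g).map (MulAut.conj x).toMonoidHom = D := by
  obtain ⟨x, hx⟩ := h.hC q hq hqp g hg hgq
  refine ⟨x, hx, ?_⟩
  rw [← cz_conj]
  exact h.ti.hD _ hx (nc_conj hg)

theorem map_conj_inv (D : Subgroup G) (x : G) :
    (D.map (MulAut.conj x).toMonoidHom).map (MulAut.conj x⁻¹).toMonoidHom = D := by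
  ext g
  constructor
  · rintro ⟨_, ⟨e, he, rfl⟩, rfl⟩
    show x⁻¹ * (x * e * x⁻¹) * x⁻¹⁻¹ ∈ D
    have : x⁻¹ * (x * e * x⁻¹) * x⁻¹⁻¹ = e := by group
    rw [this]; exact he
  · intro hg
    refine ⟨x * g * x⁻¹, ⟨g, hg, rfl⟩, ?_⟩
    show x⁻¹ * (x * g * x⁻¹) * x⁻¹⁻¹ = g
    group

theorem CI.of_nc {p : ℕ} {D : Subgroup G} (h : CI G p D) {q : ℕ} (hq : q.Prime) (hqp : q ≠ p) {g : G}
    (hg : g ∉ Subgroup.center G) (hgq : IsP q g) : CI G p (cz g) := by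
  obtain ⟨x, -, hx⟩ := h.conj_cz hq hqp hg hgq
  have := h.conj x⁻¹
  rwa [← hx, map_conj_inv] at this

/-- elements central modulo `Z` in a subgroup -/
theorem exists_central {ℓ : ℕ} (hℓ : ℓ.Prime) {S : Subgroup G} (hS : IsPGroup ℓ S) {T : Subgroup G} (hTS : T ≤ S)
    (hn : ∀ s ∈ S, ∀ t ∈ T, s * t * s⁻¹ ∈ T) (hTn : ¬ T ≤ Subgroup.center G) :
    ∃ y ∈ T, y ∉ Subgroup.center G ∧ y ^ ℓ ∈ Subgroup.center G ∧ S ≤ cm y := by
  haveI : Fact ℓ.Prime := ⟨hℓ⟩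
  set T' := T.map (QuotientGroup.mk' (Subgroup.center G)) with hT'
  have hact : ∀ (s : S) (t : T'), (QuotientGroup.mk (s : G) : G ⧸ Subgroup.center G) * (t : G ⧸ Subgroup.center G) * (QuotientGroup.mk (s : G))⁻¹ ∈ T' := by
    rintro s ⟨_, t, ht, rfl⟩
    exact ⟨(s : G) * t * (s : G)⁻¹, hn s s.2 t ht, rfl⟩
  letI : MulAction S T' :=
    { smul := fun s t => ⟨_, hact s t⟩
      one_smul := by
        intro t
        apply Subtype.ext
        show (QuotientGroup.mk ((1 : S) : G) : G ⧸ Subgroup.center G) * (t : G ⧸ Subgroup.center G) * (QuotientGroup.mk ((1 : S) : G) : G ⧸ Subgroup.center G)⁻¹ = t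
        rw [Subgroup.coe_one, QuotientGroup.mk_one]; group
      mul_smul := by
        intro a b t
        apply Subtype.ext
        show (QuotientGroup.mk ((a * b : S) : G) : G ⧸ Subgroup.center G) * (t : G ⧸ Subgroup.center G) *
          (QuotientGroup.mk ((a * b : S) : G))⁻¹ =
          (QuotientGroup.mk (a : G)) * ((QuotientGroup.mk (b : G)) * (t : G ⧸ Subgroup.center G) *
            (QuotientGroup.mk (b : G))⁻¹) * (QuotientGroup.mk (a : G))⁻¹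
        rw [Subgroup.coe_mul, QuotientGroup.mk_mul]; group }
  have hT'p : IsPGroup ℓ T' := by
    apply IsPGroup.map
    exact hS.to_le hTS
  have hT'1 : Nontrivial T' := by
    rw [Subgroup.nontrivial_iff_ne_bot]
    intro h
    apply hTn
    intro t ht
    have : (QuotientGroup.mk t : G ⧸ Subgroup.center G) ∈ T' := ⟨t, ht, rfl⟩
    rw [h, Subgroup.mem_bot, QuotientGroup.eq_one_iff] at this
    exact this
  have hdvd : ℓ ∣ Nat.card T' := by
    obtain ⟨k, hk⟩ := IsPGroup.iff_card.1 hT'p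
    have h1 : 1 < Nat.card T' := Finite.one_lt_card
    rw [hk] at h1 ⊢
    apply dvd_pow_self
    rintro rfl
    simp at h1
  have hfix1 : (1 : T') ∈ MulAction.fixedPoints S T' := by
    intro s
    apply Subtype.ext
    show (QuotientGroup.mk (s : G) : G ⧸ Subgroup.center G) * ((1 : T') : G ⧸ Subgroup.center G) * (QuotientGroup.mk (s : G))⁻¹ = _
    rw [Subgroup.coe_one]; group
  obtain ⟨b, hb, hb1⟩ := hS.exists_fixed_point_of_prime_dvd_card_of_fixed_point T' hdvd hfix1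
  obtain ⟨_, y₀, hy₀, rfl⟩ := b
  have hy₀n : y₀ ∉ Subgroup.center G := by
    intro hc
    apply hb1
    apply Subtype.ext
    rw [Subgroup.coe_one]
    exact ((QuotientGroup.eq_one_iff y₀).2 hc).symm
  have hcm : S ≤ cm y₀ := by
    intro s hs
    have h1 := congrArg Subtype.val (hb ⟨s, hs⟩)
    have h2 : (QuotientGroup.mk s : G ⧸ Subgroup.center G) * QuotientGroup.mk y₀ * (QuotientGroup.mk s)⁻¹ =
      QuotientGroup.mk y₀ := h1
    rw [mem_cm]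
    exact mul_inv_eq_iff_eq_mul.1 h2
  -- a suitable power
  classical
  have hex : ∃ k : ℕ, y₀ ^ ℓ ^ k ∈ Subgroup.center G := by
    obtain ⟨k, hk⟩ := hS ⟨y₀, hTS hy₀⟩
    have hk' : y₀ ^ ℓ ^ k = 1 := congrArg Subtype.val hk
    exact ⟨k, by rw [hk']; exact Subgroup.one_mem _⟩
  obtain ⟨k, hk⟩ : ∃ k, Nat.find hex = k := ⟨_, rfl⟩
  have hspec := Nat.find_spec hex
  rw [hk] at hspec
  rcases k with _ | k
  · rw [pow_zero, pow_one] at hspec
    exact absurd hspec hy₀n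
  · refine ⟨y₀ ^ ℓ ^ k, T.pow_mem hy₀ _, ?_, ?_, ?_⟩
    · exact Nat.find_min hex (by rw [hk]; exact Nat.lt_succ_self k)
    · rw [← pow_mul, ← pow_succ]; exact hspec
    · intro s hs
      apply cm_symm
      exact (cm s).pow_mem (cm_symm (hcm hs)) _

/-- Sylow subgroups of `N(D)` -/
theorem CI.sylow {p : ℕ} {D : Subgroup G} (h : CI G p D) {ℓ : ℕ} (hℓ : ℓ.Prime) (hℓp : ℓ ≠ p) {T : Subgroup G}
    (hT : IsPGroup ℓ T) (hTN : T ≤ Subgroup.normalizer (D : Set G)) (hex : ∃ x : G, x ∉ Subgroup.center G ∧ IsP ℓ x) :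
    ∃ S : Sylow ℓ G, T ≤ (S : Subgroup G) ∧ ∃ y ∈ D, y ∈ (S : Subgroup G) ∧ y ∉ Subgroup.center G ∧
      y ^ ℓ ∈ Subgroup.center G ∧ (S : Subgroup G) ≤ cm y := by
  haveI : Fact ℓ.Prime := ⟨hℓ⟩
  -- some Sylow subgroup
  obtain ⟨x₀, hx₀n, hx₀⟩ := hex
  have hx₀p : IsPGroup ℓ (Subgroup.zpowers x₀) := by
    rintro ⟨w, hw⟩
    obtain ⟨k, hk⟩ := hx₀.mem_zpowers hw
    exact ⟨k, Subtype.ext hk⟩
  obtain ⟨R, hR⟩ := hx₀p.exists_le_sylow
  have hRn : ¬ (R : Subgroup G) ≤ Subgroup.center G := fun hc => hx₀n (hc (hR (Subgroup.mem_zpowers x₀)))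
  obtain ⟨y₁, hy₁R, hy₁n, hy₁ℓ, hy₁c⟩ := exists_central hℓ R.isPGroup' le_rfl
    (fun s hs t ht => (R : Subgroup G).mul_mem ((R : Subgroup G).mul_mem hs ht) ((R : Subgroup G).inv_mem hs)) hRn
  have hy₁P : IsP ℓ y₁ := by
    obtain ⟨k, hk⟩ := R.isPGroup' ⟨y₁, hy₁R⟩
    exact ⟨k, congrArg Subtype.val hk⟩
  obtain ⟨a, ha, -⟩ := h.conj_cz hℓ hℓp hy₁n hy₁P
  -- move it into `N(D)`
  set R' : Sylow ℓ G := a • R with hR'
  have hR'mem : ∀ s : G, s ∈ (R' : Subgroup G) → a⁻¹ * s * a ∈ (R : Subgroup G) := by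
    intro s hs
    rw [hR', Sylow.coe_subgroup_smul, Subgroup.mem_pointwise_smul_iff_inv_smul_mem] at hs
    have e : (MulAut.conj a)⁻¹ • s = a⁻¹ * s * a := by
      rw [← map_inv]
      show a⁻¹ * s * a⁻¹⁻¹ = _
      rw [inv_inv]
    rwa [e] at hs
  have hy₂R : a * y₁ * a⁻¹ ∈ (R' : Subgroup G) := by
    rw [hR', Sylow.coe_subgroup_smul]
    exact Subgroup.smul_mem_pointwise_smul y₁ (MulAut.conj a) _ hy₁R
  set y₂ := a * y₁ * a⁻¹ with hy₂
  have hy₂n : y₂ ∉ Subgroup.center G := nc_conj hy₁n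
  have hy₂c : (R' : Subgroup G) ≤ cm y₂ := by
    intro s hs
    obtain ⟨z, hz, he⟩ := mem_cm'.1 (hy₁c (hR'mem s hs))
    rw [mem_cm']
    refine ⟨z, hz, ?_⟩
    calc s * y₂ * s⁻¹ = a * ((a⁻¹ * s * a) * y₁ * (a⁻¹ * s * a)⁻¹) * a⁻¹ := by rw [hy₂]; group
      _ = a * (y₁ * z) * a⁻¹ := by rw [he]
      _ = a * y₁ * (z * a⁻¹) := by group
      _ = a * y₁ * (a⁻¹ * z) := by rw [Subgroup.mem_center_iff.1 hz]
      _ = y₂ * z := by rw [hy₂]; group
  have hy₂ℓ : y₂ ^ ℓ ∈ Subgroup.center G := by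
    rw [hy₂, conj_pow]
    exact (inferInstance : (Subgroup.center G).Normal).conj_mem _ hy₁ℓ a
  have hR'N : (R' : Subgroup G) ≤ Subgroup.normalizer (D : Set G) := fun s hs => h.ti.norm_of_cm ha hy₂n (hy₂c hs)
  -- Sylow theory in `N(D)`
  set N : Subgroup G := Subgroup.normalizer (D : Set G) with hN
  have hTN' : IsPGroup ℓ (T.subgroupOf N) := hT.comap_subtype
  obtain ⟨Q, hQ⟩ := hTN'.exists_le_sylow
  obtain ⟨n, hn⟩ := MulAction.exists_smul_eq N (R'.subtype hR'N) Q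
  refine ⟨(n : G) • R', ?_, (n : G) * y₂ * (n : G)⁻¹, ?_, ?_, nc_conj hy₂n, ?_, ?_⟩
  · intro t ht
    have h1 : (⟨t, hTN ht⟩ : N) ∈ (Q : Subgroup N) := hQ (Subgroup.mem_subgroupOf.2 ht)
    rw [← hn, Sylow.coe_subgroup_smul, Subgroup.mem_pointwise_smul_iff_inv_smul_mem] at h1
    have h2 : (n : G)⁻¹ * t * n ∈ (R' : Subgroup G) := by
      have e : (MulAut.conj n)⁻¹ • (⟨t, hTN ht⟩ : N) = n⁻¹ * ⟨t, hTN ht⟩ * n := by
        rw [← map_inv]
        show n⁻¹ * _ * n⁻¹⁻¹ = _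
        rw [inv_inv]
      rw [e] at h1
      exact h1
    rw [Sylow.coe_subgroup_smul, Subgroup.mem_pointwise_smul_iff_inv_smul_mem]
    have e : (MulAut.conj (n : G))⁻¹ • t = (n : G)⁻¹ * t * n := by
      rw [← map_inv]
      show (n : G)⁻¹ * t * (n : G)⁻¹⁻¹ = _
      rw [inv_inv]
    rw [e]; exact h2
  · exact h.ti.conj_mem n.2 ha
  · rw [Sylow.coe_subgroup_smul]
    exact Subgroup.smul_mem_pointwise_smul y₂ (MulAut.conj (n : G)) _ hy₂R
  · rw [conj_pow]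
    exact (inferInstance : (Subgroup.center G).Normal).conj_mem _ hy₂ℓ _
  · intro s hs
    rw [Sylow.coe_subgroup_smul, Subgroup.mem_pointwise_smul_iff_inv_smul_mem] at hs
    have e : (MulAut.conj (n : G))⁻¹ • s = (n : G)⁻¹ * s * n := by
      rw [← map_inv]
      show (n : G)⁻¹ * s * (n : G)⁻¹⁻¹ = _
      rw [inv_inv]
    rw [e] at hs
    obtain ⟨z, hz, he⟩ := mem_cm'.1 (hy₂c hs)
    rw [mem_cm']
    refine ⟨z, hz, ?_⟩
    calc s * ((n : G) * y₂ * (n : G)⁻¹) * s⁻¹ = n * (((n : G)⁻¹ * s * n) * y₂ * ((n : G)⁻¹ * s * n)⁻¹) * (n : G)⁻¹ := by group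
      _ = n * (y₂ * z) * (n : G)⁻¹ := by rw [he]
      _ = n * y₂ * (z * (n : G)⁻¹) := by group
      _ = n * y₂ * ((n : G)⁻¹ * z) := by rw [Subgroup.mem_center_iff.1 hz]
      _ = _ := by group

end Cfsg.Agent.ItoCS
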