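import Cfsg.Agent.ItoCS.CI3
/-!
Groups with all `p'`-elements conjugate into a TI subgroup modulo the centre: the Sylow subgroups for odd `ℓ ≠ p`.
-/
set_option autoImplicit false
set_option linter.all false

namespace Cfsg.Agent.ItoCS

open Cfsg.Agent.H35.CR

universe u

section Abs

variable {H : Type u} [Group H]

theorem sl2_neg {e f X Y : H} (hXY : X * Y = Y * X) (e1 : e * X * e⁻¹ = X * Y) (e2 : e * Y * e⁻¹ = Y)
    (f1 : f * Y * f⁻¹ = Y * X) (f2 : f * X * f⁻¹ = X) : ∃ v : H, v * X * v⁻¹ = X⁻¹ ∧ v * Y * v⁻¹ = Y⁻¹ := by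
  have g2 : f⁻¹ * X * f = X := by
    have : f⁻¹ * (f * X * f⁻¹) * f = f⁻¹ * X * f := by rw [f2]
    rw [← this]; group
  have g1 : f⁻¹ * Y * f = Y * X⁻¹ := by
    have h1 : (f⁻¹ * Y * f) * (f⁻¹ * X * f) = Y := by
      calc (f⁻¹ * Y * f) * (f⁻¹ * X * f) = f⁻¹ * (Y * X) * f := by group
        _ = f⁻¹ * (f * Y * f⁻¹) * f := by rw [f1]
        _ = Y := by group
    rw [g2] at h1
    exact eq_mul_inv_iff_mul_eq.2 h1
  have hc : X * (Y * X⁻¹) = Y := by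
    rw [← mul_assoc, hXY]; group
  have w1 : (e * f⁻¹ * e) * X * (e * f⁻¹ * e)⁻¹ = Y := by
    calc (e * f⁻¹ * e) * X * (e * f⁻¹ * e)⁻¹ = e * (f⁻¹ * (e * X * e⁻¹) * f) * e⁻¹ := by group
      _ = e * ((f⁻¹ * X * f) * (f⁻¹ * Y * f)) * e⁻¹ := by rw [e1]; group
      _ = e * Y * e⁻¹ := by rw [g1, g2, hc]
      _ = Y := e2
  have w2 : (e * f⁻¹ * e) * Y * (e * f⁻¹ * e)⁻¹ = X⁻¹ := by
    calc (e * f⁻¹ * e) * Y * (e * f⁻¹ * e)⁻¹ = e * (f⁻¹ * (e * Y * e⁻¹) * f) * e⁻¹ := by group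
      _ = e * (Y * X⁻¹) * e⁻¹ := by rw [e2, g1]
      _ = (e * Y * e⁻¹) * (e * X * e⁻¹)⁻¹ := by group
      _ = Y * (X * Y)⁻¹ := by rw [e1, e2]
      _ = X⁻¹ := by group
  refine ⟨(e * f⁻¹ * e) * (e * f⁻¹ * e), ?_, ?_⟩
  · calc (e * f⁻¹ * e) * (e * f⁻¹ * e) * X * ((e * f⁻¹ * e) * (e * f⁻¹ * e))⁻¹ =
        (e * f⁻¹ * e) * ((e * f⁻¹ * e) * X * (e * f⁻¹ * e)⁻¹) * (e * f⁻¹ * e)⁻¹ := by group
      _ = (e * f⁻¹ * e) * Y * (e * f⁻¹ * e)⁻¹ := by rw [w1]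
      _ = X⁻¹ := w2
  · calc (e * f⁻¹ * e) * (e * f⁻¹ * e) * Y * ((e * f⁻¹ * e) * (e * f⁻¹ * e))⁻¹ =
        (e * f⁻¹ * e) * ((e * f⁻¹ * e) * Y * (e * f⁻¹ * e)⁻¹) * (e * f⁻¹ * e)⁻¹ := by group
      _ = (e * f⁻¹ * e) * X⁻¹ * (e * f⁻¹ * e)⁻¹ := by rw [w2]
      _ = ((e * f⁻¹ * e) * X * (e * f⁻¹ * e)⁻¹)⁻¹ := by group
      _ = Y⁻¹ := by rw [w1]

theorem conj_pow_c {g X c : H} (h : g * X * g⁻¹ = c * X) (hg : g * c = c * g) (n : ℕ) :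
    g ^ n * X * (g ^ n)⁻¹ = c ^ n * X := by
  induction n with
  | zero => simp
  | succ n ih =>
    have hgc : g * c ^ n = c ^ n * g := (show Commute g c from hg).pow_right n
    calc g ^ (n + 1) * X * (g ^ (n + 1))⁻¹ = g * (g ^ n * X * (g ^ n)⁻¹) * g⁻¹ := by rw [pow_succ']; group
      _ = g * (c ^ n * X) * g⁻¹ := by rw [ih]
      _ = (g * c ^ n) * X * g⁻¹ := by group
      _ = c ^ n * (g * X * g⁻¹) := by rw [hgc]; group
      _ = c ^ (n + 1) * X := by rw [h, pow_succ]; group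

theorem odd_inv {v Y : H} (h : v * Y * v⁻¹ = Y⁻¹) (m : ℕ) :
    v ^ (2 * m + 1) * Y * (v ^ (2 * m + 1))⁻¹ = Y⁻¹ ∧ (v ^ 2) * Y = Y * v ^ 2 := by
  have h2 : v ^ 2 * Y * (v ^ 2)⁻¹ = Y := by
    calc v ^ 2 * Y * (v ^ 2)⁻¹ = v * (v * Y * v⁻¹) * v⁻¹ := by rw [pow_two]; group
      _ = v * Y⁻¹ * v⁻¹ := by rw [h]
      _ = (v * Y * v⁻¹)⁻¹ := by group
      _ = Y := by rw [h, inv_inv]
  have h3 : v ^ 2 * Y = Y * v ^ 2 := mul_inv_eq_iff_eq_mul.1 h2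
  refine ⟨?_, h3⟩
  have h4 : v ^ (2 * m) * Y⁻¹ = Y⁻¹ * v ^ (2 * m) := by
    rw [pow_mul]
    exact (((show Commute (v ^ 2) Y from h3).pow_left m).inv_right)
  rw [pow_succ]
  calc v ^ (2 * m) * v * Y * (v ^ (2 * m) * v)⁻¹ = v ^ (2 * m) * (v * Y * v⁻¹) * (v ^ (2 * m))⁻¹ := by group
    _ = v ^ (2 * m) * Y⁻¹ * (v ^ (2 * m))⁻¹ := by rw [h]
    _ = Y⁻¹ := by rw [h4]; group

end Abs

variable {G : Type u} [Group G] [Finite G]

/-- a pair of `ℓ`-elements commuting modulo the centre -/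
structure Pr (G : Type u) [Group G] (p ℓ : ℕ) (x y : G) : Prop where
  tx : TI G p (cz x)
  ty : TI G p (cz y)
  hx : IsP ℓ x
  hy : IsP ℓ y
  xℓ : x ^ ℓ ∈ Subgroup.center G
  yℓ : y ^ ℓ ∈ Subgroup.center G
  cmxy : x ∈ cm y
  ncz : x ∉ cz y

namespace Pr

variable {p ℓ : ℕ} {x y : G}

theorem symm (h : Pr G p ℓ x y) : Pr G p ℓ y x :=
  ⟨h.ty, h.tx, h.hy, h.hx, h.yℓ, h.xℓ, cm_symm h.cmxy, fun hc => h.ncz (mem_cz_symm hc)⟩

theorem xn (h : Pr G p ℓ x y) : x ∉ Subgroup.center G := fun hc => h.ncz (center_le_cz y hc)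

theorem yn (h : Pr G p ℓ x y) : y ∉ Subgroup.center G := h.symm.xn

theorem inter (h : Pr G p ℓ x y) {w : G} (hwx : w ∈ cz x) (hwy : w ∈ cz y) : w ∈ Subgroup.center G := by
  by_contra hn
  apply h.ncz
  rw [← h.tx.eq_of h.ty hwx hwy hn]
  exact self_mem x

theorem claim2 (h : Pr G p ℓ x y) (hℓ : ℓ.Prime) {a : G} (ha : a ∈ cz y) (hax : a ∈ cm x) :
    ∃ i : ℕ, a * y ^ i ∈ Subgroup.center G := by
  have hyx : y ∈ cm x := cm_symm h.cmxy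
  obtain ⟨i, hi⟩ := h.tx.rank hℓ (h.tx.norm_of_cm (self_mem x) h.xn hax) (h.tx.norm_of_cm (self_mem x) h.xn hyx)
    (pow_mem_cz hax h.xℓ) (center_le_cz x h.yℓ) (by
      have : a * y * a⁻¹ * y⁻¹ = 1 := by rw [mem_cz.1 ha]; group
      rw [this]; exact Subgroup.one_mem _) h.symm.ncz
  exact ⟨i, h.inter hi ((cz y).mul_mem ha ((cz y).pow_mem (self_mem y) i))⟩

theorem b3 (h : Pr G p ℓ x y) (hℓ : ℓ.Prime) {s : G} (hs : s ∈ cm y) : ∃ i : ℕ, s * x ^ i ∈ cz y :=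
  h.ty.rank hℓ (h.ty.norm_of_cm (self_mem y) h.yn hs) (h.ty.norm_of_cm (self_mem y) h.yn h.cmxy)
    (pow_mem_cz hs h.yℓ) (center_le_cz y h.xℓ) (comm_mem_cz hs h.cmxy) h.ncz

/-- transvections -/
theorem tv (h : Pr G p ℓ x y) (hℓ : ℓ.Prime) {S : Subgroup G} (hS : IsPGroup ℓ S) (hxS : x ∈ S) (hSy : S ≤ cm y)
    (hSx : ¬ S ≤ cm x) : ∃ e : G ⧸ Subgroup.center G,
      e * (QuotientGroup.mk x) * e⁻¹ = (QuotientGroup.mk x) * (QuotientGroup.mk y) ∧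
      e * (QuotientGroup.mk y) * e⁻¹ = (QuotientGroup.mk y) := by
  haveI : Fact ℓ.Prime := ⟨hℓ⟩
  have hlt : S ⊓ cm x < S := by
    refine lt_of_le_of_ne inf_le_left ?_
    intro he
    apply hSx
    rw [← he]; exact inf_le_right
  have h1 := H33.lt_inf_normalizer hS hlt
  obtain ⟨g, hg, hgB⟩ := SetLike.exists_of_lt h1
  obtain ⟨hgS, hgN⟩ := Subgroup.mem_inf.1 hg
  have hxB : x ∈ S ⊓ cm x := Subgroup.mem_inf.2 ⟨hxS, cz_le_cm x (self_mem x)⟩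
  have hgx : g * x * g⁻¹ ∈ S ⊓ cm x := (Subgroup.mem_normalizer_iff.1 hgN x).1 hxB
  have haB : g * x * g⁻¹ * x⁻¹ ∈ S ⊓ cm x := (S ⊓ cm x).mul_mem hgx ((S ⊓ cm x).inv_mem hxB)
  obtain ⟨i, hi⟩ := h.claim2 hℓ (comm_mem_cz (hSy hgS) h.cmxy) (Subgroup.mem_inf.1 haB).2
  set X : G ⧸ Subgroup.center G := QuotientGroup.mk x with hX
  set Y : G ⧸ Subgroup.center G := QuotientGroup.mk y with hY
  set g' : G ⧸ Subgroup.center G := QuotientGroup.mk g with hg'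
  have hgY : g' * Y = Y * g' := mem_cm.1 (hSy hgS)
  have hXY : X * Y = Y * X := mem_cm.1 h.cmxy
  have e1 : g' * X * g'⁻¹ = (Y ^ i)⁻¹ * X := by
    have h2 := (QuotientGroup.eq_one_iff _).2 hi
    rw [QuotientGroup.mk_mul, QuotientGroup.mk_mul, QuotientGroup.mk_mul, QuotientGroup.mk_mul, QuotientGroup.mk_inv,
      QuotientGroup.mk_inv, QuotientGroup.mk_pow] at h2
    change g' * X * g'⁻¹ * X⁻¹ * Y ^ i = 1 at h2
    have h3 := eq_inv_of_mul_eq_one_left h2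
    exact mul_inv_eq_iff_eq_mul.1 h3
  have hYℓ : Y ^ ℓ = 1 := by
    rw [hY, ← QuotientGroup.mk_pow]
    exact (QuotientGroup.eq_one_iff _).2 h.yℓ
  have hiℓ : ¬ ℓ ∣ i := by
    rintro ⟨m, rfl⟩
    rw [pow_mul, hYℓ, one_pow, inv_one, one_mul] at e1
    apply hgB
    refine Subgroup.mem_inf.2 ⟨hgS, ?_⟩
    rw [mem_cm]
    exact mul_inv_eq_iff_eq_mul.1 e1
  obtain ⟨n, hn⟩ : ∃ n : ℕ, ((Y ^ i)⁻¹) ^ n = Y := by
    have h4 : Y ∈ Subgroup.zpowers (Y ^ i)⁻¹ := by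
      apply cop_mem (m := i) (n := ℓ)
      · have := (Subgroup.zpowers (Y ^ i)⁻¹).inv_mem (Subgroup.mem_zpowers (Y ^ i)⁻¹)
        rwa [inv_inv] at this
      · rw [hYℓ]; exact Subgroup.one_mem _
      · exact ((hℓ.coprime_iff_not_dvd).2 hiℓ).symm
    rw [← mem_powers_iff_mem_zpowers] at h4
    exact h4
  refine ⟨g' ^ n, ?_, ?_⟩
  · have hgc : g' * (Y ^ i)⁻¹ = (Y ^ i)⁻¹ * g' := ((show Commute g' Y from hgY).pow_right i).inv_right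
    rw [conj_pow_c e1 hgc n, hn, hXY]
  · have : g' ^ n * Y = Y * g' ^ n := (show Commute g' Y from hgY).pow_left n
    rw [this]; group

/-- for odd `ℓ` the Sylow `ℓ`-subgroup is abelian of order `ℓ²` modulo the centre -/
theorem small (h : Pr G p ℓ x y) {D : Subgroup G} (hCI : CI G p D) (hℓ : ℓ.Prime) (hℓp : ℓ ≠ p) (hℓ2 : ℓ ≠ 2)
    (S : Sylow ℓ G) (hxS : x ∈ (S : Subgroup G)) (hyS : y ∈ (S : Subgroup G)) (hSy : (S : Subgroup G) ≤ cm y) :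
    (S : Subgroup G) ≤ cm x := by
  haveI : Fact ℓ.Prime := ⟨hℓ⟩
  by_contra hSx
  have hyx : y ∈ cm x := cm_symm h.cmxy
  obtain ⟨e, e1, e2⟩ := h.tv hℓ S.isPGroup' hxS hSy hSx
  -- the other Sylow subgroup
  have hTS : Subgroup.closure {x, y} ≤ (S : Subgroup G) := by
    rw [Subgroup.closure_le]
    rintro w (rfl | rfl)
    · exact hxS
    · exact hyS
  have hTN : Subgroup.closure {x, y} ≤ Subgroup.normalizer ((cz x : Subgroup G) : Set G) := by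
    rw [Subgroup.closure_le]
    rintro w (rfl | rfl)
    · exact h.tx.norm_of_cm (self_mem _) h.xn (cz_le_cm _ (self_mem _))
    · exact h.tx.norm_of_cm (self_mem x) h.xn hyx
  obtain ⟨S', hTS', y', hy'x, hy'S, hy'n, hy'ℓ, hS'c⟩ := (hCI.of_nc hℓ hℓp h.xn h.hx).sylow hℓ hℓp
    (S.isPGroup'.to_le hTS) hTN ⟨x, h.xn, h.hx⟩
  have hxS' : x ∈ (S' : Subgroup G) := hTS' (Subgroup.subset_closure (by simp))
  have hyS' : y ∈ (S' : Subgroup G) := hTS' (Subgroup.subset_closure (by simp))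
  have hczy' : cz y' = cz x := h.tx.hD y' hy'x hy'n
  have hS'x : (S' : Subgroup G) ≤ cm x := by
    intro s hs
    have k1 : s ^ ℓ ∈ cz x := by rw [← hczy']; exact pow_mem_cz (hS'c hs) hy'ℓ
    have k2 : s * y * s⁻¹ * y⁻¹ ∈ cz x := by rw [← hczy']; exact comm_mem_cz (hS'c hs) (hS'c hyS')
    obtain ⟨i, hi⟩ := h.tx.rank hℓ (h.tx.norm_of_cm hy'x hy'n (hS'c hs)) (h.tx.norm_of_cm (self_mem x) h.xn hyx)
      k1 (center_le_cz x h.yℓ) k2 h.symm.ncz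
    have k3 := (cm x).mul_mem (cz_le_cm x hi) ((cm x).inv_mem ((cm x).pow_mem hyx i))
    rwa [mul_inv_cancel_right] at k3
  have hS'y : ¬ (S' : Subgroup G) ≤ cm y := by
    intro hS'y
    have hle : (S' : Subgroup G) ≤ (S : Subgroup G) := by
      intro s hs
      obtain ⟨i, hi⟩ := h.b3 hℓ (hS'y hs)
      obtain ⟨j, hj⟩ := h.claim2 hℓ hi ((cm x).mul_mem (hS'x hs) ((cm x).pow_mem (cz_le_cm x (self_mem x)) i))
      have hzS' : s * x ^ i * y ^ j ∈ (S' : Subgroup G) :=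
        (S' : Subgroup G).mul_mem ((S' : Subgroup G).mul_mem hs ((S' : Subgroup G).pow_mem hxS' i))
          ((S' : Subgroup G).pow_mem hyS' j)
      obtain ⟨g, hg⟩ := MulAction.exists_smul_eq G S' S
      have hzS : s * x ^ i * y ^ j ∈ (S : Subgroup G) := by
        rw [← hg, Sylow.coe_subgroup_smul]
        have := Subgroup.smul_mem_pointwise_smul _ (MulAut.conj g) _ hzS'
        have e3 : MulAut.conj g • (s * x ^ i * y ^ j) = s * x ^ i * y ^ j := by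
          show g * (s * x ^ i * y ^ j) * g⁻¹ = _
          rw [Subgroup.mem_center_iff.1 hj g]; group
        rwa [e3] at this
      have k4 := (S : Subgroup G).mul_mem ((S : Subgroup G).mul_mem hzS ((S : Subgroup G).inv_mem ((S : Subgroup G).pow_mem hyS j)))
        ((S : Subgroup G).inv_mem ((S : Subgroup G).pow_mem hxS i))
      have e4 : s * x ^ i * y ^ j * (y ^ j)⁻¹ * (x ^ i)⁻¹ = s := by group
      rwa [e4] at k4
    have heq : (S' : Subgroup G) = (S : Subgroup G) := (S'.3 S.isPGroup' hle).symm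
    exact hSx (heq ▸ hS'x)
  obtain ⟨f, f1, f2⟩ := h.symm.tv hℓ S'.isPGroup' hyS' hS'x hS'y
  set X : G ⧸ Subgroup.center G := QuotientGroup.mk x with hX
  set Y : G ⧸ Subgroup.center G := QuotientGroup.mk y with hY
  have hXY : X * Y = Y * X := mem_cm.1 h.cmxy
  obtain ⟨v, -, hv⟩ := sl2_neg hXY e1 e2 f1 f2
  obtain ⟨v₀, rfl⟩ := QuotientGroup.mk_surjective v
  obtain ⟨m, hm⟩ : ∃ m, ℓ = 2 * m + 1 := (hℓ.odd_of_ne_two hℓ2)
  obtain ⟨hodd, hsq⟩ := odd_inv hv m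
  rw [← hm] at hodd
  have hYℓ : Y ^ ℓ = 1 := by
    rw [hY, ← QuotientGroup.mk_pow]
    exact (QuotientGroup.eq_one_iff _).2 h.yℓ
  have hY1 : Y ≠ 1 := fun he => h.yn ((QuotientGroup.eq_one_iff _).1 he)
  have hty : (v₀ ^ ℓ) * y * (v₀ ^ ℓ)⁻¹ ∈ cz y := by
    have k1 : (QuotientGroup.mk ((v₀ ^ ℓ) * y * (v₀ ^ ℓ)⁻¹) : G ⧸ Subgroup.center G) = QuotientGroup.mk y⁻¹ := by
      rw [QuotientGroup.mk_mul, QuotientGroup.mk_mul, QuotientGroup.mk_inv, QuotientGroup.mk_pow, QuotientGroup.mk_inv]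
      exact hodd
    rw [eq_comm, QuotientGroup.eq] at k1
    have k2 := (cz y).mul_mem ((cz y).inv_mem (self_mem y)) (center_le_cz y k1)
    rwa [mul_inv_cancel_left] at k2
  have htN := h.ty.norm_of (self_mem y) h.yn hty
  have htD : v₀ ^ ℓ ∉ cz y := by
    intro hc
    have k1 : (QuotientGroup.mk (v₀ ^ ℓ) : G ⧸ Subgroup.center G) * Y = Y * QuotientGroup.mk (v₀ ^ ℓ) :=
      mem_cm.1 (cz_le_cm y hc)
    rw [QuotientGroup.mk_pow] at k1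
    rw [k1] at hodd
    have k2 : Y = Y⁻¹ := by rw [← hodd]; group
    have k3 : Y ∈ (⊥ : Subgroup (G ⧸ Subgroup.center G)) := by
      apply cop_mem (m := 2) (n := ℓ)
      · rw [Subgroup.mem_bot, pow_two]
        nth_rewrite 2 [k2]
        exact mul_inv_cancel Y
      · rw [Subgroup.mem_bot]; exact hYℓ
      · exact (Nat.coprime_primes Nat.prime_two hℓ).2 hℓ2.symm
    exact hY1 (Subgroup.mem_bot.1 k3)
  have ht2 : v₀ ^ ℓ * v₀ ^ ℓ ∈ cz y := by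
    have k1 : v₀ ^ 2 ∈ cm y := by
      rw [mem_cm, QuotientGroup.mk_pow]; exact hsq
    have k2 := pow_mem_cz k1 h.yℓ
    have e5 : (v₀ ^ 2) ^ ℓ = v₀ ^ ℓ * v₀ ^ ℓ := by rw [← pow_mul, mul_comm, pow_mul, pow_two]
    rwa [e5] at k2
  exact h.ty.noV htN htD ht2 hℓ hℓ2 (self_mem y) h.yn h.hy h.ncz h.cmxy

end Pr

end Cfsg.Agent.ItoCS
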