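import Cfsg.Agent.ItoCS.CI4
/-!
Groups with all `p'`-elements conjugate into a TI subgroup `D` modulo the centre: for all primes `ℓ ≠ p`
except at most one, `D` contains a Sylow `ℓ`-subgroup.
-/
set_option autoImplicit false
set_option linter.all false

namespace Cfsg.Agent.ItoCS

open Cfsg.Agent.H35.CR

universe u

variable {G : Type u} [Group G] [Finite G] {p : ℕ} {D : Subgroup G}

theorem CI.bad_data (h : CI G p D) {ℓ : ℕ} (hℓ : ℓ.Prime) (hℓp : ℓ ≠ p) (hbad : ¬ ∃ R : Sylow ℓ G, (R : Subgroup G) ≤ D) :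
    ∃ (S : Sylow ℓ G) (x y : G), Pr G p ℓ x y ∧ y ∈ D ∧ cz y = D ∧ x ∉ D ∧ x ∈ (S : Subgroup G) ∧ y ∈ (S : Subgroup G) ∧
      (S : Subgroup G) ≤ cm y := by
  haveI : Fact ℓ.Prime := ⟨hℓ⟩
  have hex : ∃ x : G, x ∉ Subgroup.center G ∧ IsP ℓ x := by
    by_contra hcon
    push_neg at hcon
    obtain ⟨R⟩ : Nonempty (Sylow ℓ G) := inferInstance
    apply hbad
    refine ⟨R, fun s hs => ?_⟩
    by_contra hsD
    apply hcon s (fun hc => hsD (h.ti.center_le hc))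
    obtain ⟨k, hk⟩ := R.isPGroup' ⟨s, hs⟩
    exact ⟨k, congrArg Subtype.val hk⟩
  obtain ⟨S, -, y, hyD, hyS, hyn, hyℓ, hSy⟩ := h.sylow hℓ hℓp (T := ⊥) IsPGroup.of_bot bot_le hex
  have hSD : ¬ (S : Subgroup G) ≤ D := fun hc => hbad ⟨S, hc⟩
  obtain ⟨x, hxS, hxD⟩ := SetLike.not_le_iff_exists.1 hSD
  have hcy : cz y = D := h.ti.hD y hyD hyn
  have hxn : x ∉ Subgroup.center G := fun hc => hxD (h.ti.center_le hc)
  have hP : ∀ s ∈ (S : Subgroup G), IsP ℓ s := by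
    intro s hs
    obtain ⟨k, hk⟩ := S.isPGroup' ⟨s, hs⟩
    exact ⟨k, congrArg Subtype.val hk⟩
  refine ⟨S, x, y, ⟨(h.of_nc hℓ hℓp hxn (hP x hxS)).ti, (h.of_nc hℓ hℓp hyn (hP y hyS)).ti, hP x hxS, hP y hyS, ?_, hyℓ,
    hSy hxS, ?_⟩, hyD, hcy, hxD, hxS, hyS, hSy⟩
  · have h1 : x ^ ℓ ∈ D := by rw [← hcy]; exact pow_mem_cz (hSy hxS) hyℓ
    by_contra hn
    apply hxD
    rw [← h.ti.hD _ h1 hn]
    exact mem_cz.2 (by rw [← pow_succ, ← pow_succ'])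
  · rw [hcy]; exact hxD

/-- the arithmetic condition -/
theorem CI.dvd_of (h : CI G p D) {ℓ : ℕ} (hℓ : ℓ.Prime) {S : Sylow ℓ G} {x y : G} (hPr : Pr G p ℓ x y) (hyD : y ∈ D)
    (hyS : y ∈ (S : Subgroup G)) (hSy : (S : Subgroup G) ≤ cm y) (hSx : (S : Subgroup G) ≤ cm x) {q : ℕ} (hq : q.Prime)
    (hqℓ : q ≠ ℓ) {g : G} (hgN : g ∈ Subgroup.normalizer (D : Set G)) (hgq : g ^ q ∈ D) (hgD : g ∉ D) : q < ℓ := by
  haveI : Fact ℓ.Prime := ⟨hℓ⟩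
  haveI : Fact q.Prime := ⟨hq⟩
  have hcy : cz y = D := h.ti.hD y hyD hPr.yn
  have hc : ∀ x ∈ D, IsP ℓ x → ∀ y ∈ D, x * y = y * x := fun x hx _ y hy => h.ti.comm hx hy
  have hSN : (S : Subgroup G) ≤ Subgroup.normalizer (D : Set G) := fun s hs => h.ti.norm_of_cm hyD hPr.yn (hSy hs)
  have hSN' : (S : Subgroup G) ≤ Subgroup.normalizer ((prt ℓ D hc : Subgroup G) : Set G) := by
    intro s hs
    rw [Subgroup.mem_normalizer_iff]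
    intro w
    constructor
    · rintro ⟨hw, hwp⟩
      exact ⟨h.ti.conj_mem (hSN hs) hw, hwp.conj s⟩
    · rintro ⟨hw, hwp⟩
      have h1 := h.ti.conj_mem (hSN ((S : Subgroup G).inv_mem hs)) hw
      have h2 := hwp.conj s⁻¹
      have e : s⁻¹ * (s * w * s⁻¹) * s⁻¹⁻¹ = w := by group
      rw [e] at h1 h2
      exact ⟨h1, h2⟩
  have hsup : IsPGroup ℓ ((S : Subgroup G) ⊔ prt ℓ D hc : Subgroup G) :=
    IsPGroup.to_sup_of_normal_right' S.isPGroup' (prt_pgroup hℓ) hSN'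
  have hTS : prt ℓ D hc ≤ (S : Subgroup G) := by
    have := S.is_maximal' hsup le_sup_left
    rw [← this]; exact le_sup_right
  have ha : g * y * g⁻¹ ∈ D := h.ti.conj_mem hgN hyD
  have haT : g * y * g⁻¹ ∈ prt ℓ D hc := ⟨ha, hPr.hy.conj g⟩
  obtain ⟨i, hi⟩ := hPr.claim2 hℓ (by rw [hcy]; exact ha) (hSx (hTS haT))
  set Y : G ⧸ Subgroup.center G := QuotientGroup.mk y with hY
  set g' : G ⧸ Subgroup.center G := QuotientGroup.mk g with hg'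
  have hYℓ : Y ^ ℓ = 1 := by
    rw [hY, ← QuotientGroup.mk_pow]
    exact (QuotientGroup.eq_one_iff _).2 hPr.yℓ
  have hY1 : Y ≠ 1 := fun he => hPr.yn ((QuotientGroup.eq_one_iff _).1 he)
  have hYo : orderOf Y = ℓ := orderOf_eq_prime hYℓ hY1
  obtain ⟨m, hm⟩ : ∃ m : ℕ, g' * Y * g'⁻¹ = Y ^ m := by
    refine ⟨i * (ℓ - 1), ?_⟩
    have h2 := (QuotientGroup.eq_one_iff _).2 hi
    rw [QuotientGroup.mk_mul, QuotientGroup.mk_mul, QuotientGroup.mk_mul, QuotientGroup.mk_inv, QuotientGroup.mk_pow] at h2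
    change g' * Y * g'⁻¹ * Y ^ i = 1 at h2
    rw [eq_inv_of_mul_eq_one_left h2, eq_comm, eq_inv_iff_mul_eq_one, ← pow_add]
    have : i * (ℓ - 1) + i = ℓ * i := by
      obtain ⟨n, rfl⟩ := Nat.exists_eq_succ_of_ne_zero hℓ.pos.ne'
      simp only [Nat.succ_eq_add_one, Nat.add_sub_cancel]
      ring
    rw [this, pow_mul, hYℓ, one_pow]
  have hk : ∀ k : ℕ, g' ^ k * Y * (g' ^ k)⁻¹ = Y ^ (m ^ k) := by
    intro k
    induction k with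
    | zero => simp
    | succ k ih =>
      calc g' ^ (k + 1) * Y * (g' ^ (k + 1))⁻¹ = g' * (g' ^ k * Y * (g' ^ k)⁻¹) * g'⁻¹ := by rw [pow_succ']; group
        _ = g' * (Y ^ m ^ k) * g'⁻¹ := by rw [ih]
        _ = (g' * Y * g'⁻¹) ^ m ^ k := by rw [conj_pow]
        _ = Y ^ m ^ (k + 1) := by rw [hm, ← pow_mul, pow_succ']
  have hq1 : Y ^ (m ^ q) = Y ^ 1 := by
    rw [← hk q, pow_one]
    have h1 : g ^ q ∈ cm y := cz_le_cm y (by rw [hcy]; exact hgq)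
    have h2 := mem_cm.1 h1
    rw [QuotientGroup.mk_pow] at h2
    change g' ^ q * Y = Y * g' ^ q at h2
    rw [h2]; group
  rw [pow_eq_pow_iff_modEq, hYo] at hq1
  have hz : ((m : ZMod ℓ)) ^ q = 1 := by
    have := (ZMod.natCast_eq_natCast_iff _ _ _).2 hq1
    push_cast at this
    exact this
  have hm1 : (m : ZMod ℓ) ≠ 1 := by
    intro he
    have h1 : m ≡ 1 [MOD ℓ] := (ZMod.natCast_eq_natCast_iff _ _ _).1 (by rw [he]; simp)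
    rw [← hYo, ← pow_eq_pow_iff_modEq, pow_one] at h1
    rw [h1] at hm
    have h2 : g ∈ cm y := mem_cm.2 (mul_inv_eq_iff_eq_mul.1 hm)
    have h3 : g ^ ℓ ∈ D := by rw [← hcy]; exact pow_mem_cz h2 hPr.yℓ
    exact hgD (cop_mem hgq h3 ((Nat.coprime_primes hq hℓ).2 hqℓ))
  have hord : orderOf (m : ZMod ℓ) = q := orderOf_eq_prime hz hm1
  have hm0 : (m : ZMod ℓ) ≠ 0 := by
    intro he
    rw [he, zero_pow hq.pos.ne'] at hz
    exact zero_ne_one hz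
  have hd := ZMod.orderOf_dvd_card_sub_one hm0
  rw [hord] at hd
  have h1 := Nat.le_of_dvd (by have := hℓ.two_le; omega) hd
  have := hℓ.two_le
  omega

/-- at most one bad prime -/
theorem CI.one_bad (h : CI G p D) {ℓ₁ ℓ₂ : ℕ} (h1 : ℓ₁.Prime) (h2 : ℓ₂.Prime) (h1p : ℓ₁ ≠ p) (h2p : ℓ₂ ≠ p) (h12 : ℓ₁ ≠ ℓ₂)
    (hb1 : ¬ ∃ R : Sylow ℓ₁ G, (R : Subgroup G) ≤ D) (hb2 : ¬ ∃ R : Sylow ℓ₂ G, (R : Subgroup G) ≤ D) : False := by
  obtain ⟨S₁, x₁, y₁, P₁, y₁D, c₁, x₁D, x₁S, y₁S, S₁y⟩ := h.bad_data h1 h1p hb1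
  obtain ⟨S₂, x₂, y₂, P₂, y₂D, c₂, x₂D, x₂S, y₂S, S₂y⟩ := h.bad_data h2 h2p hb2
  have n1 : x₁ ∈ Subgroup.normalizer (D : Set G) := h.ti.norm_of_cm y₁D P₁.yn P₁.cmxy
  have n2 : x₂ ∈ Subgroup.normalizer (D : Set G) := h.ti.norm_of_cm y₂D P₂.yn P₂.cmxy
  have d1 : x₁ ^ ℓ₁ ∈ D := h.ti.center_le P₁.xℓ
  have d2 : x₂ ^ ℓ₂ ∈ D := h.ti.center_le P₂.xℓ
  by_cases e1 : ℓ₁ = 2
  · refine h.ti.noV n1 x₁D ?_ h2 (by omega) y₂D P₂.yn P₂.hy x₂D P₂.cmxy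
    rw [e1, pow_two] at d1
    exact d1
  by_cases e2 : ℓ₂ = 2
  · refine h.ti.noV n2 x₂D ?_ h1 e1 y₁D P₁.yn P₁.hy x₁D P₁.cmxy
    rw [e2, pow_two] at d2
    exact d2
  have s1 := P₁.small h h1 h1p e1 S₁ x₁S y₁S S₁y
  have s2 := P₂.small h h2 h2p e2 S₂ x₂S y₂S S₂y
  have l1 := h.dvd_of h1 P₁ y₁D y₁S S₁y s1 h2 h12.symm n2 d2 x₂D
  have l2 := h.dvd_of h2 P₂ y₂D y₂S S₂y s2 h1 h12 n1 d1 x₁D
  omega

end Cfsg.Agent.ItoCS
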