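import Cfsg.Agent.ItoCS.Cov
/-!
The covering lemma, strong form.
-/
set_option autoImplicit false
set_option linter.all false

namespace Cfsg.Agent.ItoCS

open Cfsg.Agent.H35.CR

universe u

variable {X : Type u} [Group X] [Finite X]

/-- the covering lemma -/
theorem covS {q r : ℕ} (hq : q.Prime) (hr : r.Prime) (hqr : q ≠ r) (D : Subgroup X)
    (hD : ∀ ℓ : ℕ, ℓ = q ∨ ℓ = r → ∀ w ∈ D, w ∉ Subgroup.center X → IsP ℓ w → cz w = D)
    (h1 : ∀ ℓ : ℕ, ℓ = q ∨ ℓ = r → ∃ w ∈ D, w ∉ Subgroup.center X ∧ IsP ℓ w) :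
    ∃ ℓ : ℕ, (ℓ = q ∨ ℓ = r) ∧ ∀ (g : X) (T : Subgroup X), g ∈ T →
      IsPGroup ℓ T → (∀ a ∈ T, ∀ b ∈ T, a * b = b * a) → ℓ ^ (Nat.card D).factorization ℓ ≤ Nat.card T →
      ∃ x : X, x * g * x⁻¹ ∈ D := by
  haveI : Fact q.Prime := ⟨hq⟩
  haveI : Fact r.Prime := ⟨hr⟩
  have hcq := comm_of (hD q (Or.inl rfl))
  have hcr := comm_of (hD r (Or.inr rfl))
  obtain ⟨Q, hQ⟩ := (prt_pgroup (D := D) (h := hcq) hq).exists_le_sylow
  obtain ⟨R, hR⟩ := (prt_pgroup (D := D) (h := hcr) hr).exists_le_sylow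
  by_cases hUq : ∀ B : Subgroup X, B ≤ (Q : Subgroup X) ⊓ Subgroup.normalizer ((prt q D hcq : Subgroup X) : Set X) →
      (∀ a ∈ B, ∀ b ∈ B, a * b = b * a) → Nat.card B = Nat.card (prt q D hcq) → B = prt q D hcq
  · refine ⟨q, Or.inl rfl, fun g T hgT hTp hTc hTcard => ?_⟩
    exact conj_of_unique hq (hD q (Or.inl rfl)) (h1 q (Or.inl rfl)) hcq Q hQ hUq hgT hTp hTc hTcard
  by_cases hUr : ∀ B : Subgroup X, B ≤ (R : Subgroup X) ⊓ Subgroup.normalizer ((prt r D hcr : Subgroup X) : Set X) →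
      (∀ a ∈ B, ∀ b ∈ B, a * b = b * a) → Nat.card B = Nat.card (prt r D hcr) → B = prt r D hcr
  · refine ⟨r, Or.inr rfl, fun g T hgT hTp hTc hTcard => ?_⟩
    exact conj_of_unique hr (hD r (Or.inr rfl)) (h1 r (Or.inr rfl)) hcr R hR hUr hgT hTp hTc hTcard
  exfalso
  push_neg at hUq hUr
  obtain ⟨B, hB, hBc, hBcard, hBne⟩ := hUq
  obtain ⟨B', hB', hBc', hBcard', hBne'⟩ := hUr
  have hNq : IsPGroup q ((Q : Subgroup X) ⊓ Subgroup.normalizer ((prt q D hcq : Subgroup X) : Set X) : Subgroup X) :=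
    Q.isPGroup'.to_le inf_le_left
  have hNr : IsPGroup r ((R : Subgroup X) ⊓ Subgroup.normalizer ((prt r D hcr : Subgroup X) : Set X) : Subgroup X) :=
    R.isPGroup'.to_le inf_le_left
  have a1 := alpha_le hq (hD q (Or.inl rfl)) hcq hNq hB hBc hBcard hBne
  have a2 := alpha_le hr (hD r (Or.inr rfl)) hcr hNr hB' hBc' hBcard' hBne'
  have b1 := nu_lt hq hr hqr (hD q (Or.inl rfl)) (hD r (Or.inr rfl)) (h1 q (Or.inl rfl)) (h1 r (Or.inr rfl)) hcq hcr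
    hNq inf_le_right
  have b2 := nu_lt hr hq hqr.symm (hD r (Or.inr rfl)) (hD q (Or.inl rfl)) (h1 r (Or.inr rfl)) (h1 q (Or.inl rfl)) hcr hcq
    hNr inf_le_right
  omega

end Cfsg.Agent.ItoCS
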