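import Cfsg.Agent.ItoCS.NonF

/-!
F-groups with two noncentral class sizes: basic facts.
-/
set_option autoImplicit false
set_option linter.all false

namespace Cfsg.Agent.ItoCS

open Cfsg.Agent.H35.CR

universe u

variable {G : Type u} [Group G] [Finite G] {a b : ℕ}

/-- F-groups -/
def IsF (G : Type u) [Group G] : Prop :=
  ∀ g₁ g₂ : G, g₁ ∉ Subgroup.center G → g₂ ∉ Subgroup.center G → cz g₁ ≤ cz g₂ → cz g₁ = cz g₂

theorem IsF.central (hF : IsF G) {g x : G} (hg : g ∉ Subgroup.center G) (hx : x ∈ cz g)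
    (hcop : (orderOf g).Coprime (orderOf x)) : cz g ≤ cz x := by
  have hc : g * x = x * g := (mem_cz.1 hx).symm
  have h1 := cz_mul_le hc hcop
  have h2 := hF _ _ (nc_of_le hg h1) hg h1
  rw [← h2]
  exact cz_mul_le' hc hcop

/-- centralizers of noncentral elements in an F-group are nilpotent -/
theorem IsF.nilp (hF : IsF G) {g : G} (hg : g ∉ Subgroup.center G) : Group.IsNilpotent (cz g) := by
  obtain ⟨p, g', hp, hg'g, hg'n, hg'p, -⟩ := prime_part' hg
  have he : cz g = cz g' := hF _ _ hg hg'n (cz_le_of_mem_zpowers hg'g)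
  rw [he]
  haveI : Fact p.Prime := ⟨hp⟩
  apply Group.of_quotient_center_nilpotent
  have hpg : IsPGroup p (cz g' ⧸ Subgroup.center (cz g')) := by
    intro q
    obtain ⟨x, rfl⟩ := QuotientGroup.mk_surjective q
    obtain ⟨y, w, hy, hw, hyw, ⟨k, hk⟩, hwp⟩ := split (x : G) hp
    refine ⟨k, ?_⟩
    have hyC : y ∈ cz g' := (Subgroup.zpowers_le.2 x.2) hy
    have hwC : w ∈ cz g' := (Subgroup.zpowers_le.2 x.2) hw
    have hwc : (⟨w, hwC⟩ : cz g') ∈ Subgroup.center (cz g') := by
      rw [mem_center_cz]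
      exact hF.central hg'n hwC (IsP.cop hp hg'p hwp)
    have h1 : (QuotientGroup.mk x : cz g' ⧸ Subgroup.center (cz g')) = QuotientGroup.mk (⟨y, hyC⟩ : cz g') := by
      have : x = (⟨y, hyC⟩ : cz g') * ⟨w, hwC⟩ := Subtype.ext hyw
      rw [this, QuotientGroup.mk_mul, (QuotientGroup.eq_one_iff _).2 hwc, mul_one]
    rw [h1, ← QuotientGroup.mk_pow]
    have : (⟨y, hyC⟩ : cz g') ^ p ^ k = 1 := Subtype.ext hk
    rw [this, QuotientGroup.mk_one]
  exact hpg.isNilpotent

/-- the centre of the centralizer contains the centre -/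
theorem center_le_zc (g : G) : Subgroup.center G ≤ zc g := by
  intro x hx
  rw [mem_zc, cz_top_of_center hx]
  exact le_top

/-- the partition of `G/Z` -/
def fam (G : Type u) [Group G] : Set (Subgroup (G ⧸ Subgroup.center G)) :=
  {H | ∃ g : G, g ∉ Subgroup.center G ∧ H = (zc g).map (QuotientGroup.mk' (Subgroup.center G))}

theorem mem_map_zc {g x : G} : (QuotientGroup.mk x : G ⧸ Subgroup.center G) ∈
    (zc g).map (QuotientGroup.mk' (Subgroup.center G)) ↔ x ∈ zc g := by
  constructor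
  · rintro ⟨y, hy, hyx⟩
    have h1 : (QuotientGroup.mk y : G ⧸ Subgroup.center G) = QuotientGroup.mk x := hyx
    rw [QuotientGroup.eq] at h1
    have := (zc g).mul_mem hy (center_le_zc g h1)
    rwa [mul_inv_cancel_left] at this
  · intro hx
    exact ⟨x, hx, rfl⟩

theorem IsF.zc_eq (hF : IsF G) {g x : G} (hg : g ∉ Subgroup.center G) (hx : x ∉ Subgroup.center G) (h : x ∈ zc g) :
    zc x = zc g := by
  have h1 : cz g = cz x := hF _ _ hg hx (mem_zc.1 h)
  unfold zc
  rw [h1]

theorem IsF.part (hF : IsF G) (q : G ⧸ Subgroup.center G) (hq : q ≠ 1) :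
    ∃! H : Subgroup (G ⧸ Subgroup.center G), H ∈ fam G ∧ q ∈ H := by
  obtain ⟨x, rfl⟩ := QuotientGroup.mk_surjective q
  have hx : x ∉ Subgroup.center G := fun h => hq ((QuotientGroup.eq_one_iff x).2 h)
  refine ⟨(zc x).map (QuotientGroup.mk' (Subgroup.center G)), ⟨⟨x, hx, rfl⟩, ?_⟩, ?_⟩
  · rw [mem_map_zc, mem_zc]
  · rintro H ⟨⟨g, hg, rfl⟩, hxH⟩
    rw [mem_map_zc] at hxH
    rw [hF.zc_eq hg hx hxH]

theorem fam_ne_bot {H : Subgroup (G ⧸ Subgroup.center G)} (hH : H ∈ fam G) : H ≠ ⊥ := by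
  obtain ⟨g, hg, rfl⟩ := hH
  intro h
  have h1 : (QuotientGroup.mk g : G ⧸ Subgroup.center G) ∈ (zc g).map (QuotientGroup.mk' (Subgroup.center G)) := by
    rw [mem_map_zc, mem_zc]
  rw [h, Subgroup.mem_bot, QuotientGroup.eq_one_iff] at h1
  exact hg h1

theorem IsF.two_members (hF : IsF G) {g : G} (hg : g ∉ Subgroup.center G) : ∃ H ∈ fam G, ∃ K ∈ fam G, H ≠ K := by
  by_contra hcon
  push_neg at hcon
  apply hg
  rw [Subgroup.mem_center_iff]
  intro x
  by_cases hx : x ∈ Subgroup.center G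
  · exact (Subgroup.mem_center_iff.1 hx g).symm
  · have h1 := hcon _ ⟨g, hg, rfl⟩ _ ⟨x, hx, rfl⟩
    have h2 : (QuotientGroup.mk x : G ⧸ Subgroup.center G) ∈ (zc x).map (QuotientGroup.mk' (Subgroup.center G)) := by
      rw [mem_map_zc, mem_zc]
    rw [← h1, mem_map_zc] at h2
    exact mem_cz.1 (Subgroup.mem_inf.1 h2).1

/-- orders modulo the centre -/
theorem card_map_cz (g : G) : Nat.card ((cz g).map (QuotientGroup.mk' (Subgroup.center G))) =
    c g / Nat.card (Subgroup.center G) := by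
  have h1 := Subgroup.relIndex_ker (cz g) (QuotientGroup.mk' (Subgroup.center G))
  rw [QuotientGroup.ker_mk'] at h1
  rw [← h1]
  have h2 := ((Subgroup.center G).subgroupOf (cz g)).card_mul_index
  rw [Nat.card_congr (Subgroup.subgroupOfEquivOfLe (center_le_cz g)).toEquiv] at h2
  unfold c
  rw [← h2, Nat.mul_div_cancel_left _ Nat.card_pos]
  rfl

theorem map_cz_le (g : G) : (cz g).map (QuotientGroup.mk' (Subgroup.center G)) ≤
    cz (QuotientGroup.mk g : G ⧸ Subgroup.center G) := by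
  rintro _ ⟨y, hy, rfl⟩
  rw [mem_cz]
  show (QuotientGroup.mk y : G ⧸ Subgroup.center G) * QuotientGroup.mk g = _
  rw [← QuotientGroup.mk_mul, mem_cz.1 hy]
  rfl

/-- three elements with pairwise incompatible centralizer orders -/
theorem Dat.three (h : Dat G a b) (x : Fin 3 → G ⧸ Subgroup.center G) (r : Fin 3 → ℕ) (hr : ∀ i, (r i).Prime)
    (hx : ∀ i, orderOf (x i) = r i)
    (hinc : ∀ i j, i ≠ j → ¬ (r i ∣ Nat.card (cz (x j)) ∧ r j ∣ Nat.card (cz (x i)))) : False := by
  choose g hg using fun i => QuotientGroup.mk_surjective (x i)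
  have hgn : ∀ i, g i ∉ Subgroup.center G := by
    intro i hc
    have h1 : x i = 1 := by rw [← hg i]; exact (QuotientGroup.eq_one_iff _).2 hc
    have h2 := hx i
    rw [h1, orderOf_one] at h2
    exact (hr i).one_lt.ne h2
  have hd1 : ∀ i, r i ∣ c (g i) / Nat.card (Subgroup.center G) := by
    intro i
    rw [← card_map_cz]
    have h1 : (QuotientGroup.mk (g i) : G ⧸ Subgroup.center G) ∈ (cz (g i)).map (QuotientGroup.mk' (Subgroup.center G)) :=
      ⟨g i, self_mem _, rfl⟩
    rw [hg i] at h1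
    have h2 : orderOf (⟨x i, h1⟩ : (cz (g i)).map (QuotientGroup.mk' (Subgroup.center G))) ∣ _ := orderOf_dvd_natCard _
    rw [Subgroup.orderOf_mk, hx i] at h2
    exact h2
  have hd2 : ∀ i, c (g i) / Nat.card (Subgroup.center G) ∣ Nat.card (cz (x i)) := by
    intro i
    rw [← card_map_cz, ← hg i]
    exact Subgroup.card_dvd_of_le (map_cz_le _)
  have hne : ∀ i j, i ≠ j → c (g i) ≠ c (g j) := by
    intro i j hij he
    apply hinc i j hij
    constructor
    · have := hd1 i
      rw [he] at this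
      exact this.trans (hd2 j)
    · have := hd1 j
      rw [← he] at this
      exact this.trans (hd2 i)
  have h01 := hne 0 1 (by decide)
  have h02 := hne 0 2 (by decide)
  have h12 := hne 1 2 (by decide)
  rcases h.two _ (hgn 0) with e0 | e0 <;> rcases h.two _ (hgn 1) with e1 | e1 <;> rcases h.two _ (hgn 2) with e2 | e2 <;>
    simp_all

end Cfsg.Agent.ItoCS
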