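import Cfsg.Agent.ItoCS.Phi
import Cfsg.Agent.ItoCS.CovS
import Cfsg.Agent.ItoCS.FBase
import Cfsg.Agent.S0042
import Cfsg.Agent.S0035
/-!
Groups in which the noncentral centralizers are conjugate to one of two abelian TI subgroups.
-/
set_option autoImplicit false
set_option linter.all false

namespace Cfsg.Agent.ItoCS

open Cfsg.Agent.H35.CR

universe u

variable {G : Type u} [Group G] [Finite G]

/-- the number of noncentral elements conjugate into `D` -/
theorem card_conj_le (D : Subgroup G) (hZ : Subgroup.center G ≤ D) :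
    Nat.card {g : G // g ∉ Subgroup.center G ∧ ∃ x : G, x * g * x⁻¹ ∈ D} ≤
      (Subgroup.normalizer (D : Set G)).index * (Nat.card D - Nat.card (Subgroup.center G)) := by
  classical
  set N : Subgroup G := Subgroup.normalizer (D : Set G) with hN
  let W := {d : D // (d : G) ∉ Subgroup.center G}
  have hW : Nat.card W = Nat.card D - Nat.card (Subgroup.center G) := by
    have h1 : Nat.card {d : D // (d : G) ∈ Subgroup.center G} + Nat.card W = Nat.card D := by
      have := Nat.card_congr (Equiv.sumCompl (fun d : D => (d : G) ∈ Subgroup.center G))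
      rw [Nat.card_sum] at this
      exact this
    have h2 : Nat.card {d : D // (d : G) ∈ Subgroup.center G} = Nat.card (Subgroup.center G) := by
      apply Nat.card_congr
      exact ⟨fun d => ⟨d.1, d.2⟩, fun z => ⟨⟨z.1, hZ z.2⟩, z.2⟩, fun d => rfl, fun z => rfl⟩
    omega
  let F : (G ⧸ N) × W → G := fun qw => qw.1.out * (qw.2.1 : G) * (qw.1.out)⁻¹
  have hsub : {g : G | g ∉ Subgroup.center G ∧ ∃ x : G, x * g * x⁻¹ ∈ D} ⊆ Set.range F := by
    rintro g ⟨hg, x, hx⟩
    obtain ⟨n, hn⟩ := QuotientGroup.mk_out_eq_mul N (x⁻¹)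
    set y := (QuotientGroup.mk x⁻¹ : G ⧸ N).out with hy
    have h1 : y⁻¹ * g * y ∈ D := by
      have e : y⁻¹ * g * y = (n : G)⁻¹ * (x * g * x⁻¹) * (n : G)⁻¹⁻¹ := by rw [hn]; group
      rw [e]
      exact (Subgroup.mem_normalizer_iff.1 (N.inv_mem n.2) _).1 hx
    have h2 : y⁻¹ * g * y ∉ Subgroup.center G := by
      have := nc_conj (x := y⁻¹) hg
      rwa [inv_inv] at this
    refine ⟨(QuotientGroup.mk x⁻¹, ⟨⟨_, h1⟩, h2⟩), ?_⟩
    show y * (y⁻¹ * g * y) * y⁻¹ = g
    group
  have h3 : Nat.card {g : G // g ∉ Subgroup.center G ∧ ∃ x : G, x * g * x⁻¹ ∈ D} ≤ Nat.card (Set.range F) :=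
    Nat.card_le_card_of_injective (Set.inclusion hsub) (Set.inclusion_injective hsub)
  have h4 : Nat.card (Set.range F) ≤ Nat.card ((G ⧸ N) × W) :=
    Nat.card_le_card_of_surjective (Set.rangeFactorization F) Set.rangeFactorization_surjective
  rw [Nat.card_prod, hW] at h4
  exact h3.trans h4

/-- TI subgroups modulo the centre (without conditions on primes) -/
structure TI0 (G : Type u) [Group G] (D : Subgroup G) : Prop where
  hD : ∀ d ∈ D, d ∉ Subgroup.center G → cz d = D
  nc : ∃ d ∈ D, d ∉ Subgroup.center G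

theorem TI0.center_le {D : Subgroup G} (h : TI0 G D) : Subgroup.center G ≤ D := by
  obtain ⟨d, hd, hdn⟩ := h.nc
  rw [← h.hD d hd hdn]; exact center_le_cz d

theorem TI0.comm {D : Subgroup G} (h : TI0 G D) {a b : G} (ha : a ∈ D) (hb : b ∈ D) : a * b = b * a := by
  by_cases hac : a ∈ Subgroup.center G
  · exact (Subgroup.mem_center_iff.1 hac b).symm
  · rw [← h.hD a ha hac] at hb
    exact (mem_cz.1 hb).symm

theorem TI0.norm_of {D : Subgroup G} (h : TI0 G D) {g w : G} (hw : w ∈ D) (hwn : w ∉ Subgroup.center G)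
    (h' : g * w * g⁻¹ ∈ D) : g ∈ Subgroup.normalizer (D : Set G) := by
  apply TI.norm_of_map
  have h1 : cz (g * w * g⁻¹) = D := h.hD _ h' (nc_conj hwn)
  rw [cz_conj, h.hD w hw hwn] at h1
  exact h1

/-- a self-normalizing TI subgroup -/
theorem TI0.solvable_of_selfNorm {D : Subgroup G} (h : TI0 G D) (hN : Subgroup.normalizer (D : Set G) = D) :
    Group.IsSolvable G := by
  obtain ⟨d₀, hd₀, hd₀n⟩ := h.nc
  set D' := D.map (QuotientGroup.mk' (Subgroup.center G)) with hD'
  have hmem : ∀ g : G, (QuotientGroup.mk g : G ⧸ Subgroup.center G) ∈ D' ↔ g ∈ D := by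
    intro g
    constructor
    · rintro ⟨y, hy, hyg⟩
      have h1 : (QuotientGroup.mk y : G ⧸ Subgroup.center G) = QuotientGroup.mk g := hyg
      rw [QuotientGroup.eq] at h1
      have := D.mul_mem hy (h.center_le h1)
      rwa [mul_inv_cancel_left] at this
    · intro hg
      exact ⟨g, hg, rfl⟩
  have hFC : Cfsg.IsFrobeniusComplement D' := by
    refine ⟨?_, ?_, ?_⟩
    · intro hb
      have h1 : (QuotientGroup.mk d₀ : G ⧸ Subgroup.center G) ∈ D' := (hmem d₀).2 hd₀
      rw [hb, Subgroup.mem_bot, QuotientGroup.eq_one_iff] at h1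
      exact hd₀n h1
    · intro ht
      apply hd₀n
      rw [Subgroup.mem_center_iff]
      intro g
      have h1 : (QuotientGroup.mk g : G ⧸ Subgroup.center G) ∈ D' := by rw [ht]; trivial
      exact h.comm ((hmem g).1 h1) hd₀
    · intro g hg
      obtain ⟨g, rfl⟩ := QuotientGroup.mk_surjective g
      rw [eq_bot_iff]
      intro w hw
      obtain ⟨hw1, hw2⟩ := Subgroup.mem_inf.1 hw
      obtain ⟨w, rfl⟩ := QuotientGroup.mk_surjective w
      rw [Subgroup.mem_pointwise_smul_iff_inv_smul_mem] at hw2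
      have e : (MulAut.conj (QuotientGroup.mk g : G ⧸ Subgroup.center G))⁻¹ • (QuotientGroup.mk w : G ⧸ Subgroup.center G) =
          QuotientGroup.mk (g⁻¹ * w * g) := by
        rw [← map_inv]
        show (QuotientGroup.mk g : G ⧸ Subgroup.center G)⁻¹ * (QuotientGroup.mk w) *
          (QuotientGroup.mk g : G ⧸ Subgroup.center G)⁻¹⁻¹ = _
        rw [inv_inv]; rfl
      rw [e, hmem] at hw2
      rw [Subgroup.mem_bot, QuotientGroup.eq_one_iff]
      by_contra hwn
      apply hg
      rw [hmem]
      have hwD := (hmem w).1 hw1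
      have h3 : g⁻¹ ∈ Subgroup.normalizer (D : Set G) := h.norm_of hwD hwn (by rw [inv_inv]; exact hw2)
      rw [hN] at h3
      exact D.inv_mem_iff.1 h3
  obtain ⟨K, hK, hKn, hKnil⟩ := Cfsg.Agent.S0042.result D' hFC
  obtain ⟨K', hK', hKn', hKc⟩ := Cfsg.Agent.S0035.result D' hFC
  have hKK : K = K' := SetLike.coe_injective (hK.trans hK'.symm)
  subst hKK
  haveI := hKn
  haveI := hKnil
  have s1 : Group.IsSolvable K := inferInstance
  -- the complement is commutative
  have s2 : Group.IsSolvable D' := by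
    letI : CommGroup D' := { (inferInstance : Group D') with
      mul_comm := by
        rintro ⟨_, x, hx, rfl⟩ ⟨_, y, hy, rfl⟩
        apply Subtype.ext
        show (QuotientGroup.mk x : G ⧸ Subgroup.center G) * QuotientGroup.mk y = QuotientGroup.mk y * QuotientGroup.mk x
        rw [← QuotientGroup.mk_mul, h.comm hx hy]; rfl }
    infer_instance
  have s3 : Group.IsSolvable ((G ⧸ Subgroup.center G) ⧸ K) := by
    have hsurj : Function.Surjective ((QuotientGroup.mk' K).comp D'.subtype) := by
      intro q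
      obtain ⟨g, rfl⟩ := QuotientGroup.mk_surjective q
      obtain ⟨⟨k, d⟩, hkd⟩ := hKc.2 g
      refine ⟨d, ?_⟩
      show (QuotientGroup.mk (d : G ⧸ Subgroup.center G) : _ ⧸ K) = QuotientGroup.mk g
      rw [← hkd, QuotientGroup.mk_mul, (QuotientGroup.eq_one_iff _).2 k.2, one_mul]
    exact solvable_of_surjective hsurj
  have s4 : Group.IsSolvable (G ⧸ Subgroup.center G) :=
    solvable_of_ker_le_range K.subtype (QuotientGroup.mk' K) (by rw [QuotientGroup.ker_mk', Subgroup.range_subtype])
  have s5 : Group.IsSolvable (Subgroup.center G) :=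
    isSolvable_of_comm (fun a b => Subtype.ext (Subgroup.mem_center_iff.1 b.2 a))
  exact solvable_of_ker_le_range (Subgroup.center G).subtype (QuotientGroup.mk' (Subgroup.center G)) (by
    rw [QuotientGroup.ker_mk', Subgroup.range_subtype])

/-- **Case II** -/
theorem TI0.solvable_two {D₁ D₂ : Subgroup G} (h1 : TI0 G D₁) (h2 : TI0 G D₂)
    (hcov : ∀ g : G, g ∉ Subgroup.center G → (∃ x : G, x * g * x⁻¹ ∈ D₁) ∨ ∃ x : G, x * g * x⁻¹ ∈ D₂) :
    Group.IsSolvable G := by
  classical
  by_cases n1 : Subgroup.normalizer (D₁ : Set G) = D₁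
  · exact h1.solvable_of_selfNorm n1
  by_cases n2 : Subgroup.normalizer (D₂ : Set G) = D₂
  · exact h2.solvable_of_selfNorm n2
  exfalso
  have hbound : ∀ D : Subgroup G, TI0 G D → Subgroup.normalizer (D : Set G) ≠ D →
      2 * Nat.card {g : G // g ∉ Subgroup.center G ∧ ∃ x : G, x * g * x⁻¹ ∈ D} + 2 * Nat.card (Subgroup.center G) ≤ Nat.card G := by
    intro D h hN
    have hle : D ≤ Subgroup.normalizer (D : Set G) := Subgroup.le_normalizer
    have c1 := card_conj_le D h.center_le
    have c2 : Nat.card (Subgroup.normalizer (D : Set G)) * (Subgroup.normalizer (D : Set G)).index = Nat.card G :=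
      Subgroup.card_mul_index _
    have c3 : 2 * Nat.card D ≤ Nat.card (Subgroup.normalizer (D : Set G)) := by
      obtain ⟨k, hk⟩ := Subgroup.card_dvd_of_le hle
      have hk1 : k ≠ 1 := by
        rintro rfl
        rw [mul_one] at hk
        exact hN (Subgroup.eq_of_le_of_card_ge hle hk.le).symm
      have hk0 : k ≠ 0 := by
        rintro rfl
        rw [mul_zero] at hk
        exact Nat.card_pos.ne' hk
      rw [hk]
      have : 0 < Nat.card D := Nat.card_pos
      have : 2 ≤ k := by omega
      nlinarith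
    have c4 : Nat.card (Subgroup.center G) ≤ Nat.card D := Nat.le_of_dvd Nat.card_pos (Subgroup.card_dvd_of_le h.center_le)
    have c5 : 0 < (Subgroup.normalizer (D : Set G)).index :=
      Nat.pos_of_ne_zero (Subgroup.index_ne_zero_of_finite)
    set i := (Subgroup.normalizer (D : Set G)).index
    set d := Nat.card D
    set z := Nat.card (Subgroup.center G)
    obtain ⟨e, he⟩ : ∃ e, d = z + e := ⟨d - z, by omega⟩
    rw [he] at c1 c3
    rw [Nat.add_sub_cancel_left] at c1
    rw [← c2]
    nlinarith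
  have b1 := hbound D₁ h1 n1
  have b2 := hbound D₂ h2 n2
  have hall : Nat.card G ≤ Nat.card (Subgroup.center G) +
      (Nat.card {g : G // g ∉ Subgroup.center G ∧ ∃ x : G, x * g * x⁻¹ ∈ D₁} +
        Nat.card {g : G // g ∉ Subgroup.center G ∧ ∃ x : G, x * g * x⁻¹ ∈ D₂}) := by
    rw [← Nat.card_sum, ← Nat.card_sum]
    apply Nat.card_le_card_of_injective (f := fun g : G =>
      if hz : g ∈ Subgroup.center G then Sum.inl (⟨g, hz⟩ : Subgroup.center G)
      else if h1' : ∃ x : G, x * g * x⁻¹ ∈ D₁ then Sum.inr (Sum.inl ⟨g, hz, h1'⟩)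
      else Sum.inr (Sum.inr ⟨g, hz, (hcov g hz).resolve_left h1'⟩))
    intro g g' he
    dsimp only at he
    split_ifs at he <;> simp_all
  have : 0 < Nat.card (Subgroup.center G) := Nat.card_pos
  omega

end Cfsg.Agent.ItoCS
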