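import Cfsg.Agent.ItoCS.LemH
import Cfsg.Agent.FrobThm.Basic
/-!
Groups with two noncentral class sizes: conjugacy of the small centralizers and a count.
-/
set_option autoImplicit false
set_option linter.all false

namespace Cfsg.Agent.ItoCS

open Cfsg.Agent.H35.CR

universe u

variable {X : Type u} [Group X] [Finite X]

/-- primary elements prime to `p` have abelian centralizers of constant order -/
def Cst (X : Type u) [Group X] [Finite X] (p a : ℕ) : Prop :=
  ∀ (t : ℕ) (g : X), t.Prime → t ≠ p → IsP t g → g ∉ Subgroup.center X →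
      (∀ x ∈ cz g, ∀ y ∈ cz g, x * y = y * x) ∧ c g = a

theorem Cst.conj_all {p a : ℕ} (hX : Cst X p a)
    {q r : ℕ} (hq : q.Prime) (hr : r.Prime) (hqr : q ≠ r) (hqp : q ≠ p) (hrp : r ≠ p)
    (hur : ∃ u : X, u ∉ Subgroup.center X ∧ IsP r u) {u : X} (hun : u ∉ Subgroup.center X) (huq : IsP q u)
    (t : ℕ) (g : X) (ht : t.Prime) (htp : t ≠ p) (hgt : IsP t g) (hg : g ∉ Subgroup.center X) :
    ∃ x : X, x * g * x⁻¹ ∈ cz u := by
  obtain ⟨hua, huc⟩ := hX q u hq hqp huq hun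
  have hℓ : ∀ ℓ : ℕ, ℓ = q ∨ ℓ = r → ℓ.Prime ∧ ℓ ≠ p ∧ ∃ u : X, u ∉ Subgroup.center X ∧ IsP ℓ u := by
    rintro ℓ (rfl | rfl)
    · exact ⟨hq, hqp, u, hun, huq⟩
    · exact ⟨hr, hrp, hur⟩
  have hmem : ∀ ℓ : ℕ, ℓ = q ∨ ℓ = r → ∀ (t : ℕ) (g : X), t.Prime → t ≠ p → IsP t g → g ∉ Subgroup.center X →
      ∃ v ∈ cz g, v ∉ Subgroup.center X ∧ IsP ℓ v := by
    intro ℓ hl t g ht htp hgt hg
    obtain ⟨l1, l2, v, hvn, hvl⟩ := hℓ ℓ hl
    exact mem_card l1 ((hX ℓ v l1 l2 hvl hvn).2.trans (hX t g ht htp hgt hg).2.symm) ⟨v, self_mem v, hvn, hvl⟩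
  have hD : ∀ ℓ : ℕ, ℓ = q ∨ ℓ = r → ∀ w ∈ cz u, w ∉ Subgroup.center X → IsP ℓ w → cz w = cz u := by
    intro ℓ hl w hw hwn hwl
    obtain ⟨l1, l2, -⟩ := hℓ ℓ hl
    exact cz_eq_of_mem hua hw ((hX ℓ w l1 l2 hwl hwn).2.trans huc.symm)
  obtain ⟨ℓ, hl, hcov⟩ := cov hq hr hqr (cz u) hD (fun ℓ hl => hmem ℓ hl q u hq hqp huq hun)
    (fun ℓ hl g hg hgl => by
      obtain ⟨l1, l2, -⟩ := hℓ ℓ hl
      obtain ⟨h1, h2⟩ := hX ℓ g l1 l2 hgl hg
      refine ⟨prt ℓ (cz g) (fun x hx _ y hy => h1 x hx y hy), ⟨self_mem g, hgl⟩, prt_pgroup l1, ?_, ?_⟩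
      · intro x hx y hy; exact h1 x hx.1 y hy.1
      · rw [card_prt l1]
        change _ ≤ ℓ ^ (c g).factorization ℓ
        rw [h2, ← huc]
        exact le_refl _)
  obtain ⟨v, hvg, hvn, hvl⟩ := hmem ℓ hl t g ht htp hgt hg
  obtain ⟨y, hy⟩ := hcov v hvn hvl
  refine ⟨y, ?_⟩
  rw [← hD ℓ hl _ hy (nc_conj hvn) (hvl.conj y), cz_conj]
  exact ⟨g, mem_cz_symm hvg, rfl⟩

/-- all `p'`-elements outside the centre -/
theorem Cst.gen {p a : ℕ} (hX : Cst X p a) {g : X} (hg : g ∉ Subgroup.center X) (hgp : ¬ p ∣ orderOf g) :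
    (∀ x ∈ cz g, ∀ y ∈ cz g, x * y = y * x) ∧ c g = a := by
  obtain ⟨t, g', ht, hg'g, hg'n, hg't, htd⟩ := prime_part' hg
  have htp : t ≠ p := by rintro rfl; exact hgp htd
  obtain ⟨h1, h2⟩ := hX t g' ht htp hg't hg'n
  have hle : cz g ≤ cz g' := cz_le_of_mem_zpowers hg'g
  have hge : cz g' ≤ cz g := by
    intro y hy
    exact mem_cz.2 (h1 y hy g (hle (self_mem g)))
  have he : cz g = cz g' := le_antisymm hle hge
  refine ⟨?_, ?_⟩
  · rw [he]; exact h1
  · unfold c; rw [he]; exact h2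

theorem exists_conj_mem {p : ℕ} (hp : p.Prime) {D : Subgroup X} (hD : ¬ p ∣ D.index) {x : X} (hx : IsP p x) :
    ∃ y : X, y * x * y⁻¹ ∈ D := by
  haveI : Fact p.Prime := ⟨hp⟩
  have hP : IsPGroup p (Subgroup.zpowers x) := by
    rintro ⟨z, hz⟩
    obtain ⟨k, hk⟩ := hx.mem_zpowers hz
    exact ⟨k, Subtype.ext hk⟩
  have h1 : ¬ p ∣ Nat.card (X ⧸ D) := hD
  obtain ⟨f, hf⟩ := hP.nonempty_fixed_point_of_prime_not_dvd_card (X ⧸ D) h1
  obtain ⟨y, rfl⟩ := QuotientGroup.mk_surjective f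
  have h2 := hf ⟨x, Subgroup.mem_zpowers x⟩
  have h3 : (QuotientGroup.mk (x * y) : X ⧸ D) = QuotientGroup.mk y := h2
  rw [eq_comm, QuotientGroup.eq] at h3
  refine ⟨y⁻¹, ?_⟩
  rw [inv_inv, mul_assoc]
  exact h3

/-- (G7) -/
theorem Cst.dvd_index {p a : ℕ} (hp : p.Prime) (hX : Cst X p a) {u : X} {q : ℕ} (hq : q.Prime) (hqp : q ≠ p)
    (hun : u ∉ Subgroup.center X) (huq : IsP q u)
    (hconj : ∀ (t : ℕ) (g : X), t.Prime → t ≠ p → IsP t g → g ∉ Subgroup.center X → ∃ x : X, x * g * x⁻¹ ∈ cz u) :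
    p ∣ (cz u).index := by
  by_contra hcon
  obtain ⟨hua, huc⟩ := hX q u hq hqp huq hun
  have htop : cz u = ⊤ := by
    apply H67.eq_top_of_conj_cover
    intro g
    obtain ⟨x, w, hx, hw, hxw, hxp, hwp⟩ := split g hp
    by_cases hwc : w ∈ Subgroup.center X
    · obtain ⟨y, hy⟩ := exists_conj_mem hp hcon hxp
      refine ⟨y, ?_⟩
      have : y * g * y⁻¹ = (y * x * y⁻¹) * w := by
        have hwy : w * y⁻¹ = y⁻¹ * w := (Subgroup.mem_center_iff.1 hwc y⁻¹).symm
        calc y * g * y⁻¹ = y * x * (w * y⁻¹) := by rw [hxw]; group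
          _ = y * x * (y⁻¹ * w) := by rw [hwy]
          _ = _ := by group
      rw [this]
      exact (cz u).mul_mem hy (center_le_cz u hwc)
    · obtain ⟨t, w', ht, hw'w, hw'n, hw't, htd⟩ := prime_part' hwc
      have htp : t ≠ p := by rintro rfl; exact hwp htd
      obtain ⟨y, hy⟩ := hconj t w' ht htp hw't hw'n
      refine ⟨y, ?_⟩
      have h1 : cz (y * w' * y⁻¹) = cz u := cz_eq_of_mem hua hy
        ((hX t _ ht htp (hw't.conj y) (nc_conj hw'n)).2.trans huc.symm)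
      rw [← h1, cz_conj]
      refine ⟨g, ?_, rfl⟩
      exact cz_le_of_mem_zpowers ((Subgroup.zpowers_le.2 hw) hw'w) (self_mem g)
  exact hun (center_of_cz_top htop)

/-- the subgroup of `p'`-elements of an abelian subgroup -/
def pcomp (p : ℕ) (hp : p.Prime) (H : Subgroup X) (hH : ∀ x ∈ H, ∀ y ∈ H, x * y = y * x) : Subgroup X where
  carrier := {x | x ∈ H ∧ ¬ p ∣ orderOf x}
  one_mem' := ⟨H.one_mem, by rw [orderOf_one]; exact hp.not_dvd_one⟩
  mul_mem' := by
    rintro x y ⟨hx, hx'⟩ ⟨hy, hy'⟩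
    refine ⟨H.mul_mem hx hy, ?_⟩
    intro h
    have hc : Commute x y := hH x hx y hy
    have h1 := h.trans (hc.orderOf_mul_dvd_mul_orderOf)
    rcases (Nat.Prime.dvd_mul hp).1 h1 with h2 | h2
    · exact hx' h2
    · exact hy' h2
  inv_mem' := by
    rintro x ⟨hx, hx'⟩
    exact ⟨H.inv_mem hx, by rw [orderOf_inv]; exact hx'⟩

theorem card_pcomp {p : ℕ} (hp : p.Prime) {H : Subgroup X} (hH : ∀ x ∈ H, ∀ y ∈ H, x * y = y * x) :
    Nat.card (pcomp p hp H hH) = ordCompl[p] (Nat.card H) := by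
  haveI : Fact p.Prime := ⟨hp⟩
  have hle : pcomp p hp H hH ≤ H := fun x hx => hx.1
  have h1 : ¬ p ∣ Nat.card (pcomp p hp H hH) := by
    intro h
    obtain ⟨x, hx⟩ := exists_prime_orderOf_dvd_card' (G := pcomp p hp H hH) p h
    have h2 := x.2.2
    rw [Subgroup.orderOf_coe, hx] at h2
    exact h2 (dvd_refl p)
  apply Nat.dvd_antisymm
  · have h3 : Nat.card (pcomp p hp H hH) ∣ Nat.card H := Subgroup.card_dvd_of_le hle
    have h4 := (Nat.ordProj_mul_ordCompl_eq_self (Nat.card H) p)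
    rw [← h4] at h3
    exact (Nat.Coprime.dvd_of_dvd_mul_left
      (Nat.Coprime.pow_right _ ((Nat.Prime.coprime_iff_not_dvd hp).2 h1).symm) h3)
  · apply (Nat.dvd_iff_prime_pow_dvd_dvd _ _).2
    intro q k hq hk
    by_cases e : q = p
    · subst e
      rcases Nat.eq_zero_or_pos k with rfl | hk0
      · rw [pow_zero]; exact one_dvd _
      · exfalso
        exact Nat.not_dvd_ordCompl hq (Nat.card_pos.ne' : Nat.card H ≠ 0) ((dvd_pow_self q hk0.ne').trans hk)
    · haveI : Fact q.Prime := ⟨hq⟩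
      have h3 : q ^ k ∣ Nat.card H := hk.trans (Nat.ordCompl_dvd _ _)
      obtain ⟨K, hK⟩ := Sylow.exists_subgroup_card_pow_prime q h3
      have h4 : K.map H.subtype ≤ pcomp p hp H hH := by
        rintro _ ⟨x, hx, rfl⟩
        refine ⟨x.2, ?_⟩
        intro hd
        have h5 : orderOf (⟨x, hx⟩ : K) ∣ q ^ k := by rw [← hK]; exact orderOf_dvd_natCard _
        have h6 : orderOf (H.subtype x) = orderOf (⟨x, hx⟩ : K) := by
          rw [← Subgroup.orderOf_coe (⟨x, hx⟩ : K)]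
          exact Subgroup.orderOf_coe x
        rw [h6] at hd
        exact e ((Nat.prime_dvd_prime_iff_eq hp hq).1 (hp.dvd_of_dvd_pow (hd.trans h5))).symm
      have h5 := Subgroup.card_dvd_of_le h4
      rw [Subgroup.card_map_of_injective H.subtype_injective, hK] at h5
      exact h5


theorem pow_ordCompl_iff {p : ℕ} (hp : p.Prime) (x : X) : x ^ ordCompl[p] (Nat.card X) = 1 ↔ ¬ p ∣ orderOf x := by
  constructor
  · intro h hd
    exact Nat.not_dvd_ordCompl hp (Nat.card_pos.ne' : Nat.card X ≠ 0) (hd.trans (orderOf_dvd_of_pow_eq_one h))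
  · intro h
    apply orderOf_dvd_iff_pow_eq_one.1
    have h3 : orderOf x ∣ Nat.card X := orderOf_dvd_natCard x
    rw [← (Nat.ordProj_mul_ordCompl_eq_self (Nat.card X) p)] at h3
    exact (Nat.Coprime.dvd_of_dvd_mul_left
      (Nat.Coprime.pow_right _ ((Nat.Prime.coprime_iff_not_dvd hp).2 h).symm) h3)

/-- number of `p'`-elements in a subset split by the centre -/
theorem card_split (P Q : X → Prop) :
    Nat.card {x : X // P x} = Nat.card {x : X // P x ∧ Q x} + Nat.card {x : X // P x ∧ ¬ Q x} := by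
  classical
  haveI := Fintype.ofFinite X
  rw [Nat.card_eq_fintype_card, Nat.card_eq_fintype_card, Nat.card_eq_fintype_card, Fintype.card_subtype,
    Fintype.card_subtype, Fintype.card_subtype]
  rw [← Finset.card_filter_add_card_filter_not (s := Finset.univ.filter P) Q, Finset.filter_filter, Finset.filter_filter]

theorem Cst.bij {p a : ℕ} (hX : Cst X p a) {u : X} (hun : u ∉ Subgroup.center X) (hup : ¬ p ∣ orderOf u)
    (hconj : ∀ g : X, ¬ p ∣ orderOf g → g ∉ Subgroup.center X → ∃ x : X, x * g * x⁻¹ ∈ cz u) :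
    Nat.card {x : X // ¬ p ∣ orderOf x ∧ ¬ x ∈ Subgroup.center X} =
      (Subgroup.normalizer ((cz u : Subgroup X) : Set X)).index *
        Nat.card {x : X // (x ∈ cz u ∧ ¬ p ∣ orderOf x) ∧ ¬ x ∈ Subgroup.center X} := by
  classical
  obtain ⟨hua, huc⟩ := hX.gen hun hup
  set N := Subgroup.normalizer ((cz u : Subgroup X) : Set X) with hN
  have hcz : ∀ d ∈ cz u, ¬ p ∣ orderOf d → d ∉ Subgroup.center X → cz d = cz u := by
    intro d hd hdp hdn
    exact cz_eq_of_mem hua hd ((hX.gen hdn hdp).2.trans huc.symm)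
  let f : (X ⧸ N) × {x : X // (x ∈ cz u ∧ ¬ p ∣ orderOf x) ∧ ¬ x ∈ Subgroup.center X} →
      {x : X // ¬ p ∣ orderOf x ∧ ¬ x ∈ Subgroup.center X} := fun cd =>
    ⟨cd.1.out * cd.2.1 * cd.1.out⁻¹, by
      rw [orderOf_conj]; exact cd.2.2.1.2, nc_conj cd.2.2.2⟩
  have hf : Function.Bijective f := by
    constructor
    · rintro ⟨c₁, d₁, ⟨hd₁, hd₁p⟩, hd₁n⟩ ⟨c₂, d₂, ⟨hd₂, hd₂p⟩, hd₂n⟩ he
      have he' : c₁.out * d₁ * c₁.out⁻¹ = c₂.out * d₂ * c₂.out⁻¹ := congrArg Subtype.val he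
      have h1 : (cz u).map (MulAut.conj c₁.out).toMonoidHom = (cz u).map (MulAut.conj c₂.out).toMonoidHom := by
        rw [← hcz d₁ hd₁ hd₁p hd₁n, ← cz_conj, he', cz_conj, hcz d₁ hd₁ hd₁p hd₁n, hcz d₂ hd₂ hd₂p hd₂n]
      have h2 : c₁.out⁻¹ * c₂.out ∈ N := by
        have hle : ∀ z ∈ cz u, (c₁.out⁻¹ * c₂.out) * z * (c₁.out⁻¹ * c₂.out)⁻¹ ∈ cz u := by
          intro z hz
          have h3 : c₂.out * z * c₂.out⁻¹ ∈ (cz u).map (MulAut.conj c₂.out).toMonoidHom := ⟨z, hz, rfl⟩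
          rw [← h1] at h3
          obtain ⟨z', hz', hzz⟩ := h3
          have hzz' : c₁.out * z' * c₁.out⁻¹ = c₂.out * z * c₂.out⁻¹ := hzz
          have : (c₁.out⁻¹ * c₂.out) * z * (c₁.out⁻¹ * c₂.out)⁻¹ = z' := by
            calc (c₁.out⁻¹ * c₂.out) * z * (c₁.out⁻¹ * c₂.out)⁻¹ = c₁.out⁻¹ * (c₂.out * z * c₂.out⁻¹) * c₁.out := by group
              _ = c₁.out⁻¹ * (c₁.out * z' * c₁.out⁻¹) * c₁.out := by rw [hzz']
              _ = z' := by group
          rw [this]; exact hz'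
        have heq : (cz u).map (MulAut.conj (c₁.out⁻¹ * c₂.out)).toMonoidHom = cz u := by
          apply Subgroup.eq_of_le_of_card_ge
          · rintro _ ⟨z, hz, rfl⟩
            exact hle z hz
          · rw [Subgroup.card_map_of_injective (MulAut.conj _).injective]
        refine Subgroup.mem_normalizer_iff.2 ?_
        intro z
        constructor
        · exact hle z
        · intro hz
          have hz' : (c₁.out⁻¹ * c₂.out) * z * (c₁.out⁻¹ * c₂.out)⁻¹ ∈ cz u := hz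
          rw [← heq] at hz'
          obtain ⟨z', hz'', hzz⟩ := hz'
          have : (c₁.out⁻¹ * c₂.out) * z' * (c₁.out⁻¹ * c₂.out)⁻¹ = (c₁.out⁻¹ * c₂.out) * z * (c₁.out⁻¹ * c₂.out)⁻¹ := hzz
          have h5 : z' = z := mul_left_cancel (mul_right_cancel this)
          rw [← h5]; exact hz''
      have h3 : c₁ = c₂ := by
        have h4 : (QuotientGroup.mk c₁.out : X ⧸ N) = QuotientGroup.mk c₂.out := by
          rw [QuotientGroup.eq]; exact h2
        rwa [QuotientGroup.out_eq', QuotientGroup.out_eq'] at h4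
      subst h3
      have h4 : d₁ = d₂ := mul_left_cancel (mul_right_cancel he')
      subst h4
      rfl
    · rintro ⟨e, hep, hen⟩
      obtain ⟨y, hy⟩ := hconj e hep hen
      obtain ⟨n, hn⟩ := QuotientGroup.mk_out_eq_mul N y⁻¹
      refine ⟨⟨QuotientGroup.mk y⁻¹, ⟨(n : X)⁻¹ * (y * e * y⁻¹) * (n : X)⁻¹⁻¹, ⟨?_, ?_⟩, ?_⟩⟩, ?_⟩
      · exact (Subgroup.mem_normalizer_iff.1 (N.inv_mem n.2) _).1 hy
      · rw [orderOf_conj, orderOf_conj]; exact hep
      · exact nc_conj (nc_conj hen)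
      · apply Subtype.ext
        show (QuotientGroup.mk y⁻¹ : X ⧸ N).out * ((n : X)⁻¹ * (y * e * y⁻¹) * (n : X)⁻¹⁻¹) *
          (QuotientGroup.mk y⁻¹ : X ⧸ N).out⁻¹ = e
        rw [hn]
        group
  have := Nat.card_eq_of_bijective f hf
  rw [← this, Nat.card_prod]
  rfl

/-- the count -/
theorem Cst.count {p a : ℕ} (hp : p.Prime) (hX : Cst X p a) {u : X} (hun : u ∉ Subgroup.center X)
    (hup : ¬ p ∣ orderOf u)
    (hconj : ∀ g : X, ¬ p ∣ orderOf g → g ∉ Subgroup.center X → ∃ x : X, x * g * x⁻¹ ∈ cz u)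
    {s : ℕ} (hs : s.Prime) (hsp : s ≠ p) (hsm : s ∣ (cz u).index) :
    s ^ (cz u).index.factorization s < p ^ (cz u).index.factorization p := by
  obtain ⟨hua, huc⟩ := hX.gen hun hup
  have hbij := hX.bij hun hup hconj
  set D : Subgroup X := cz u with hD
  set N := Subgroup.normalizer (D : Set X) with hN
  set k := N.index with hk
  set m := D.index with hm
  have hm0 : m ≠ 0 := Subgroup.index_ne_zero_of_finite
  have hk0 : k ≠ 0 := Subgroup.index_ne_zero_of_finite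
  have hkm : k ∣ m := Subgroup.index_dvd_of_le Subgroup.le_normalizer
  have hcen : ∀ x ∈ Subgroup.center X, ∀ y ∈ Subgroup.center X, x * y = y * x := fun x _ y hy =>
    Subgroup.mem_center_iff.1 hy x
  set z' := ordCompl[p] (Nat.card (Subgroup.center X)) with hz'
  set b' := ordCompl[p] (Nat.card D) with hb'
  have c1 : Nat.card {x : X // ¬ p ∣ orderOf x ∧ x ∈ Subgroup.center X} = z' := by
    rw [hz', ← card_pcomp hp hcen]
    apply Nat.card_congr
    exact Equiv.subtypeEquivRight (fun x => by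
      rw [and_comm]; exact Iff.rfl)
  have c2 : Nat.card {x : X // x ∈ D ∧ ¬ p ∣ orderOf x} = b' := by
    rw [hb', ← card_pcomp hp hua]
    exact Nat.card_congr (Equiv.subtypeEquivRight (fun x => Iff.rfl))
  have c3 : b' = z' + Nat.card {x : X // (x ∈ D ∧ ¬ p ∣ orderOf x) ∧ ¬ x ∈ Subgroup.center X} := by
    rw [← c2, card_split (fun x => x ∈ D ∧ ¬ p ∣ orderOf x) (fun x => x ∈ Subgroup.center X), ← c1]
    congr 1
    apply Nat.card_congr
    apply Equiv.subtypeEquivRight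
    intro x
    constructor
    · rintro ⟨⟨h1, h2⟩, h3⟩; exact ⟨h2, h3⟩
    · rintro ⟨h2, h3⟩; exact ⟨⟨center_le_cz u h3, h2⟩, h3⟩
  set B := Nat.card {x : X // (x ∈ D ∧ ¬ p ∣ orderOf x) ∧ ¬ x ∈ Subgroup.center X} with hB
  have hBpos : 0 < B := by
    haveI : Nonempty {x : X // (x ∈ D ∧ ¬ p ∣ orderOf x) ∧ ¬ x ∈ Subgroup.center X} :=
      ⟨⟨u, ⟨self_mem u, hup⟩, hun⟩⟩
    exact Nat.card_pos
  have c4 : Nat.card {x : X // ¬ p ∣ orderOf x} = z' + k * B := by
    rw [card_split (fun x => ¬ p ∣ orderOf x) (fun x => x ∈ Subgroup.center X), c1, hbij]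
  -- Frobenius
  have hfro := FrobThm.dvd_card_pow_eq_one (G := X) (ordCompl[p] (Nat.card X)) (Nat.ordCompl_dvd _ _)
  have c5 : Nat.card {g : X // g ^ ordCompl[p] (Nat.card X) = 1} = Nat.card {x : X // ¬ p ∣ orderOf x} :=
    Nat.card_congr (Equiv.subtypeEquivRight (fun x => pow_ordCompl_iff hp x))
  rw [c5, c4] at hfro
  have hcard : Nat.card X = Nat.card D * m := (D.card_mul_index).symm
  have hn' : ordCompl[p] (Nat.card X) = b' * ordCompl[p] m := by
    rw [hcard, Nat.ordCompl_mul]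
  rw [hn'] at hfro
  have hzb : z' ∣ b' := by
    apply Nat.ordCompl_dvd_ordCompl_of_dvd
    exact Subgroup.card_dvd_of_le (center_le_cz u)
  obtain ⟨β, hβ⟩ := hzb
  have hz0 : 0 < z' := Nat.ordCompl_pos p (Nat.card_pos.ne' : Nat.card (Subgroup.center X) ≠ 0)
  have hβ2 : 2 ≤ β := by
    by_contra hlt
    have : β ≤ 1 := by omega
    have h1 : b' ≤ z' := by rw [hβ]; nlinarith
    omega
  obtain ⟨β', rfl⟩ : ∃ β', β = β' + 1 := ⟨β - 1, by omega⟩
  have hBβ : B = z' * β' := by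
    have : z' * (β' + 1) = z' + B := by rw [← hβ]; exact c3
    have h2 : z' * (β' + 1) = z' + z' * β' := by ring
    omega
  have hdiv : (β' + 1) * ordCompl[p] m ∣ 1 + k * β' := by
    have h1 : z' * ((β' + 1) * ordCompl[p] m) ∣ z' * (1 + k * β') := by
      have e1 : z' * ((β' + 1) * ordCompl[p] m) = b' * ordCompl[p] m := by rw [hβ]; ring
      have e2 : z' * (1 + k * β') = z' + k * B := by rw [hBβ]; ring
      rw [e1, e2]; exact hfro
    exact Nat.dvd_of_mul_dvd_mul_left hz0 h1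
  set m' := ordCompl[p] m with hm'
  -- `k` is a power of `p`
  have hk1 : ordCompl[p] k = 1 := by
    have h1 : ordCompl[p] k ∣ m' := Nat.ordCompl_dvd_ordCompl_of_dvd hkm p
    have h2 : ordCompl[p] k ∣ 1 + k * β' := (h1.trans (Dvd.intro_left _ rfl)).trans hdiv
    have h3 : ordCompl[p] k ∣ k * β' := (Nat.ordCompl_dvd k p).trans (Dvd.intro _ rfl)
    exact Nat.dvd_one.1 ((Nat.dvd_add_left h3).1 h2)
  have hkp : k ≤ p ^ m.factorization p := by
    have h1 : p ^ k.factorization p = k := by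
      have := Nat.ordProj_mul_ordCompl_eq_self k p
      rw [hk1, mul_one] at this
      exact this
    rw [← h1]
    apply Nat.pow_le_pow_right hp.pos
    exact (Nat.factorization_le_iff_dvd hk0 hm0).2 hkm p
  -- `s`-part
  have hs1 : s ^ m.factorization s ∣ m' := by
    have h1 : s ^ m.factorization s ∣ m := Nat.ordProj_dvd m s
    have h1' : s ^ m.factorization s ∣ p ^ m.factorization p * m' := by
      rw [hm', Nat.ordProj_mul_ordCompl_eq_self m p]; exact h1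
    refine Nat.Coprime.dvd_of_dvd_mul_left ?_ h1'
    exact Nat.Coprime.pow_left _ (Nat.Coprime.pow_right _ ((Nat.coprime_primes hs hp).2 hsp))
  have hm'0 : 0 < m' := Nat.ordCompl_pos p hm0
  have hs2 : s ^ m.factorization s ≤ m' := Nat.le_of_dvd hm'0 hs1
  have hs3 : 2 ≤ s ^ m.factorization s := by
    have h1 : m.factorization s ≠ 0 := by
      have := (hs.dvd_iff_one_le_factorization hm0).1 hsm
      omega
    calc 2 ≤ s := hs.two_le
      _ = s ^ 1 := (pow_one s).symm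
      _ ≤ s ^ m.factorization s := Nat.pow_le_pow_right hs.pos (by omega)
  have hle : (β' + 1) * m' ≤ 1 + k * β' := Nat.le_of_dvd (by positivity) hdiv
  have hkm' : m' < k := by
    by_contra hcon
    push_neg at hcon
    have h1 : k * β' ≤ m' * β' := Nat.mul_le_mul_right _ hcon
    have h2 : (β' + 1) * m' = m' * β' + m' := by ring
    omega
  omega

end Cfsg.Agent.ItoCS
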