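import Cfsg.Agent.ItoCS.Base
import Cfsg.Agent.H33.Base
/-!
Groups with two noncentral class sizes: the covering lemma.
-/
set_option autoImplicit false
set_option linter.all false

namespace Cfsg.Agent.ItoCS

open Cfsg.Agent.H35.CR

universe u

variable {X : Type u} [Group X]

/-- the subgroup of `ℓ`-elements, when they are central in `D` -/
def prt (ℓ : ℕ) (D : Subgroup X) (h : ∀ x ∈ D, IsP ℓ x → ∀ y ∈ D, x * y = y * x) : Subgroup X where
  carrier := {x | x ∈ D ∧ IsP ℓ x}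
  one_mem' := ⟨D.one_mem, 0, one_pow _⟩
  mul_mem' := by
    rintro x y ⟨hx, i, hi⟩ ⟨hy, j, hj⟩
    refine ⟨D.mul_mem hx hy, i + j, ?_⟩
    have hc : Commute x y := h x hx ⟨i, hi⟩ y hy
    rw [hc.mul_pow, pow_add, pow_mul, hi, one_pow, one_mul, mul_comm, pow_mul, hj, one_pow]
  inv_mem' := by
    rintro x ⟨hx, i, hi⟩
    exact ⟨D.inv_mem hx, i, by rw [inv_pow, hi, inv_one]⟩

variable {ℓ : ℕ} {D : Subgroup X} {h : ∀ x ∈ D, IsP ℓ x → ∀ y ∈ D, x * y = y * x}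

theorem mem_prt {x : X} : x ∈ prt ℓ D h ↔ x ∈ D ∧ IsP ℓ x := Iff.rfl

theorem prt_le : prt ℓ D h ≤ D := fun _ hx => hx.1

theorem prt_pgroup (hℓ : ℓ.Prime) : IsPGroup ℓ (prt ℓ D h) := by
  rintro ⟨x, hx, k, hk⟩
  exact ⟨k, Subtype.ext hk⟩

variable [Finite X]

theorem card_prt (hℓ : ℓ.Prime) : Nat.card (prt ℓ D h) = ℓ ^ (Nat.card D).factorization ℓ := by
  haveI : Fact ℓ.Prime := ⟨hℓ⟩
  obtain ⟨P⟩ : Nonempty (Sylow ℓ D) := inferInstance
  have hP := P.card_eq_multiplicity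
  have h1 : (P : Subgroup D).map D.subtype ≤ prt ℓ D h := by
    rintro _ ⟨x, hx, rfl⟩
    refine ⟨x.2, ?_⟩
    obtain ⟨k, hk⟩ := P.isPGroup' ⟨x, hx⟩
    refine ⟨k, ?_⟩
    have := congrArg (fun z : (P : Subgroup D) => ((z : D) : X)) hk
    exact this
  have h2 : Nat.card ((P : Subgroup D).map D.subtype) = ℓ ^ (Nat.card D).factorization ℓ := by
    rw [Subgroup.card_map_of_injective D.subtype_injective]; exact hP
  obtain ⟨n, hn⟩ := IsPGroup.iff_card.1 (prt_pgroup (D := D) (h := h) hℓ)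
  have h3 : Nat.card (prt ℓ D h) ∣ Nat.card D := Subgroup.card_dvd_of_le prt_le
  have h4 : ℓ ^ (Nat.card D).factorization ℓ ∣ Nat.card (prt ℓ D h) := by
    rw [← h2]; exact Subgroup.card_dvd_of_le h1
  apply Nat.dvd_antisymm _ h4
  rw [hn] at h3 ⊢
  exact pow_dvd_pow _ ((hℓ.pow_dvd_iff_le_factorization Nat.card_pos.ne').1 h3)

theorem comm_of (hD : ∀ w ∈ D, w ∉ Subgroup.center X → IsP ℓ w → cz w = D) :
    ∀ x ∈ D, IsP ℓ x → ∀ y ∈ D, x * y = y * x := by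
  intro x hx hxp y hy
  by_cases hc : x ∈ Subgroup.center X
  · exact (Subgroup.mem_center_iff.1 hc y).symm
  · have := hD x hx hc hxp
    rw [← this] at hy
    exact (mem_cz.1 hy).symm

/-- normalizing `D_ℓ` -/
theorem normalizer_prt (hD : ∀ w ∈ D, w ∉ Subgroup.center X → IsP ℓ w → cz w = D)
    (h1 : ∃ w ∈ D, w ∉ Subgroup.center X ∧ IsP ℓ w) (h : ∀ x ∈ D, IsP ℓ x → ∀ y ∈ D, x * y = y * x) {n : X}
    (hn : n ∈ Subgroup.normalizer ((prt ℓ D h : Subgroup X) : Set X)) :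
    D.map (MulAut.conj n).toMonoidHom = D := by
  obtain ⟨w, hw, hwc, hwp⟩ := h1
  have h2 : n * w * n⁻¹ ∈ prt ℓ D h := (Subgroup.mem_normalizer_iff.1 hn w).1 ⟨hw, hwp⟩
  have h3 : n * w * n⁻¹ ∉ Subgroup.center X := by
    intro hc
    apply hwc
    have := (inferInstance : (Subgroup.center X).Normal).conj_mem _ hc n⁻¹
    have e : n⁻¹ * (n * w * n⁻¹) * n⁻¹⁻¹ = w := by group
    rwa [e] at this
  rw [← hD w hw hwc hwp, ← cz_conj, hD _ h2.1 h3 h2.2]
  exact hD w hw hwc hwp ▸ rfl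

theorem conj_mem_prt {ℓ' : ℕ} (h' : ∀ x ∈ D, IsP ℓ' x → ∀ y ∈ D, x * y = y * x) {n : X}
    (hn : D.map (MulAut.conj n).toMonoidHom = D) {a : X} (ha : a ∈ prt ℓ' D h') : n * a * n⁻¹ ∈ prt ℓ' D h' := by
  refine ⟨?_, ha.2.conj n⟩
  rw [← hn]
  exact ⟨a, ha.1, rfl⟩

/-- the bound `ν_ℓ < α_ℓ'` -/
theorem nu_lt {ℓ' : ℕ} (hℓ : ℓ.Prime) (hℓ' : ℓ'.Prime) (hne : ℓ ≠ ℓ')
    (hD : ∀ w ∈ D, w ∉ Subgroup.center X → IsP ℓ w → cz w = D)
    (hD' : ∀ w ∈ D, w ∉ Subgroup.center X → IsP ℓ' w → cz w = D)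
    (h1 : ∃ w ∈ D, w ∉ Subgroup.center X ∧ IsP ℓ w) (h1' : ∃ w ∈ D, w ∉ Subgroup.center X ∧ IsP ℓ' w)
    (h : ∀ x ∈ D, IsP ℓ x → ∀ y ∈ D, x * y = y * x) (h' : ∀ x ∈ D, IsP ℓ' x → ∀ y ∈ D, x * y = y * x)
    {N : Subgroup X} (hNp : IsPGroup ℓ N) (hN : N ≤ Subgroup.normalizer ((prt ℓ D h : Subgroup X) : Set X)) :
    (prt ℓ D h).relIndex N < (Subgroup.center X).relIndex (prt ℓ' D h') := by
  classical
  obtain ⟨a, haD, hac, hap⟩ := h1'
  have ha : a ∈ prt ℓ' D h' := ⟨haD, hap⟩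
  set A := prt ℓ D h with hA
  set A' := prt ℓ' D h' with hA'
  have hnorm : ∀ n ∈ N, D.map (MulAut.conj n).toMonoidHom = D := fun n hn =>
    normalizer_prt hD h1 h (hN hn)
  let f : N → A' ⧸ (Subgroup.center X).subgroupOf A' := fun n =>
    QuotientGroup.mk ⟨(n : X) * a * (n : X)⁻¹, conj_mem_prt h' (hnorm n n.2) ha⟩
  have key : ∀ n m : N, f n = f m ↔ (m : X)⁻¹ * n ∈ A := by
    intro n m
    show (QuotientGroup.mk _ : A' ⧸ (Subgroup.center X).subgroupOf A') = QuotientGroup.mk _ ↔ _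
    rw [QuotientGroup.eq, Subgroup.mem_subgroupOf]
    show ((n : X) * a * (n : X)⁻¹)⁻¹ * ((m : X) * a * (m : X)⁻¹) ∈ Subgroup.center X ↔ _
    constructor
    · intro hc
      -- g = m⁻¹ n satisfies g a g⁻¹ = a z
      set g : X := (m : X)⁻¹ * n with hg
      have hgN : g ∈ N := N.mul_mem (N.inv_mem m.2) n.2
      set z : X := ((n : X) * a * (n : X)⁻¹)⁻¹ * ((m : X) * a * (m : X)⁻¹) with hz
      have e1 : a = g * a * g⁻¹ * z := by
        have hz' : z = (m : X)⁻¹ * z * m := by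
          rw [mul_assoc, ← Subgroup.mem_center_iff.1 hc (m : X), inv_mul_cancel_left]
        rw [hz', hz, hg]; group
      have hzc : z ∈ Subgroup.center X := hc
      have e2 : g * a * g⁻¹ = a * z⁻¹ := by rw [eq_mul_inv_iff_mul_eq]; exact e1.symm
      have hzi : z⁻¹ ∈ Subgroup.center X := (Subgroup.center X).inv_mem hzc
      have e3 : ∀ i : ℕ, g ^ i * a * (g ^ i)⁻¹ = a * z⁻¹ ^ i := by
        intro i
        induction i with
        | zero => simp
        | succ i ih =>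
          have : g ^ (i + 1) * a * (g ^ (i + 1))⁻¹ = g * (g ^ i * a * (g ^ i)⁻¹) * g⁻¹ := by
            rw [pow_succ']; group
          rw [this, ih]
          have hzz : z⁻¹ ^ i * g⁻¹ = g⁻¹ * z⁻¹ ^ i :=
            ((Subgroup.mem_center_iff.1 ((Subgroup.center X).pow_mem hzi i) g⁻¹)).symm
          calc g * (a * z⁻¹ ^ i) * g⁻¹ = g * a * (z⁻¹ ^ i * g⁻¹) := by group
            _ = g * a * (g⁻¹ * z⁻¹ ^ i) := by rw [hzz]
            _ = (g * a * g⁻¹) * z⁻¹ ^ i := by group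
            _ = a * z⁻¹ ^ (i + 1) := by rw [e2, pow_succ' (z⁻¹), mul_assoc]
      obtain ⟨k, hk⟩ := hNp ⟨g, hgN⟩
      have hk' : g ^ ℓ ^ k = 1 := congrArg Subtype.val hk
      have hz1 : z⁻¹ ^ ℓ ^ k = 1 := by
        have := e3 (ℓ ^ k)
        rw [hk', one_mul, inv_one, mul_one] at this
        exact (mul_eq_left.1 this.symm)
      obtain ⟨j, hj⟩ := hap
      have hz2 : z⁻¹ ^ ℓ' ^ j = 1 := by
        have hc1 : Commute a z⁻¹ := Subgroup.mem_center_iff.1 hzi a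
        have : (g * a * g⁻¹) ^ ℓ' ^ j = (a * z⁻¹) ^ ℓ' ^ j := by rw [e2]
        rw [conj_pow, hj, mul_one, mul_inv_cancel, hc1.mul_pow, hj, one_mul] at this
        exact this.symm
      have hz3 : z⁻¹ = 1 := by
        rw [← orderOf_eq_one_iff]
        apply Nat.eq_one_of_dvd_coprimes (a := ℓ ^ k) (b := ℓ' ^ j)
        · exact Nat.Coprime.pow_left _ (Nat.Coprime.pow_right _ ((Nat.coprime_primes hℓ hℓ').2 hne))
        · exact orderOf_dvd_of_pow_eq_one hz1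
        · exact orderOf_dvd_of_pow_eq_one hz2
      have e4 : g * a = a * g := by
        rw [hz3, mul_one] at e2
        calc g * a = g * a * g⁻¹ * g := by group
          _ = a * g := by rw [e2]
      have hgD : g ∈ D := by
        rw [← hD' a haD hac ⟨j, hj⟩]
        exact mem_cz.2 e4
      exact ⟨hgD, k, hk'⟩
    · intro hg
      have hgc : ((m : X)⁻¹ * n) * a = a * ((m : X)⁻¹ * n) := h _ hg.1 hg.2 a haD
      have : (n : X) * a * (n : X)⁻¹ = (m : X) * a * (m : X)⁻¹ := by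
        have e5 : (n : X) * a = (m : X) * a * ((m : X)⁻¹ * n) := by
          calc (n : X) * a = m * (((m : X)⁻¹ * n) * a) := by group
            _ = m * (a * ((m : X)⁻¹ * n)) := by rw [hgc]
            _ = _ := by group
        rw [e5]; group
      rw [this, inv_mul_cancel]
      exact (Subgroup.center X).one_mem
  let F : N ⧸ A.subgroupOf N → A' ⧸ (Subgroup.center X).subgroupOf A' :=
    Quotient.lift f (by
      intro n m hnm
      rw [key]
      have : (QuotientGroup.mk n : N ⧸ A.subgroupOf N) = QuotientGroup.mk m := Quotient.sound hnm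
      rw [eq_comm, QuotientGroup.eq, Subgroup.mem_subgroupOf] at this
      exact this)
  have hF : Function.Injective F := by
    intro x y
    refine Quotient.inductionOn₂' x y ?_
    intro n m hnm
    have h5 : f n = f m := hnm
    rw [key] at h5
    show (QuotientGroup.mk n : N ⧸ A.subgroupOf N) = QuotientGroup.mk m
    rw [eq_comm, QuotientGroup.eq, Subgroup.mem_subgroupOf]
    exact h5
  have hF1 : (1 : A' ⧸ (Subgroup.center X).subgroupOf A') ∉ Set.range F := by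
    rintro ⟨x, hx⟩
    revert hx
    refine Quotient.inductionOn' x ?_
    intro n hn
    have h5 : f n = 1 := hn
    change (QuotientGroup.mk _ : A' ⧸ (Subgroup.center X).subgroupOf A') = 1 at h5
    rw [QuotientGroup.eq_one_iff, Subgroup.mem_subgroupOf] at h5
    change (n : X) * a * (n : X)⁻¹ ∈ Subgroup.center X at h5
    apply hac
    have := (inferInstance : (Subgroup.center X).Normal).conj_mem _ h5 (n : X)⁻¹
    have e : (n : X)⁻¹ * ((n : X) * a * (n : X)⁻¹) * (n : X)⁻¹⁻¹ = a := by group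
    rwa [e] at this
  haveI := Fintype.ofFinite (N ⧸ A.subgroupOf N)
  haveI := Fintype.ofFinite (A' ⧸ (Subgroup.center X).subgroupOf A')
  have := Fintype.card_lt_of_injective_of_notMem F hF hF1
  rw [← Nat.card_eq_fintype_card, ← Nat.card_eq_fintype_card] at this
  exact this

/-- non-uniqueness gives `α_ℓ ≤ ν_ℓ` -/
theorem alpha_le (hℓ : ℓ.Prime)
    (hD : ∀ w ∈ D, w ∉ Subgroup.center X → IsP ℓ w → cz w = D)
    (h : ∀ x ∈ D, IsP ℓ x → ∀ y ∈ D, x * y = y * x)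
    {N B : Subgroup X} (hNp : IsPGroup ℓ N)
    (hB : B ≤ N) (hBc : ∀ a ∈ B, ∀ b ∈ B, a * b = b * a) (hcard : Nat.card B = Nat.card (prt ℓ D h))
    (hne : B ≠ prt ℓ D h) :
    (Subgroup.center X).relIndex (prt ℓ D h) ≤ (prt ℓ D h).relIndex N := by
  set A := prt ℓ D h with hA
  have hint : B ⊓ A ≤ Subgroup.center X := by
    intro x hx
    by_contra hc
    obtain ⟨hxB, hxA⟩ := Subgroup.mem_inf.1 hx
    have h1 := hD x hxA.1 hc hxA.2
    apply hne
    apply Subgroup.eq_of_le_of_card_ge _ hcard.ge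
    intro b hb
    refine ⟨?_, ?_⟩
    · rw [← h1]; exact mem_cz.2 (hBc b hb x hxB)
    · obtain ⟨k, hk⟩ := hNp ⟨b, hB hb⟩
      exact ⟨k, congrArg Subtype.val hk⟩
  have h2 : A.relIndex B ≤ A.relIndex N := Subgroup.relIndex_le_of_le_right hB (Nat.card_pos.ne')
  refine le_trans ?_ h2
  have e1 := (A.subgroupOf B).card_mul_index
  have e2 := ((Subgroup.center X).subgroupOf A).card_mul_index
  have c1 : Nat.card (A.subgroupOf B) = Nat.card (A ⊓ B : Subgroup X) := by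
    rw [← Subgroup.subgroupOf_map_subtype]
    exact (Subgroup.card_map_of_injective B.subtype_injective).symm
  have c2 : Nat.card ((Subgroup.center X).subgroupOf A) = Nat.card (Subgroup.center X ⊓ A : Subgroup X) := by
    rw [← Subgroup.subgroupOf_map_subtype]
    exact (Subgroup.card_map_of_injective A.subtype_injective).symm
  have c3 : Nat.card (A ⊓ B : Subgroup X) ≤ Nat.card (Subgroup.center X ⊓ A : Subgroup X) := by
    apply Nat.le_of_dvd Nat.card_pos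
    apply Subgroup.card_dvd_of_le
    exact le_inf (by rw [inf_comm]; exact hint) inf_le_left
  rw [c1, hcard] at e1
  rw [c2] at e2
  change _ * A.relIndex B = _ at e1
  change _ * (Subgroup.center X).relIndex A = _ at e2
  have hpos : 0 < Nat.card (Subgroup.center X ⊓ A : Subgroup X) := Nat.card_pos
  by_contra hlt
  push_neg at hlt
  have : Nat.card (A ⊓ B : Subgroup X) * A.relIndex B < Nat.card (Subgroup.center X ⊓ A : Subgroup X) * (Subgroup.center X).relIndex A :=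
    lt_of_le_of_lt (Nat.mul_le_mul_right _ c3) (Nat.mul_lt_mul_of_pos_left hlt hpos)
  rw [e1, e2] at this
  exact lt_irrefl _ this

/-- uniqueness of `D_ℓ` in `N_R(D_ℓ)` -/
theorem conj_of_unique (hℓ : ℓ.Prime)
    (hD : ∀ w ∈ D, w ∉ Subgroup.center X → IsP ℓ w → cz w = D)
    (h1 : ∃ w ∈ D, w ∉ Subgroup.center X ∧ IsP ℓ w)
    (h : ∀ x ∈ D, IsP ℓ x → ∀ y ∈ D, x * y = y * x)
    (R : Sylow ℓ X) (hAR : prt ℓ D h ≤ (R : Subgroup X))
    (hU : ∀ B : Subgroup X, B ≤ (R : Subgroup X) ⊓ Subgroup.normalizer ((prt ℓ D h : Subgroup X) : Set X) →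
      (∀ a ∈ B, ∀ b ∈ B, a * b = b * a) → Nat.card B = Nat.card (prt ℓ D h) → B = prt ℓ D h)
    {g : X} {T : Subgroup X} (hgT : g ∈ T) (hTp : IsPGroup ℓ T) (hTc : ∀ a ∈ T, ∀ b ∈ T, a * b = b * a)
    (hTcard : ℓ ^ (Nat.card D).factorization ℓ ≤ Nat.card T) : ∃ x : X, x * g * x⁻¹ ∈ D := by
  haveI : Fact ℓ.Prime := ⟨hℓ⟩
  set A := prt ℓ D h with hA
  set N : Subgroup X := (R : Subgroup X) ⊓ Subgroup.normalizer (A : Set X) with hN
  have hcardA : Nat.card A = ℓ ^ (Nat.card D).factorization ℓ := card_prt hℓ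
  have hNR : N = (R : Subgroup X) := by
    by_contra hne
    have hlt : N < (R : Subgroup X) := lt_of_le_of_ne inf_le_left hne
    have h2 := H33.lt_inf_normalizer R.isPGroup' hlt
    apply (not_le_of_gt h2)
    intro n hn
    obtain ⟨hnR, hnN⟩ := Subgroup.mem_inf.1 hn
    refine Subgroup.mem_inf.2 ⟨hnR, ?_⟩
    have hAN : A ≤ N := le_inf hAR Subgroup.le_normalizer
    have h3 : A.map (MulAut.conj n).toMonoidHom = A := by
      apply hU
      · rintro _ ⟨a, ha, rfl⟩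
        exact (Subgroup.mem_normalizer_iff.1 hnN a).1 (hAN ha)
      · rintro _ ⟨a, ha, rfl⟩ _ ⟨b, hb, rfl⟩
        have : a * b = b * a := h a ha.1 ha.2 b hb.1
        rw [← map_mul, this, map_mul]
      · exact Subgroup.card_map_of_injective (MulAut.conj n).injective
    rw [Subgroup.mem_normalizer_iff]
    intro x
    constructor
    · intro hx
      rw [← h3]; exact ⟨x, hx, rfl⟩
    · intro hx
      have hx' : n * x * n⁻¹ ∈ A := hx
      rw [← h3] at hx'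
      obtain ⟨y, hy, hy'⟩ := hx'
      have : n * y * n⁻¹ = n * x * n⁻¹ := hy'
      rw [← mul_left_cancel (mul_right_cancel this)]; exact hy
  -- a subgroup of `T` of the order of `A`
  obtain ⟨j, hj⟩ := IsPGroup.iff_card.1 hTp
  have hdvd : ℓ ^ (Nat.card D).factorization ℓ ∣ Nat.card T := by
    rw [hj] at hTcard ⊢
    exact pow_dvd_pow _ ((Nat.pow_le_pow_iff_right hℓ.one_lt).1 hTcard)
  obtain ⟨K, hK⟩ := Sylow.exists_subgroup_card_pow_prime ℓ hdvd
  set T₀ : Subgroup X := K.map T.subtype with hT₀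
  have hT₀T : T₀ ≤ T := Subgroup.map_subtype_le K
  have hT₀card : Nat.card T₀ = Nat.card A := by
    rw [hT₀, Subgroup.card_map_of_injective T.subtype_injective, hK, hcardA]
  have hT₀p : IsPGroup ℓ T₀ := hTp.to_le hT₀T
  obtain ⟨R', hR'⟩ := hT₀p.exists_le_sylow
  obtain ⟨x, hx⟩ := MulAction.exists_smul_eq X R' R
  have h4 : T₀.map (MulAut.conj x).toMonoidHom ≤ (R : Subgroup X) := by
    rw [← hx, Sylow.coe_subgroup_smul]
    rintro _ ⟨t, ht, rfl⟩
    exact Subgroup.smul_mem_pointwise_smul t (MulAut.conj x) _ (hR' ht)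
  have h5 : T₀.map (MulAut.conj x).toMonoidHom = A := by
    apply hU
    · show _ ≤ N
      rw [hNR]; exact h4
    · rintro _ ⟨a, ha, rfl⟩ _ ⟨b, hb, rfl⟩
      rw [← map_mul, hTc a (hT₀T ha) b (hT₀T hb), map_mul]
    · rw [Subgroup.card_map_of_injective (MulAut.conj x).injective, hT₀card]
  obtain ⟨w, hwD, hwc, hwp⟩ := h1
  have hwA : w ∈ A := ⟨hwD, hwp⟩
  have hw' := hwA
  rw [← h5] at hw'
  obtain ⟨t, ht, htw⟩ := hw'
  have htw' : x * t * x⁻¹ = w := htw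
  refine ⟨x, ?_⟩
  rw [← hD w hwD hwc hwp, mem_cz, ← htw']
  have : g * t = t * g := hTc g hgT t (hT₀T ht)
  calc x * g * x⁻¹ * (x * t * x⁻¹) = x * (g * t) * x⁻¹ := by group
    _ = x * (t * g) * x⁻¹ := by rw [this]
    _ = x * t * x⁻¹ * (x * g * x⁻¹) := by group

/-- the covering lemma -/
theorem cov {q r : ℕ} (hq : q.Prime) (hr : r.Prime) (hqr : q ≠ r) (D : Subgroup X)
    (hD : ∀ ℓ : ℕ, ℓ = q ∨ ℓ = r → ∀ w ∈ D, w ∉ Subgroup.center X → IsP ℓ w → cz w = D)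
    (h1 : ∀ ℓ : ℕ, ℓ = q ∨ ℓ = r → ∃ w ∈ D, w ∉ Subgroup.center X ∧ IsP ℓ w)
    (h3 : ∀ ℓ : ℕ, ℓ = q ∨ ℓ = r → ∀ g : X, g ∉ Subgroup.center X → IsP ℓ g → ∃ T : Subgroup X, g ∈ T ∧
      IsPGroup ℓ T ∧ (∀ a ∈ T, ∀ b ∈ T, a * b = b * a) ∧ ℓ ^ (Nat.card D).factorization ℓ ≤ Nat.card T) :
    ∃ ℓ : ℕ, (ℓ = q ∨ ℓ = r) ∧ ∀ g : X, g ∉ Subgroup.center X → IsP ℓ g → ∃ x : X, x * g * x⁻¹ ∈ D := by
  haveI : Fact q.Prime := ⟨hq⟩
  haveI : Fact r.Prime := ⟨hr⟩
  have hcq := comm_of (hD q (Or.inl rfl))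
  have hcr := comm_of (hD r (Or.inr rfl))
  obtain ⟨Q, hQ⟩ := (prt_pgroup (D := D) (h := hcq) hq).exists_le_sylow
  obtain ⟨R, hR⟩ := (prt_pgroup (D := D) (h := hcr) hr).exists_le_sylow
  by_cases hUq : ∀ B : Subgroup X, B ≤ (Q : Subgroup X) ⊓ Subgroup.normalizer ((prt q D hcq : Subgroup X) : Set X) →
      (∀ a ∈ B, ∀ b ∈ B, a * b = b * a) → Nat.card B = Nat.card (prt q D hcq) → B = prt q D hcq
  · refine ⟨q, Or.inl rfl, fun g hg hgp => ?_⟩
    obtain ⟨T, hgT, hTp, hTc, hTcard⟩ := h3 q (Or.inl rfl) g hg hgp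
    exact conj_of_unique hq (hD q (Or.inl rfl)) (h1 q (Or.inl rfl)) hcq Q hQ hUq hgT hTp hTc hTcard
  by_cases hUr : ∀ B : Subgroup X, B ≤ (R : Subgroup X) ⊓ Subgroup.normalizer ((prt r D hcr : Subgroup X) : Set X) →
      (∀ a ∈ B, ∀ b ∈ B, a * b = b * a) → Nat.card B = Nat.card (prt r D hcr) → B = prt r D hcr
  · refine ⟨r, Or.inr rfl, fun g hg hgp => ?_⟩
    obtain ⟨T, hgT, hTp, hTc, hTcard⟩ := h3 r (Or.inr rfl) g hg hgp
    exact conj_of_unique hr (hD r (Or.inr rfl)) (h1 r (Or.inr rfl)) hcr R hR hUr hgT hTp hTc hTcard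
  exfalso
  push_neg at hUq hUr
  obtain ⟨B, hB, hBc, hBcard, hBne⟩ := hUq
  obtain ⟨B', hB', hBc', hBcard', hBne'⟩ := hUr
  have hNq : IsPGroup q ((Q : Subgroup X) ⊓ Subgroup.normalizer ((prt q D hcq : Subgroup X) : Set X) : Subgroup X) :=
    Q.isPGroup'.to_le inf_le_left
  have hNr : IsPGroup r ((R : Subgroup X) ⊓ Subgroup.normalizer ((prt r D hcr : Subgroup X) : Set X) : Subgroup X) :=
    R.isPGroup'.to_le inf_le_left
  have a1 := alpha_le hq (hD q (Or.inl rfl)) hcq hNq hB hBc hBcard hBne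
  have a2 := alpha_le hr (hD r (Or.inr rfl)) hcr hNr hB' hBc' hBcard' hBne'
  have b1 := nu_lt hq hr hqr (hD q (Or.inl rfl)) (hD r (Or.inr rfl)) (h1 q (Or.inl rfl)) (h1 r (Or.inr rfl)) hcq hcr
    hNq inf_le_right
  have b2 := nu_lt hr hq hqr.symm (hD r (Or.inr rfl)) (hD q (Or.inl rfl)) (h1 r (Or.inr rfl)) (h1 q (Or.inl rfl)) hcr hcq
    hNr inf_le_right
  omega

end Cfsg.Agent.ItoCS
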