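import Cfsg.Agent.ItoCS.Cov
/-!
Groups with two noncentral class sizes: lemmas on small and big centralizers.
-/
set_option autoImplicit false
set_option linter.all false

namespace Cfsg.Agent.ItoCS

open Cfsg.Agent.H35.CR

universe u

/-- two orders `a < b` of centralizers of noncentral elements, at least three primes divide `|G/Z|` -/
structure Dat (G : Type u) [Group G] [Finite G] (a b : ℕ) : Prop where
  lt : a < b
  two : ∀ g : G, g ∉ Subgroup.center G → c g = a ∨ c g = b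
  pi3 : ∀ s t : ℕ, ∃ r : ℕ, r.Prime ∧ r ≠ s ∧ r ≠ t ∧ ∃ u : G, u ∉ Subgroup.center G ∧ IsP r u

/-- the exceptional structure -/
def SS (G : Type u) [Group G] [Finite G] (b s : ℕ) : Prop :=
  ∃ (w : G) (t₀ : ℕ), t₀.Prime ∧ t₀ ≠ s ∧ IsP t₀ w ∧ w ∉ Subgroup.center G ∧ c w = b ∧
    (∀ t : ℕ, t.Prime → t ≠ s → ∀ x ∈ cz w, IsP t x → cz w ≤ cz x) ∧ ∃ x ∈ cz w, ¬ cz w ≤ cz x

variable {G : Type u} [Group G] [Finite G] {a b : ℕ}

theorem Dat.ab (h : Dat G a b) {g k : G} (hg : g ∉ Subgroup.center G) (hk : k ∉ Subgroup.center G)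
    (hle : cz g ≤ cz k) (hne : cz g ≠ cz k) : c g = a ∧ c k = b := by
  have h1 : c g ≤ c k := Nat.le_of_dvd (c_pos k) (c_dvd hle)
  have h2 : c g ≠ c k := fun e => hne (cz_eq hle e)
  rcases h.two g hg with e1 | e1 <;> rcases h.two k hk with e2 | e2
  · exact absurd (e1.trans e2.symm) h2
  · exact ⟨e1, e2⟩
  · rw [e1, e2] at h1; exact absurd h.lt (by omega)
  · exact absurd (e1.trans e2.symm) h2

theorem Dat.small_eq (h : Dat G a b) {g k : G} (hg : g ∉ Subgroup.center G) (hga : c g = a)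
    (hk : k ∉ Subgroup.center G) (hle : cz k ≤ cz g) : cz k = cz g := by
  by_contra hne
  have := (h.ab hk hg hle hne).2
  have := h.lt
  omega

theorem Dat.big_eq (h : Dat G a b) {g k : G} (hg : g ∉ Subgroup.center G) (hgb : c g = b)
    (hk : k ∉ Subgroup.center G) (hle : cz g ≤ cz k) : cz g = cz k := by
  by_contra hne
  have := (h.ab hg hk hle hne).1
  have := h.lt
  omega

/-- (F1) -/
theorem Dat.f1 (h : Dat G a b) {g k : G} (hg : g ∉ Subgroup.center G) (hga : c g = a) (hk : k ∈ cz g)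
    (hcop : (orderOf g).Coprime (orderOf k)) : cz g ≤ cz k := by
  have hc : g * k = k * g := (mem_cz.1 hk).symm
  have h1 := cz_mul_le hc hcop
  have h2 := h.small_eq hg hga (nc_of_le hg h1) h1
  rw [← h2]
  exact cz_mul_le' hc hcop

/-- noncentral `r`-elements only depend on the order -/
theorem Dat.mem_of_card (h : Dat G a b) {g k : G} {r : ℕ} (hr : r.Prime) (hc : c g = c k)
    (hu : ∃ u ∈ cz g, u ∉ Subgroup.center G ∧ IsP r u) : ∃ u ∈ cz k, u ∉ Subgroup.center G ∧ IsP r u :=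
  exists_of_card (fun z hz d _ => (Subgroup.mem_center_iff.1 hz d).symm)
    (fun z hz d _ => (Subgroup.mem_center_iff.1 hz d).symm) (center_le_cz g) (center_le_cz k) hr hc hu

theorem prod_cz {v k : G} {ℓ s : ℕ} (hℓ : ℓ.Prime) (hs : s.Prime) (hne : ℓ ≠ s) (hv : IsP ℓ v) (hk : IsP s k)
    (hkv : k ∈ cz v) : cz (v * k) = cz v ⊓ cz k :=
  cz_mul (mem_cz.1 hkv).symm (IsP.coprime hℓ hs hne hv hk)

theorem cop3 {v k x : G} {ℓ s t : ℕ} (hℓ : ℓ.Prime) (hs : s.Prime) (ht : t.Prime) (h1 : ℓ ≠ t) (h2 : s ≠ t)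
    (hℓs : ℓ ≠ s) (hv : IsP ℓ v) (hk : IsP s k) (hkv : k ∈ cz v) (hx : IsP t x) :
    (orderOf (v * k)).Coprime (orderOf x) := by
  obtain ⟨i, hi⟩ := hv
  obtain ⟨j, hj⟩ := hk
  obtain ⟨m, hm⟩ := hx
  have hc : Commute v k := (mem_cz.1 hkv).symm
  have h3 : (v * k) ^ (ℓ ^ i * s ^ j) = 1 := by
    rw [hc.mul_pow, pow_mul, hi, one_pow, one_mul, mul_comm, pow_mul, hj, one_pow]
  refine Nat.Coprime.coprime_dvd_left (orderOf_dvd_of_pow_eq_one h3)
    (Nat.Coprime.coprime_dvd_right (orderOf_dvd_of_pow_eq_one hm) ?_)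
  exact Nat.Coprime.mul_left (Nat.Coprime.pow_left _ (Nat.Coprime.pow_right _ ((Nat.coprime_primes hℓ ht).2 h1)))
    (Nat.Coprime.pow_left _ (Nat.Coprime.pow_right _ ((Nat.coprime_primes hs ht).2 h2)))

/-- the centre of `cz v` -/
def zc (v : G) : Subgroup G := cz v ⊓ Subgroup.centralizer ((cz v : Subgroup G) : Set G)

omit [Finite G] in
theorem mem_zc {v x : G} : x ∈ zc v ↔ cz v ≤ cz x := by
  constructor
  · intro hx
    intro y hy
    obtain ⟨-, h2⟩ := Subgroup.mem_inf.1 hx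
    exact mem_cz.2 (Subgroup.mem_centralizer_iff.1 h2 y hy)
  · intro h
    refine Subgroup.mem_inf.2 ⟨mem_cz_symm (h (self_mem v)), Subgroup.mem_centralizer_iff.2 ?_⟩
    intro y hy
    exact mem_cz.1 (h hy)

/-- **Lemma E** -/
theorem Dat.lemE (h : Dat G a b) {v₁ v₂ g : G} {ℓ₁ ℓ₂ s : ℕ} (h1 : ℓ₁.Prime) (h2 : ℓ₂.Prime) (hs : s.Prime)
    (h12 : ℓ₁ ≠ ℓ₂) (hs1 : ℓ₁ ≠ s) (hs2 : ℓ₂ ≠ s) (hv1 : v₁ ∉ Subgroup.center G) (hv2 : v₂ ∉ Subgroup.center G)
    (hp1 : IsP ℓ₁ v₁) (hp2 : IsP ℓ₂ v₂) (hE : cz v₁ = cz v₂) (hb : c v₁ = b) (hg : g ∈ cz v₁) (hgs : IsP s g)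
    (hD : ¬ cz v₁ ≤ cz g) :
    (∀ x ∈ cz (v₁ * g), IsP s x → cz (v₁ * g) ≤ cz x) ∨ SS G b s := by
  by_cases hex : ∃ (t : ℕ) (u : G), t.Prime ∧ t ≠ s ∧ u ∈ cz v₁ ∧ IsP t u ∧ ¬ cz v₁ ≤ cz u
  · left
    obtain ⟨t, u, ht, hts, huE, hut, hunc⟩ := hex
    have hDeq : cz (v₁ * g) = cz v₁ ⊓ cz g := prod_cz h1 hs hs1 hp1 hgs hg
    obtain ⟨v, ℓ, hℓ, hℓt, hℓs, hvℓ, hvn, hvE⟩ : ∃ (v : G) (ℓ : ℕ), ℓ.Prime ∧ ℓ ≠ t ∧ ℓ ≠ s ∧ IsP ℓ v ∧
        v ∉ Subgroup.center G ∧ cz v = cz v₁ := by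
      by_cases e : ℓ₁ = t
      · refine ⟨v₂, ℓ₂, h2, ?_, hs2, hp2, hv2, hE.symm⟩
        rintro rfl; exact h12 e
      · exact ⟨v₁, ℓ₁, h1, e, hs1, hp1, hv1, rfl⟩
    have hgv : g ∈ cz v := by rw [hvE]; exact hg
    have huv : u ∈ cz v := by rw [hvE]; exact huE
    have hDv : cz (v * g) = cz (v₁ * g) := by
      rw [prod_cz hℓ hs hℓs hvℓ hgs hgv, hDeq, hvE]
    have hvb : c v = b := by unfold c; rw [hvE]; exact hb
    have hDle : cz (v₁ * g) ≤ cz v₁ := by rw [hDeq]; exact inf_le_left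
    have hDn : v₁ * g ∉ Subgroup.center G := nc_of_le hv1 hDle
    have hDa : c (v₁ * g) = a := by
      refine (h.ab hDn hv1 hDle ?_).1
      intro e
      apply hD
      rw [← e, hDeq]; exact inf_le_right
    have hDn' : v * g ∉ Subgroup.center G := nc_of_le hv1 (by rw [hDv]; exact hDle)
    have hDa' : c (v * g) = a := by unfold c; rw [hDv]; exact hDa
    have huve : cz (v * u) = cz v ⊓ cz u := prod_cz hℓ ht hℓt hvℓ hut huv
    have hule : cz (v * u) ≤ cz v := by rw [huve]; exact inf_le_left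
    have hun : v * u ∉ Subgroup.center G := nc_of_le hvn hule
    have hua : c (v * u) = a := by
      refine (h.ab hun hvn hule ?_).1
      intro e
      apply hunc
      rw [← hvE, ← e, huve]; exact inf_le_right
    -- noncentral `t`-elements in `D`
    have hz1 : ∀ z ∈ zc v₁, ∀ d ∈ cz v₁, z * d = d * z := by
      intro z hz d hd
      exact (mem_cz.1 (mem_zc.1 hz hd)).symm
    obtain ⟨u', hu'D, hu'n, hu't⟩ : ∃ u' ∈ cz (v₁ * g), u' ∉ zc v₁ ∧ IsP t u' := by
      refine exists_of_card (Z := zc v₁) (D := cz (v * u)) (D' := cz (v₁ * g)) ?_ ?_ ?_ ?_ ht ?_ ⟨u, ?_, ?_, hut⟩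
      · intro z hz d hd
        exact hz1 z hz d (hvE ▸ hule hd)
      · intro z hz d hd
        exact hz1 z hz d (hDle hd)
      · intro z hz
        rw [huve, hvE]
        have hz' := (Subgroup.mem_inf.1 hz).1
        refine Subgroup.mem_inf.2 ⟨hz', ?_⟩
        exact mem_cz.2 (hz1 z hz u huE)
      · intro z hz
        rw [hDeq]
        have hz' := (Subgroup.mem_inf.1 hz).1
        refine Subgroup.mem_inf.2 ⟨hz', ?_⟩
        exact mem_cz.2 (hz1 z hz g hg)
      · exact hua.trans hDa.symm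
      · rw [huve]
        exact Subgroup.mem_inf.2 ⟨huv, self_mem u⟩
      · rw [mem_zc]; exact hunc
    rw [mem_zc] at hu'n
    have hu'v : u' ∈ cz v := by rw [hvE]; exact hDle hu'D
    have h5 : cz (v * g) ≤ cz u' := by
      apply h.f1 hDn' hDa' (by rw [hDv]; exact hu'D)
      exact cop3 hℓ hs ht hℓt (Ne.symm hts) hℓs hvℓ hgs hgv hu't
    have h6e : cz (v * u') = cz v ⊓ cz u' := prod_cz hℓ ht hℓt hvℓ hu't hu'v
    have h6le : cz (v * u') ≤ cz v := by rw [h6e]; exact inf_le_left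
    have h6n : v * u' ∉ Subgroup.center G := nc_of_le hvn h6le
    have h6a : c (v * u') = a := by
      refine (h.ab h6n hvn h6le ?_).1
      intro e
      apply hu'n
      rw [← hvE, ← e, h6e]; exact inf_le_right
    have h7 : cz (v * g) = cz (v * u') := by
      apply h.small_eq h6n h6a hDn'
      rw [h6e]
      exact le_inf (by rw [hDv, hvE]; exact hDle) h5
    intro x hx hxs
    rw [← hDv, h7]
    apply h.f1 h6n h6a
    · rw [← h7, hDv]; exact hx
    · exact cop3 hℓ ht hs hℓs hts hℓt hvℓ hu't hu'v hxs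
  · right
    push_neg at hex
    exact ⟨v₁, ℓ₁, h1, hs1, hp1, hv1, hb, fun t ht hts x hx hxt => hex t x ht hts hx hxt, g, hg, hD⟩

/-- **Lemma F0** -/
theorem Dat.lemF0 (h : Dat G a b) {y w : G} {s t r : ℕ} (hs : s.Prime) (ht : t.Prime) (hr : r.Prime)
    (hst : s ≠ t) (hrs : r ≠ s) (hrt : r ≠ t) (hy : y ∉ Subgroup.center G) (hyb : c y = b) (hys : IsP s y)
    (hwy : w ∈ cz y) (hwt : IsP t w) (hnc : ¬ cz y ≤ cz w)
    (hex : ∃ u : G, u ∉ Subgroup.center G ∧ IsP r u) :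
    ∃ v ∈ cz (y * w), v ∉ Subgroup.center G ∧ IsP r v := by
  have hDeq : cz (y * w) = cz y ⊓ cz w := prod_cz hs ht hst hys hwt hwy
  have hDle : cz (y * w) ≤ cz y := by rw [hDeq]; exact inf_le_left
  have hDn : y * w ∉ Subgroup.center G := nc_of_le hy hDle
  have hDa : c (y * w) = a := by
    refine (h.ab hDn hy hDle ?_).1
    intro e
    apply hnc
    rw [← e, hDeq]; exact inf_le_right
  obtain ⟨u, hun, hur⟩ := hex
  rcases h.two u hun with e | e
  · exact h.mem_of_card hr (e.trans hDa.symm) ⟨u, self_mem u, hun, hur⟩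
  · obtain ⟨v, hv, hvn, hvr⟩ := h.mem_of_card (g := u) (k := y) hr (e.trans hyb.symm) ⟨u, self_mem u, hun, hur⟩
    have h1e : cz (y * v) = cz y ⊓ cz v := prod_cz hs hr (Ne.symm hrs) hys hvr hv
    have h1le : cz (y * v) ≤ cz y := by rw [h1e]; exact inf_le_left
    have h1n : y * v ∉ Subgroup.center G := nc_of_le hy h1le
    rcases h.two _ h1n with e1 | e1
    · exact h.mem_of_card hr (e1.trans hDa.symm) ⟨v, by rw [h1e]; exact Subgroup.mem_inf.2 ⟨hv, self_mem v⟩, hvn, hvr⟩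
    · have h2 : cz (y * v) = cz y := cz_eq h1le (e1.trans hyb.symm)
      have h3 : cz y ≤ cz v := by rw [← h2, h1e]; exact inf_le_right
      refine ⟨v, ?_, hvn, hvr⟩
      rw [hDeq]
      exact Subgroup.mem_inf.2 ⟨hv, mem_cz_symm (h3 hwy)⟩

/-- **Lemma F** -/
theorem Dat.lemF (h : Dat G a b) {y w : G} {s t : ℕ} (hs : s.Prime) (ht : t.Prime)
    (hst : s ≠ t) (hy : y ∉ Subgroup.center G) (hyb : c y = b) (hys : IsP s y)
    (hwy : w ∈ cz y) (hwt : IsP t w) (hnc : ¬ cz y ≤ cz w) :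
    ((∀ x ∈ cz (y * w), IsP s x → cz (y * w) ≤ cz x) ∨ SS G b s) ∧
    ((∀ x ∈ cz (y * w), IsP t x → cz (y * w) ≤ cz x) ∨ SS G b t) := by
  have hDeq : cz (y * w) = cz y ⊓ cz w := prod_cz hs ht hst hys hwt hwy
  have hDle : cz (y * w) ≤ cz y := by rw [hDeq]; exact inf_le_left
  have hDlw : cz (y * w) ≤ cz w := by rw [hDeq]; exact inf_le_right
  have hDn : y * w ∉ Subgroup.center G := nc_of_le hy hDle
  have hwn : w ∉ Subgroup.center G := by
    intro hc
    apply hnc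
    rw [cz_top_of_center hc]; exact le_top
  have hDa : c (y * w) = a := by
    refine (h.ab hDn hy hDle ?_).1
    intro e
    exact hnc (by rw [← e]; exact hDlw)
  obtain ⟨r, hr, hrs, hrt, hex⟩ := h.pi3 s t
  obtain ⟨v, hvD, hvn, hvr⟩ := h.lemF0 hs ht hr hst hrs hrt hy hyb hys hwy hwt hnc hex
  -- elements of order prime to `s`, `t` are central in `D`
  have hcen : ∀ x ∈ cz (y * w), ∀ q : ℕ, q.Prime → s ≠ q → t ≠ q → IsP q x → cz (y * w) ≤ cz x := by
    intro x hx q hq h1 h2 hxq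
    exact h.f1 hDn hDa hx (cop3 hs ht hq h1 h2 hst hys hwt hwy hxq)
  have hDv : cz (y * w) ≤ cz v := hcen v hvD r hr (Ne.symm hrs) (Ne.symm hrt) hvr
  have hvy : v ∈ cz y := hDle hvD
  have hvw : v ∈ cz w := hDlw hvD
  by_cases hi : cz v = cz y
  · -- case (i)
    constructor
    · left
      intro x hx hxs
      by_cases hws : c w = a
      · have h1 : cz (y * w) = cz w := h.small_eq hwn hws hDn hDlw
        rw [h1] at hx ⊢
        exact h.f1 hwn hws hx (IsP.coprime ht hs (Ne.symm hst) hwt hxs)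
      · have h1e : cz (w * v) = cz w ⊓ cz v := prod_cz ht hr (Ne.symm hrt) hwt hvr hvw
        have h2 : cz (w * v) = cz (y * w) := by rw [h1e, hi, hDeq, inf_comm]
        have h3n : w * v ∉ Subgroup.center G := nc_of_le hwn (by rw [h1e]; exact inf_le_left)
        have h3a : c (w * v) = a := by unfold c; rw [h2]; exact hDa
        rw [← h2] at hx ⊢
        exact h.f1 h3n h3a hx (cop3 ht hr hs (Ne.symm hst) hrs (Ne.symm hrt) hwt hvr hvw hxs)
    · exact h.lemE hs hr ht (Ne.symm hrs) hst hrt hy hvn hys hvr hi.symm hyb hwy hwt hnc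
  · -- case (ii)
    have h1e : cz (y * v) = cz y ⊓ cz v := prod_cz hs hr (Ne.symm hrs) hys hvr hvy
    have h1le : cz (y * v) ≤ cz y := by rw [h1e]; exact inf_le_left
    have h1n : y * v ∉ Subgroup.center G := nc_of_le hy h1le
    have h1a : c (y * v) = a := by
      refine (h.ab h1n hy h1le ?_).1
      intro e
      apply hi
      have h2 : cz y ≤ cz v := by rw [← e, h1e]; exact inf_le_right
      exact (h.big_eq hy hyb hvn h2).symm
    have h2 : cz (y * w) = cz (y * v) := by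
      apply h.small_eq h1n h1a hDn
      rw [h1e]; exact le_inf hDle hDv
    have hct : ∀ x ∈ cz (y * w), IsP t x → cz (y * w) ≤ cz x := by
      intro x hx hxt
      rw [h2] at hx ⊢
      exact h.f1 h1n h1a hx (cop3 hs hr ht hst hrt (Ne.symm hrs) hys hvr hvy hxt)
    refine ⟨?_, Or.inl hct⟩
    by_contra hcon
    push_neg at hcon
    obtain ⟨⟨x, hx, hxs, hxn⟩, hnS⟩ := hcon
    -- all noncentral primary elements of `D` prime to `s` are big
    have hbig : ∀ (q : ℕ) (k : G), q.Prime → q ≠ s → k ∈ cz (y * w) → IsP q k → k ∉ Subgroup.center G →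
        cz (y * w) ≤ cz k ∧ c k = b := by
      intro q k hq hqs hk hkq hkn
      have hle : cz (y * w) ≤ cz k := by
        by_cases e : t = q
        · subst e; exact hct k hk hkq
        · exact hcen k hk q hq (Ne.symm hqs) e hkq
      refine ⟨hle, ?_⟩
      rcases h.two k hkn with e | e
      · exfalso
        apply hxn
        have h3 : cz (y * w) = cz k := h.small_eq hkn e hDn hle
        rw [h3]
        rw [h3] at hx
        exact h.f1 hkn e hx (IsP.coprime hq hs hqs hkq hxs)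
      · exact e
    have hwD : w ∈ cz (y * w) := by rw [hDeq]; exact Subgroup.mem_inf.2 ⟨hwy, self_mem w⟩
    obtain ⟨hw1, hwb⟩ := hbig t w ht (Ne.symm hst) hwD hwt hwn
    obtain ⟨hv1, hvb⟩ := hbig r v hr hrs hvD hvr hvn
    have hwv : cz w = cz v := by
      by_contra hne
      have h3e : cz (w * v) = cz w ⊓ cz v := prod_cz ht hr (Ne.symm hrt) hwt hvr hvw
      have h3le : cz (w * v) ≤ cz w := by rw [h3e]; exact inf_le_left
      have h3n : w * v ∉ Subgroup.center G := nc_of_le hwn h3le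
      have h3a : c (w * v) = a := by
        refine (h.ab h3n hwn h3le ?_).1
        intro e
        apply hne
        exact h.big_eq hwn hwb hvn (by rw [← e, h3e]; exact inf_le_right)
      have h4 : cz (y * w) = cz (w * v) := by
        apply h.small_eq h3n h3a hDn
        rw [h3e]; exact le_inf hw1 hv1
      apply hxn
      rw [h4]
      rw [h4] at hx
      exact h.f1 h3n h3a hx (cop3 ht hr hs (Ne.symm hst) hrs (Ne.symm hrt) hwt hvr hvw hxs)
    have hyw : y ∈ cz w := mem_cz_symm hwy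
    have hny : ¬ cz w ≤ cz y := by
      intro hle
      apply hnc
      rw [h.big_eq hwn hwb hy hle]
    have hE := h.lemE ht hr hs (Ne.symm hrt) (Ne.symm hst) hrs hwn hvn hwt hvr hwv hwb hyw hys hny
    rcases hE with hE | hE
    · have e : cz (w * y) = cz (y * w) := by
        rw [show w * y = y * w from (mem_cz.1 hyw).symm]
      rw [e] at hE
      exact hxn (hE x hx hxs)
    · exact hnS hE

end Cfsg.Agent.ItoCS
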