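import Cfsg.Agent.ItoCS.NoS
/-!
Groups with two noncentral class sizes: Lemma H.
-/
set_option autoImplicit false
set_option linter.all false

namespace Cfsg.Agent.ItoCS

open Cfsg.Agent.H35.CR

universe u

section Const

variable {X : Type u} [Group X] [Finite X]

theorem cz_eq_of_mem {u w : X} (hu : ∀ x ∈ cz u, ∀ y ∈ cz u, x * y = y * x) (hw : w ∈ cz u) (hc : c w = c u) :
    cz w = cz u := by
  symm
  apply cz_eq _ hc.symm
  intro y hy
  exact mem_cz.2 (hu y hy w hw)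

theorem mem_card {X : Type u} [Group X] [Finite X] {g k : X} {r : ℕ} (hr : r.Prime) (hc : c g = c k)
    (hu : ∃ u ∈ cz g, u ∉ Subgroup.center X ∧ IsP r u) : ∃ u ∈ cz k, u ∉ Subgroup.center X ∧ IsP r u :=
  exists_of_card (fun z hz d _ => (Subgroup.mem_center_iff.1 hz d).symm)
    (fun z hz d _ => (Subgroup.mem_center_iff.1 hz d).symm) (center_le_cz g) (center_le_cz k) hr hc hu

/-- no group whose noncentral primary elements have abelian centralizers of constant order, with two primes -/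
theorem no_const (a : ℕ)
    (hX : ∀ (t : ℕ) (g : X), t.Prime → IsP t g → g ∉ Subgroup.center X →
      (∀ x ∈ cz g, ∀ y ∈ cz g, x * y = y * x) ∧ c g = a)
    {q r : ℕ} (hq : q.Prime) (hr : r.Prime) (hqr : q ≠ r) (huq : ∃ u : X, u ∉ Subgroup.center X ∧ IsP q u)
    (hur : ∃ u : X, u ∉ Subgroup.center X ∧ IsP r u) : False := by
  obtain ⟨u, hun, huq'⟩ := huq
  obtain ⟨hua, huc⟩ := hX q u hq huq' hun
  have hℓ : ∀ ℓ : ℕ, ℓ = q ∨ ℓ = r → ℓ.Prime ∧ ∃ u : X, u ∉ Subgroup.center X ∧ IsP ℓ u := by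
    rintro ℓ (rfl | rfl)
    · exact ⟨hq, u, hun, huq'⟩
    · exact ⟨hr, hur⟩
  have hmem : ∀ ℓ : ℕ, ℓ = q ∨ ℓ = r → ∀ (t : ℕ) (g : X), t.Prime → IsP t g → g ∉ Subgroup.center X →
      ∃ v ∈ cz g, v ∉ Subgroup.center X ∧ IsP ℓ v := by
    intro ℓ hl t g ht hgt hg
    obtain ⟨l1, v, hvn, hvl⟩ := hℓ ℓ hl
    exact mem_card l1 ((hX ℓ v l1 hvl hvn).2.trans (hX t g ht hgt hg).2.symm) ⟨v, self_mem v, hvn, hvl⟩
  have hD : ∀ ℓ : ℕ, ℓ = q ∨ ℓ = r → ∀ w ∈ cz u, w ∉ Subgroup.center X → IsP ℓ w → cz w = cz u := by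
    intro ℓ hl w hw hwn hwl
    obtain ⟨l1, -⟩ := hℓ ℓ hl
    exact cz_eq_of_mem hua hw ((hX ℓ w l1 hwl hwn).2.trans huc.symm)
  obtain ⟨ℓ, hl, hcov⟩ := cov hq hr hqr (cz u) hD (fun ℓ hl => hmem ℓ hl q u hq huq' hun)
    (fun ℓ hl g hg hgl => by
      obtain ⟨l1, -⟩ := hℓ ℓ hl
      obtain ⟨h1, h2⟩ := hX ℓ g l1 hgl hg
      refine ⟨prt ℓ (cz g) (fun x hx _ y hy => h1 x hx y hy), ⟨self_mem g, hgl⟩, prt_pgroup l1, ?_, ?_⟩
      · intro x hx y hy; exact h1 x hx.1 y hy.1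
      · rw [card_prt l1]
        change _ ≤ ℓ ^ (c g).factorization ℓ
        rw [h2, ← huc]
        exact le_refl _)
  obtain ⟨l1, -⟩ := hℓ ℓ hl
  have htop : cz u = ⊤ := by
    apply H67.eq_top_of_conj_cover
    intro g
    by_cases hg : g ∈ Subgroup.center X
    · exact ⟨1, by rw [one_mul, inv_one, mul_one]; exact center_le_cz u hg⟩
    · obtain ⟨t, g', ht, hg'g, hg'n, hg't, -⟩ := prime_part' hg
      obtain ⟨v, hvg, hvn, hvl⟩ := hmem ℓ hl t g' ht hg't hg'n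
      obtain ⟨h1, h2⟩ := hX t g' ht hg't hg'n
      have h3 : g ∈ cz g' := cz_le_of_mem_zpowers hg'g (self_mem g)
      have h4 : g ∈ cz v := mem_cz.2 (h1 g h3 v hvg)
      obtain ⟨y, hy⟩ := hcov v hvn hvl
      refine ⟨y, ?_⟩
      rw [← hD ℓ hl _ hy (nc_conj hvn) (hvl.conj y), cz_conj]
      exact ⟨g, h4, rfl⟩
  exact hun (center_of_cz_top htop)

end Const

variable {G : Type u} [Group G] [Finite G] {a b : ℕ}

/-- centralizers in a subgroup -/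
theorem map_cz (E : Subgroup G) (u : E) : (cz u).map E.subtype = E ⊓ cz (u : G) := by
  ext x
  constructor
  · rintro ⟨y, hy, rfl⟩
    refine Subgroup.mem_inf.2 ⟨y.2, ?_⟩
    rw [mem_cz]
    exact congrArg Subtype.val (mem_cz.1 hy)
  · intro hx
    obtain ⟨h1, h2⟩ := Subgroup.mem_inf.1 hx
    exact ⟨⟨x, h1⟩, mem_cz.2 (Subtype.ext (mem_cz.1 h2)), rfl⟩

theorem card_cz_sub (E : Subgroup G) (u : E) : c u = Nat.card (E ⊓ cz (u : G) : Subgroup G) := by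
  rw [← map_cz, Subgroup.card_map_of_injective E.subtype_injective]
  rfl

theorem mem_center_cz {v : G} (u : cz v) : u ∈ Subgroup.center (cz v) ↔ cz v ≤ cz (u : G) := by
  rw [Subgroup.mem_center_iff]
  constructor
  · intro h x hx
    rw [mem_cz]
    exact congrArg Subtype.val (h ⟨x, hx⟩)
  · intro h x
    exact Subtype.ext (mem_cz.1 (h x.2))

theorem isP_coe {E : Subgroup G} {t : ℕ} {u : E} : IsP t u ↔ IsP t (u : G) := by
  constructor
  · rintro ⟨k, hk⟩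
    exact ⟨k, congrArg Subtype.val hk⟩
  · rintro ⟨k, hk⟩
    exact ⟨k, Subtype.ext hk⟩

theorem abel_of_primary {g : G} (hp : ∀ q : ℕ, q.Prime → ∀ x ∈ cz g, IsP q x → cz g ≤ cz x) :
    ∀ x ∈ cz g, cz g ≤ cz x := by
  intro x hx
  by_contra hn
  have h1 : x ∉ zc g := fun e => hn (mem_zc.1 e)
  obtain ⟨q, x', hq, hx'x, hx'n, hx'q, -⟩ := prime_part' h1
  exact hx'n (mem_zc.2 (hp q hq x' ((Subgroup.zpowers_le.2 hx) hx'x) hx'q))

/-- the small centralizer is abelian -/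
theorem Dat.abelA2 (h : Dat G a b) {y w : G} {s t : ℕ} (hs : s.Prime) (ht : t.Prime)
    (hst : s ≠ t) (hy : y ∉ Subgroup.center G) (hyb : c y = b) (hys : IsP s y)
    (hwy : w ∈ cz y) (hwt : IsP t w) (hnc : ¬ cz y ≤ cz w) :
    cz (y * w) = cz y ⊓ cz w ∧ y * w ∉ Subgroup.center G ∧ c (y * w) = a ∧ ∀ x ∈ cz (y * w), cz (y * w) ≤ cz x := by
  have hDeq : cz (y * w) = cz y ⊓ cz w := prod_cz hs ht hst hys hwt hwy
  have hDle : cz (y * w) ≤ cz y := by rw [hDeq]; exact inf_le_left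
  have hDn : y * w ∉ Subgroup.center G := nc_of_le hy hDle
  have hDa : c (y * w) = a := by
    refine (h.ab hDn hy hDle ?_).1
    intro e
    apply hnc
    rw [← e, hDeq]; exact inf_le_right
  refine ⟨hDeq, hDn, hDa, ?_⟩
  apply abel_of_primary
  intro q hq x hx hxq
  obtain ⟨h1, h2⟩ := h.lemF hs ht hst hy hyb hys hwy hwt hnc
  by_cases e1 : q = s
  · subst e1
    exact (h1.resolve_right (h.noSS hs)) x hx hxq
  by_cases e2 : q = t
  · subst e2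
    exact (h2.resolve_right (h.noSS ht)) x hx hxq
  exact h.f1 hDn hDa hx (cop3 hs ht hq (Ne.symm e1) (Ne.symm e2) hst hys hwt hwy hxq)

/-- **Lemma H** -/
theorem Dat.lemH (h : Dat G a b) {v₁ v₂ : G} {ℓ₁ ℓ₂ : ℕ} (h1 : ℓ₁.Prime) (h2 : ℓ₂.Prime)
    (h12 : ℓ₁ ≠ ℓ₂) (hv1 : v₁ ∉ Subgroup.center G) (hv2 : v₂ ∉ Subgroup.center G)
    (hp1 : IsP ℓ₁ v₁) (hp2 : IsP ℓ₂ v₂) (hE : cz v₁ = cz v₂) (hb : c v₁ = b) :
    ∀ x ∈ cz v₁, cz v₁ ≤ cz x := by
  by_contra hcon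
  push_neg at hcon
  obtain ⟨x, hx, hxn⟩ := hcon
  have pick : ∀ t : ℕ, ∃ (v : G) (ℓ : ℕ), ℓ.Prime ∧ ℓ ≠ t ∧ IsP ℓ v ∧ v ∉ Subgroup.center G ∧ cz v = cz v₁ := by
    intro t
    by_cases e : ℓ₁ = t
    · refine ⟨v₂, ℓ₂, h2, ?_, hp2, hv2, hE.symm⟩
      rintro rfl; exact h12 e
    · exact ⟨v₁, ℓ₁, h1, e, hp1, hv1, rfl⟩
  by_cases hone : ∃ q : ℕ, ∀ t : ℕ, t.Prime → t ≠ q → ∀ z ∈ cz v₁, IsP t z → cz v₁ ≤ cz z
  · obtain ⟨q, hq⟩ := hone
    obtain ⟨v, ℓ, hℓ, hℓq, hvℓ, hvn, hvE⟩ := pick q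
    by_cases hqp : q.Prime
    · apply h.noSS hqp
      refine ⟨v, ℓ, hℓ, hℓq, hvℓ, hvn, ?_, ?_, x, ?_, ?_⟩
      · unfold c; rw [hvE]; exact hb
      · rw [hvE]; exact hq
      · rw [hvE]; exact hx
      · rw [hvE]; exact hxn
    · apply hxn
      refine abel_of_primary (fun t ht z hz hzt => hq t ht ?_ z hz hzt) x hx
      rintro rfl; exact hqp ht
  · push_neg at hone
    obtain ⟨q, hq, -, uq, huqE, huqp, huqn⟩ := hone 0
    obtain ⟨r, hr, hrq, ur, hurE, hurp, hurn⟩ := hone q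
    refine no_const (X := cz v₁) a ?_ hq hr (Ne.symm hrq) ⟨⟨uq, huqE⟩, ?_, isP_coe.2 huqp⟩ ⟨⟨ur, hurE⟩, ?_, isP_coe.2 hurp⟩
    · intro t g ht hgt hgn
      rw [mem_center_cz] at hgn
      obtain ⟨v, ℓ, hℓ, hℓt, hvℓ, hvn, hvE⟩ := pick t
      have hvb : c v = b := by unfold c; rw [hvE]; exact hb
      obtain ⟨e1, e2, e3, e4⟩ := h.abelA2 hℓ ht hℓt hvn hvb hvℓ (by rw [hvE]; exact g.2) (isP_coe.1 hgt)
        (by rw [hvE]; exact hgn)
      have e5 : cz v₁ ⊓ cz (g : G) = cz (v * (g : G)) := by rw [e1, hvE]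
      constructor
      · intro x hx y hy
        apply Subtype.ext
        have hx' : (x : G) ∈ cz (v * (g : G)) := by
          rw [← e5]
          exact Subgroup.mem_inf.2 ⟨x.2, mem_cz.2 (congrArg Subtype.val (mem_cz.1 hx))⟩
        have hy' : (y : G) ∈ cz (v * (g : G)) := by
          rw [← e5]
          exact Subgroup.mem_inf.2 ⟨y.2, mem_cz.2 (congrArg Subtype.val (mem_cz.1 hy))⟩
        exact (mem_cz.1 (e4 y hy' hx'))
      · rw [card_cz_sub, e5]; exact e3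
    · rw [mem_center_cz]; exact huqn
    · rw [mem_center_cz]; exact hurn

end Cfsg.Agent.ItoCS
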