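import Cfsg.Agent.ItoCS.Dat
/-!
Groups with two noncentral class sizes: no exceptional structure.
-/
set_option autoImplicit false
set_option linter.all false

namespace Cfsg.Agent.ItoCS

open Cfsg.Agent.H35.CR

universe u

variable {G : Type u} [Group G] [Finite G] {a b : ℕ}

theorem nc_conj {g x : G} (hg : g ∉ Subgroup.center G) : x * g * x⁻¹ ∉ Subgroup.center G := by
  intro hc
  apply hg
  have := (inferInstance : (Subgroup.center G).Normal).conj_mem _ hc x⁻¹
  have e : x⁻¹ * (x * g * x⁻¹) * x⁻¹⁻¹ = g := by group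
  rwa [e] at this

/-- in the exceptional structure there is a small centralizer below -/
theorem Dat.ss_small (h : Dat G a b) {p : ℕ} (hp : p.Prime) {w : G} {t₀ : ℕ} (ht₀ : t₀.Prime) (ht₀p : t₀ ≠ p)
    (hwt : IsP t₀ w) (hwn : w ∉ Subgroup.center G) (hwb : c w = b)
    (hc : ∀ t : ℕ, t.Prime → t ≠ p → ∀ x ∈ cz w, IsP t x → cz w ≤ cz x) (hx : ∃ x ∈ cz w, ¬ cz w ≤ cz x) :
    ∃ x ∈ cz w, IsP p x ∧ ¬ cz w ≤ cz x ∧ w * x ∉ Subgroup.center G ∧ c (w * x) = a ∧
      cz (w * x) = cz w ⊓ cz x := by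
  obtain ⟨x, hxC, hxn⟩ := hx
  have h1 : x ∉ zc w := fun e => hxn (mem_zc.1 e)
  obtain ⟨q, x', hq, hx'x, hx'n, hx'q, -⟩ := prime_part' h1
  have hx'C : x' ∈ cz w := (Subgroup.zpowers_le.2 hxC) hx'x
  have hqp : q = p := by
    by_contra hne
    exact hx'n (mem_zc.2 (hc q hq hne x' hx'C hx'q))
  subst hqp
  have e1 : cz (w * x') = cz w ⊓ cz x' := prod_cz ht₀ hq ht₀p hwt hx'q hx'C
  have hle : cz (w * x') ≤ cz w := by rw [e1]; exact inf_le_left
  have hn : w * x' ∉ Subgroup.center G := nc_of_le hwn hle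
  have hn' : ¬ cz w ≤ cz x' := fun e => hx'n (mem_zc.2 e)
  refine ⟨x', hx'C, hx'q, hn', hn, ?_, e1⟩
  refine (h.ab hn hwn hle ?_).1
  intro e
  apply hn'
  rw [← e, e1]; exact inf_le_right

theorem Dat.ss_dvd (h : Dat G a b) {p : ℕ} (hp : p.Prime) (hS : SS G b p) :
    a ∣ b ∧ ∀ t : ℕ, t.Prime → t ≠ p → t ^ b.factorization t ∣ a := by
  obtain ⟨w, t₀, ht₀, ht₀p, hwt, hwn, hwb, hc, hx⟩ := hS
  obtain ⟨x, hxC, hxp, hxn, hn, ha, e1⟩ := h.ss_small hp ht₀ ht₀p hwt hwn hwb hc hx
  constructor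
  · rw [← ha, ← hwb]
    apply c_dvd
    rw [e1]; exact inf_le_left
  · intro t ht htp
    have hcomm : ∀ z ∈ cz w, IsP t z → ∀ y ∈ cz w, z * y = y * z := by
      intro z hz hzt y hy
      exact (mem_cz.1 (hc t ht htp z hz hzt hy)).symm
    have h1 := card_prt (D := cz w) (h := hcomm) ht
    have h2 : prt t (cz w) hcomm ≤ cz (w * x) := by
      intro z hz
      rw [e1]
      exact Subgroup.mem_inf.2 ⟨hz.1, mem_cz.2 (hcomm z hz.1 hz.2 x hxC)⟩
    have h3 := Subgroup.card_dvd_of_le h2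
    rw [h1] at h3
    change t ^ (c w).factorization t ∣ c (w * x) at h3
    rw [hwb, ha] at h3
    exact h3

theorem Dat.ss_unique (h : Dat G a b) {p s : ℕ} (hp : p.Prime) (hs : s.Prime) (hne : s ≠ p) (hb0 : b ≠ 0)
    (ha0 : a ≠ 0) (hp' : ∀ t : ℕ, t.Prime → t ≠ p → t ^ b.factorization t ∣ a) (hS : SS G b s) : False := by
  obtain ⟨-, h2⟩ := h.ss_dvd hs hS
  have h3 : b ∣ a := by
    apply (Nat.dvd_iff_prime_pow_dvd_dvd _ _).2
    intro q k hq hk
    have hk' : k ≤ b.factorization q := (hq.pow_dvd_iff_le_factorization hb0).1 hk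
    refine (pow_dvd_pow q hk').trans ?_
    by_cases e : q = p
    · subst e; exact h2 q hq (Ne.symm hne)
    · exact hp' q hq e
  have := Nat.le_of_dvd (Nat.pos_of_ne_zero ha0) h3
  have := h.lt
  omega

/-- **Lemma S** -/
theorem Dat.noSS (h : Dat G a b) {p : ℕ} (hp : p.Prime) : ¬ SS G b p := by
  intro hS
  obtain ⟨hab, hpp⟩ := h.ss_dvd hp hS
  obtain ⟨w, t₀, ht₀, ht₀p, hwt, hwn, hwb, hc, hx⟩ := hS
  obtain ⟨x, hxC, hxp, hxn, hn, ha, e1⟩ := h.ss_small hp ht₀ ht₀p hwt hwn hwb hc hx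
  have hb0 : b ≠ 0 := by rw [← hwb]; exact (c_pos w).ne'
  have ha0 : a ≠ 0 := by rw [← ha]; exact (c_pos _).ne'
  have hnS : ∀ s : ℕ, s.Prime → s ≠ p → ¬ SS G b s := fun s hs hsp hS => h.ss_unique hp hs hsp hb0 ha0 hpp hS
  have hDle : cz (w * x) ≤ cz w := by rw [e1]; exact inf_le_left
  -- noncentral `r`-elements in all centralizers
  have both : ∀ r : ℕ, r.Prime → (∃ v ∈ cz (w * x), v ∉ Subgroup.center G ∧ IsP r v) →
      ∀ g : G, g ∉ Subgroup.center G → ∃ v ∈ cz g, v ∉ Subgroup.center G ∧ IsP r v := by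
    intro r hr hv g hg
    rcases h.two g hg with e | e
    · exact h.mem_of_card hr (ha.trans e.symm) hv
    · obtain ⟨v, hv1, hv2, hv3⟩ := hv
      exact h.mem_of_card hr (hwb.trans e.symm) ⟨v, hDle hv1, hv2, hv3⟩
  have memr : ∀ r : ℕ, r.Prime → (∃ u : G, u ∉ Subgroup.center G ∧ IsP r u) → r ≠ p →
      ∀ g : G, g ∉ Subgroup.center G → ∃ v ∈ cz g, v ∉ Subgroup.center G ∧ IsP r v := by
    intro r hr hu hrp
    apply both r hr
    obtain ⟨u, hun, hur⟩ := hu
    rcases h.two u hun with e | e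
    · exact h.mem_of_card hr (e.trans ha.symm) ⟨u, self_mem u, hun, hur⟩
    · obtain ⟨v, hv, hvn, hvr⟩ := h.mem_of_card (g := u) (k := w) hr (e.trans hwb.symm) ⟨u, self_mem u, hun, hur⟩
      refine ⟨v, ?_, hvn, hvr⟩
      rw [e1]
      exact Subgroup.mem_inf.2 ⟨hv, mem_cz_symm (hc r hr hrp v hv hvr hxC)⟩
  have hxnc : x ∉ Subgroup.center G := by
    intro e
    apply hxn
    rw [cz_top_of_center e]; exact le_top
  have memp : ∀ g : G, g ∉ Subgroup.center G → ∃ v ∈ cz g, v ∉ Subgroup.center G ∧ IsP p v :=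
    both p hp ⟨x, by rw [e1]; exact Subgroup.mem_inf.2 ⟨hxC, self_mem x⟩, hxnc, hxp⟩
  have hfac : ∀ s : ℕ, s.Prime → s ≠ p → s ^ b.factorization s ≤ s ^ a.factorization s := by
    intro s hs hsp
    apply Nat.pow_le_pow_right hs.pos
    exact (hs.pow_dvd_iff_le_factorization ha0).1 (hpp s hs hsp)
  -- abelian Sylow subgroups
  have key : ∀ s : ℕ, s.Prime → s ≠ p → ∀ g : G, g ∉ Subgroup.center G → IsP s g → ∃ T : Subgroup G, g ∈ T ∧
      IsPGroup s T ∧ (∀ u ∈ T, ∀ v ∈ T, u * v = v * u) ∧ s ^ b.factorization s ≤ Nat.card T := by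
    intro s hs hsp g hg hgs
    rcases h.two g hg with e | e
    · -- small
      have hcen : ∀ t : ℕ, t.Prime → t ≠ s → ∀ y ∈ cz g, IsP t y → cz g ≤ cz y := by
        intro t ht hts y hy hyt
        exact h.f1 hg e hy (IsP.coprime hs ht (Ne.symm hts) hgs hyt)
      obtain ⟨r, hr, hrs, hrp, hru⟩ := h.pi3 s p
      obtain ⟨v, hvC, hvn, hvr⟩ := memr r hr hru hrp g hg
      obtain ⟨k, hkC, hkn, hkp⟩ := memp g hg
      have hv1 := hcen r hr hrs v hvC hvr
      have hk1 := hcen p hp (Ne.symm hsp) k hkC hkp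
      have hcs : ∀ y ∈ cz g, IsP s y → cz g ≤ cz y := by
        intro y hy hys
        by_contra hyn
        have hvb : c v = b := by
          rcases h.two v hvn with e2 | e2
          · exfalso
            apply hyn
            have e3 := h.small_eq hvn e2 hg hv1
            rw [e3] at hy ⊢
            exact h.f1 hvn e2 hy (IsP.coprime hr hs hrs hvr hys)
          · exact e2
        have hkb : c k = b := by
          rcases h.two k hkn with e2 | e2
          · exfalso
            apply hyn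
            have e3 := h.small_eq hkn e2 hg hk1
            rw [e3] at hy ⊢
            exact h.f1 hkn e2 hy (IsP.coprime hp hs (Ne.symm hsp) hkp hys)
          · exact e2
        have hkv : k ∈ cz v := hv1 hkC
        have hvk : cz v = cz k := by
          by_contra hne
          have h3e : cz (v * k) = cz v ⊓ cz k := prod_cz hr hp hrp hvr hkp hkv
          have h3le : cz (v * k) ≤ cz v := by rw [h3e]; exact inf_le_left
          have h3n : v * k ∉ Subgroup.center G := nc_of_le hvn h3le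
          have h3a : c (v * k) = a := by
            refine (h.ab h3n hvn h3le ?_).1
            intro e4
            apply hne
            exact h.big_eq hvn hvb hkn (by rw [← e4, h3e]; exact inf_le_right)
          have h4 : cz g = cz (v * k) := by
            apply h.small_eq h3n h3a hg
            rw [h3e]; exact le_inf hv1 hk1
          apply hyn
          rw [h4]
          rw [h4] at hy
          exact h.f1 h3n h3a hy (cop3 hr hp hs hrs (Ne.symm hsp) hrp hvr hkp hkv hys)
        have hgv : g ∈ cz v := mem_cz_symm hvC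
        have hng : ¬ cz v ≤ cz g := by
          intro hle
          have := Nat.le_of_dvd (c_pos g) (c_dvd hle)
          rw [hvb, e] at this
          have := h.lt
          omega
        have hgeq : cz (v * g) = cz g := by
          rw [prod_cz hr hs hrs hvr hgs hgv, inf_eq_right]
          exact hv1
        rcases h.lemE hr hp hs hrp hrs (Ne.symm hsp) hvn hkn hvr hkp hvk hvb hgv hgs hng with hE | hE
        · rw [hgeq] at hE
          exact hyn (hE y hy hys)
        · exact hnS s hs hsp hE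
      have hcomm : ∀ z ∈ cz g, IsP s z → ∀ y ∈ cz g, z * y = y * z := by
        intro z hz hzt y hy
        exact (mem_cz.1 (hcs z hz hzt hy)).symm
      refine ⟨prt s (cz g) hcomm, ⟨self_mem g, hgs⟩, prt_pgroup hs, ?_, ?_⟩
      · intro u hu v hv
        exact hcomm u hu.1 hu.2 v hv.1
      · rw [card_prt hs]
        change _ ≤ s ^ (c g).factorization s
        rw [e]
        exact hfac s hs hsp
    · -- big
      by_cases hex : ∃ (t : ℕ) (u : G), t.Prime ∧ t ≠ s ∧ u ∈ cz g ∧ IsP t u ∧ ¬ cz g ≤ cz u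
      · obtain ⟨t, u, ht, hts, huC, hut, hun⟩ := hex
        rcases (h.lemF hs ht (Ne.symm hts) hg e hgs huC hut hun).1 with hF | hF
        · have e2 : cz (g * u) = cz g ⊓ cz u := prod_cz hs ht (Ne.symm hts) hgs hut huC
          have hle : cz (g * u) ≤ cz g := by rw [e2]; exact inf_le_left
          have hn2 : g * u ∉ Subgroup.center G := nc_of_le hg hle
          have ha2 : c (g * u) = a := by
            refine (h.ab hn2 hg hle ?_).1
            intro e4
            apply hun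
            rw [← e4, e2]; exact inf_le_right
          have hcomm : ∀ z ∈ cz (g * u), IsP s z → ∀ y ∈ cz (g * u), z * y = y * z := by
            intro z hz hzt y hy
            exact (mem_cz.1 (hF z hz hzt hy)).symm
          refine ⟨prt s (cz (g * u)) hcomm, ⟨?_, hgs⟩, prt_pgroup hs, ?_, ?_⟩
          · rw [e2]
            exact Subgroup.mem_inf.2 ⟨self_mem g, mem_cz_symm huC⟩
          · intro u hu v hv
            exact hcomm u hu.1 hu.2 v hv.1
          · rw [card_prt hs]
            change _ ≤ s ^ (c (g * u)).factorization s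
            rw [ha2]
            exact hfac s hs hsp
        · exact absurd hF (hnS s hs hsp)
      · push_neg at hex
        have hcs : ∀ y ∈ cz g, cz g ≤ cz y := by
          by_contra hcon
          push_neg at hcon
          obtain ⟨y, hy, hyn⟩ := hcon
          obtain ⟨v, hvC, hvn, hvp⟩ := memp g hg
          have hv1 : cz g ≤ cz v := hex p v hp (Ne.symm hsp) hvC hvp
          have hv2 : cz g = cz v := h.big_eq hg e hvn hv1
          apply hnS s hs hsp
          refine ⟨v, p, hp, Ne.symm hsp, hvp, hvn, ?_, ?_, y, ?_, ?_⟩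
          · unfold c; rw [← hv2]; exact e
          · intro t ht hts z hz hzt
            rw [← hv2] at hz ⊢
            exact hex t z ht hts hz hzt
          · rw [← hv2]; exact hy
          · rw [← hv2]; exact hyn
        have hcomm : ∀ z ∈ cz g, IsP s z → ∀ y ∈ cz g, z * y = y * z := by
          intro z hz hzt y hy
          exact (mem_cz.1 (hcs z hz hy)).symm
        refine ⟨prt s (cz g) hcomm, ⟨self_mem g, hgs⟩, prt_pgroup hs, ?_, ?_⟩
        · intro u hu v hv
          exact hcomm u hu.1 hu.2 v hv.1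
        · rw [card_prt hs]
          change _ ≤ s ^ (c g).factorization s
          rw [e]
  -- apply the covering lemma
  obtain ⟨q, hq, hqp, -, hqu⟩ := h.pi3 p p
  obtain ⟨r, hr, hrp, hrq, hru⟩ := h.pi3 p q
  have hℓ : ∀ ℓ : ℕ, ℓ = q ∨ ℓ = r → ℓ.Prime ∧ ℓ ≠ p ∧ ∃ u : G, u ∉ Subgroup.center G ∧ IsP ℓ u := by
    rintro ℓ (rfl | rfl)
    · exact ⟨hq, hqp, hqu⟩
    · exact ⟨hr, hrp, hru⟩
  have hD : ∀ ℓ : ℕ, ℓ = q ∨ ℓ = r → ∀ v ∈ cz w, v ∉ Subgroup.center G → IsP ℓ v → cz v = cz w := by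
    intro ℓ hl v hv hvn hvℓ
    obtain ⟨l1, l2, l3⟩ := hℓ ℓ hl
    exact (h.big_eq hwn hwb hvn (hc ℓ l1 l2 v hv hvℓ)).symm
  obtain ⟨ℓ, hl, hcov⟩ := cov hq hr (Ne.symm hrq) (cz w) hD
    (fun ℓ hl => by
      obtain ⟨l1, l2, l3⟩ := hℓ ℓ hl
      exact memr ℓ l1 l3 l2 w hwn)
    (fun ℓ hl g hg hgl => by
      obtain ⟨l1, l2, l3⟩ := hℓ ℓ hl
      obtain ⟨T, h1, h2, h3, h4⟩ := key ℓ l1 l2 g hg hgl
      refine ⟨T, h1, h2, h3, ?_⟩
      change ℓ ^ (c w).factorization ℓ ≤ _
      rw [hwb]; exact h4)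
  obtain ⟨l1, l2, l3⟩ := hℓ ℓ hl
  have htop : cz w = ⊤ := by
    apply H67.eq_top_of_conj_cover
    intro g
    by_cases hg : g ∈ Subgroup.center G
    · exact ⟨1, by rw [one_mul, inv_one, mul_one]; exact center_le_cz w hg⟩
    · obtain ⟨v, hvg, hvn, hvl⟩ := memr ℓ l1 l3 l2 g hg
      obtain ⟨y, hy⟩ := hcov v hvn hvl
      refine ⟨y, ?_⟩
      rw [← hD ℓ hl _ hy (nc_conj hvn) (hvl.conj y), cz_conj]
      exact ⟨g, mem_cz_symm hvg, rfl⟩
  exact hwn (center_of_cz_top htop)

end Cfsg.Agent.ItoCS
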