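import Cfsg.Agent.ItoCS.Count
/-!
Groups with two noncentral class sizes: the non-F case.
-/
set_option autoImplicit false
set_option linter.all false

namespace Cfsg.Agent.ItoCS

open Cfsg.Agent.H35.CR

universe u

/-- big primary elements whose centralizer contains a noncentral primary element for another prime -/
structure A2 (G : Type u) [Group G] [Finite G] (b p : ℕ) (y : G) : Prop where
  hp : p.Prime
  hy : y ∉ Subgroup.center G
  hb : c y = b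
  hyp : IsP p y
  ex : ∃ (q : ℕ) (w : G), q.Prime ∧ q ≠ p ∧ w ∈ cz y ∧ IsP q w ∧ ¬ cz y ≤ cz w

variable {G : Type u} [Group G] [Finite G] {a b : ℕ}

theorem nc_of_not_le {y w : G} (h : ¬ cz y ≤ cz w) : w ∉ Subgroup.center G := by
  intro hc
  apply h
  rw [cz_top_of_center hc]; exact le_top

theorem A2.exr {p : ℕ} {y : G} (hA : A2 G b p y) (h : Dat G a b) {r : ℕ} (hr : r.Prime) (hrp : r ≠ p)
    (hex : ∃ u : G, u ∉ Subgroup.center G ∧ IsP r u) : ∃ u ∈ cz y, IsP r u ∧ ¬ cz y ≤ cz u := by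
  by_contra hcon
  push_neg at hcon
  obtain ⟨q, w, hq, hqp, hw, hwq, hwn⟩ := hA.ex
  have hrq : r ≠ q := by
    rintro rfl
    exact hwn (hcon w hw hwq)
  obtain ⟨v, hv, hvn, hvr⟩ := h.lemF0 hA.hp hq hr (Ne.symm hqp) hrp hrq hA.hy hA.hb hA.hyp hw hwq hwn hex
  have hvy : v ∈ cz y := by
    rw [prod_cz hA.hp hq (Ne.symm hqp) hA.hyp hwq hw] at hv
    exact (Subgroup.mem_inf.1 hv).1
  have h1 := h.big_eq hA.hy hA.hb hvn (hcon v hvy hvr)
  exact hwn (h.lemH hA.hp hr (Ne.symm hrp) hA.hy hvn hA.hyp hvr h1 hA.hb w hw)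

theorem A2.cst {p : ℕ} {y : G} (hA : A2 G b p y) (h : Dat G a b) : Cst (cz y) p a := by
  intro t g ht htp hgt hgn
  rw [mem_center_cz] at hgn
  obtain ⟨e1, e2, e3, e4⟩ := h.abelA2 hA.hp ht (Ne.symm htp) hA.hy hA.hb hA.hyp g.2 (isP_coe.1 hgt) hgn
  constructor
  · intro x hx z hz
    apply Subtype.ext
    have hx' : (x : G) ∈ cz (y * (g : G)) := by
      rw [e1]
      exact Subgroup.mem_inf.2 ⟨x.2, mem_cz.2 (congrArg Subtype.val (mem_cz.1 hx))⟩
    have hz' : (z : G) ∈ cz (y * (g : G)) := by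
      rw [e1]
      exact Subgroup.mem_inf.2 ⟨z.2, mem_cz.2 (congrArg Subtype.val (mem_cz.1 hz))⟩
    exact (mem_cz.1 (e4 z hz' hx'))
  · rw [card_cz_sub, ← e1]; exact e3

/-- the arithmetic consequence -/
theorem A2.arith {p : ℕ} {y : G} (hA : A2 G b p y) (h : Dat G a b) :
    ∃ m : ℕ, a * m = b ∧ p ∣ m ∧ ∀ s : ℕ, s.Prime → s ≠ p → s ∣ m →
      s ^ m.factorization s < p ^ m.factorization p := by
  obtain ⟨q, hq, hqp, -, hqu⟩ := h.pi3 p p
  obtain ⟨r, hr, hrp, hrq, hru⟩ := h.pi3 p q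
  obtain ⟨uq, huq, huqq, huqn⟩ := hA.exr h hq hqp hqu
  obtain ⟨ur, hur, hurr, hurn⟩ := hA.exr h hr hrp hru
  have hX := hA.cst h
  set u : cz y := ⟨uq, huq⟩ with hu
  have hun : u ∉ Subgroup.center (cz y) := by rw [mem_center_cz]; exact huqn
  have huq' : IsP q u := isP_coe.2 huqq
  have hconj := hX.conj_all hq hr (Ne.symm hrq) hqp hrp ⟨⟨ur, hur⟩, by rw [mem_center_cz]; exact hurn, isP_coe.2 hurr⟩
    hun huq'
  have hup : ¬ p ∣ orderOf u := IsP.not_dvd hq hA.hp hqp huq'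
  obtain ⟨hua, huc⟩ := hX.gen hun hup
  have hconj' : ∀ g : cz y, ¬ p ∣ orderOf g → g ∉ Subgroup.center (cz y) → ∃ x : cz y, x * g * x⁻¹ ∈ cz u := by
    intro g hgp hgn
    obtain ⟨t, g', ht, hg'g, hg'n, hg't, htd⟩ := prime_part' hgn
    have htp : t ≠ p := by rintro rfl; exact hgp htd
    obtain ⟨x, hx⟩ := hconj t g' ht htp hg't hg'n
    refine ⟨x, ?_⟩
    have h1 : cz (x * g' * x⁻¹) = cz u := cz_eq_of_mem hua hx
      ((hX t _ ht htp (hg't.conj x) (nc_conj hg'n)).2.trans huc.symm)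
    rw [← h1, cz_conj]
    exact ⟨g, cz_le_of_mem_zpowers hg'g (self_mem g), rfl⟩
  refine ⟨(cz u).index, ?_, hX.dvd_index hA.hp hq hqp hun huq' hconj, fun s hs hsp hsm =>
    hX.count hA.hp hun hup hconj' hs hsp hsm⟩
  have h1 := (cz u).card_mul_index
  change c u * _ = _ at h1
  rw [huc] at h1
  rw [h1]
  exact hA.hb

theorem A2.uniq {p s : ℕ} {y v : G} (hA : A2 G b p y) (hB : A2 G b s v) (h : Dat G a b) : s = p := by
  by_contra hne
  obtain ⟨m, hm, hpm, h1⟩ := hA.arith h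
  obtain ⟨m', hm', hsm, h2⟩ := hB.arith h
  have ha0 : 0 < a := by
    rcases Nat.eq_zero_or_pos a with e | e
    · exfalso
      rw [e, zero_mul] at hm
      have := hA.hb
      have := c_pos y
      omega
    · exact e
  have he : m = m' := Nat.eq_of_mul_eq_mul_left ha0 (hm.trans hm'.symm)
  subst he
  have := h1 s hB.hp hne hsm
  have := h2 p hA.hp (Ne.symm hne) hpm
  omega

theorem A2.memA {p : ℕ} {y : G} (hA : A2 G b p y) (h : Dat G a b) {r : ℕ} (hr : r.Prime)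
    (hex : ∃ u : G, u ∉ Subgroup.center G ∧ IsP r u) {g : G} (hg : g ∉ Subgroup.center G) :
    ∃ v ∈ cz g, v ∉ Subgroup.center G ∧ IsP r v := by
  obtain ⟨q, w, hq, hqp, hw, hwq, hwn⟩ := hA.ex
  by_cases e : r = p
  · subst e
    obtain ⟨e1, e2, e3, e4⟩ := h.abelA2 hr hq (Ne.symm hqp) hA.hy hA.hb hA.hyp hw hwq hwn
    rcases h.two g hg with eg | eg
    · refine h.mem_of_card hr (e3.trans eg.symm) ⟨y, ?_, hA.hy, hA.hyp⟩
      rw [e1]
      exact Subgroup.mem_inf.2 ⟨self_mem y, mem_cz_symm hw⟩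
    · exact h.mem_of_card hr (hA.hb.trans eg.symm) ⟨y, self_mem y, hA.hy, hA.hyp⟩
  · obtain ⟨u, hu, hur, hun⟩ := hA.exr h hr e hex
    obtain ⟨e1, e2, e3, e4⟩ := h.abelA2 hA.hp hr (Ne.symm e) hA.hy hA.hb hA.hyp hu hur hun
    rcases h.two g hg with eg | eg
    · refine h.mem_of_card hr (e3.trans eg.symm) ⟨u, ?_, nc_of_not_le hun, hur⟩
      rw [e1]
      exact Subgroup.mem_inf.2 ⟨hu, self_mem u⟩
    · exact h.mem_of_card hr (hA.hb.trans eg.symm) ⟨u, hu, nc_of_not_le hun, hur⟩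

/-- (G10) -/
theorem A2.abel {p : ℕ} {y : G} (hA : A2 G b p y) (h : Dat G a b) {s : ℕ} (hs : s.Prime) (hsp : s ≠ p) {g : G}
    (hg : g ∉ Subgroup.center G) (hgs : IsP s g) : ∀ x ∈ cz g, cz g ≤ cz x := by
  obtain ⟨r, hr, hrs, -, hru⟩ := h.pi3 s s
  obtain ⟨v, hv, hvn, hvr⟩ := hA.memA h hr hru hg
  rcases h.two g hg with e | e
  · have hv1 : cz g ≤ cz v := h.f1 hg e hv (IsP.coprime hs hr (Ne.symm hrs) hgs hvr)
    rcases h.two v hvn with e2 | e2
    · have hgv : cz g = cz v := h.small_eq hvn e2 hg hv1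
      apply abel_of_primary
      intro t ht x hx hxt
      by_cases ets : t = s
      · subst ets
        rw [hgv] at hx ⊢
        exact h.f1 hvn e2 hx (IsP.coprime hr ht hrs hvr hxt)
      · exact h.f1 hg e hx (IsP.coprime hs ht (Ne.symm ets) hgs hxt)
    · have hgv : g ∈ cz v := mem_cz_symm hv
      have hng : ¬ cz v ≤ cz g := by
        intro hle
        have := Nat.le_of_dvd (c_pos g) (c_dvd hle)
        rw [e2, e] at this
        have := h.lt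
        omega
      obtain ⟨e3, e4, e5, e6⟩ := h.abelA2 hr hs hrs hvn e2 hvr hgv hgs hng
      have e7 : cz (v * g) = cz g := by rw [e3, inf_eq_right]; exact hv1
      rw [e7] at e6
      exact e6
  · by_contra hcon
    push_neg at hcon
    obtain ⟨x, hx, hxn⟩ := hcon
    by_cases hex : ∃ (q : ℕ) (w : G), q.Prime ∧ q ≠ s ∧ w ∈ cz g ∧ IsP q w ∧ ¬ cz g ≤ cz w
    · exact hsp (hA.uniq ⟨hs, hg, e, hgs, hex⟩ h)
    · push_neg at hex
      have h1 := h.big_eq hg e hvn (hex r v hr hrs hv hvr)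
      exact hxn (h.lemH hs hr (Ne.symm hrs) hg hvn hgs hvr h1 e x hx)

theorem A2.false {p : ℕ} {y : G} (hA : A2 G b p y) (h : Dat G a b) : False := by
  obtain ⟨q, hq, hqp, -, hqu⟩ := h.pi3 p p
  obtain ⟨r, hr, hrp, hrq, hru⟩ := h.pi3 p q
  obtain ⟨u, hu, huq, hun⟩ := hA.exr h hq hqp hqu
  obtain ⟨e1, e2, e3, e4⟩ := h.abelA2 hA.hp hq (Ne.symm hqp) hA.hy hA.hb hA.hyp hu huq hun
  set d := y * u with hd
  obtain ⟨m, hm, -, -⟩ := hA.arith h
  have hℓ : ∀ ℓ : ℕ, ℓ = q ∨ ℓ = r → ℓ.Prime ∧ ℓ ≠ p ∧ ∃ u : G, u ∉ Subgroup.center G ∧ IsP ℓ u := by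
    rintro ℓ (rfl | rfl)
    · exact ⟨hq, hqp, hqu⟩
    · exact ⟨hr, hrp, hru⟩
  have hyd : y ∈ cz d := by
    rw [e1]
    exact Subgroup.mem_inf.2 ⟨self_mem y, mem_cz_symm hu⟩
  have hD : ∀ ℓ : ℕ, ℓ = q ∨ ℓ = r → ∀ w ∈ cz d, w ∉ Subgroup.center G → IsP ℓ w → cz w = cz d := by
    intro ℓ hl w hw hwn hwl
    obtain ⟨l1, l2, -⟩ := hℓ ℓ hl
    have hle : cz d ≤ cz w := e4 w hw
    by_contra hne
    have hwb : c w = b := (h.ab e2 hwn hle (fun e => hne e.symm)).2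
    have hyw : y ∈ cz w := hle hyd
    by_cases hwy : cz w ≤ cz y
    · have h1 := h.big_eq hwn hwb hA.hy hwy
      have := h.lemH l1 hA.hp l2 hwn hA.hy hwl hA.hyp h1 hwb u (by rw [h1]; exact hu)
      rw [h1] at this
      exact hun this
    · exact l2 (hA.uniq ⟨l1, hwn, hwb, hwl, p, y, hA.hp, Ne.symm l2, hyw, hA.hyp, hwy⟩ h)
  obtain ⟨ℓ, hl, hcov⟩ := cov hq hr (Ne.symm hrq) (cz d) hD
    (fun ℓ hl => by
      obtain ⟨l1, l2, l3⟩ := hℓ ℓ hl
      exact hA.memA h l1 l3 e2)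
    (fun ℓ hl g hg hgl => by
      obtain ⟨l1, l2, l3⟩ := hℓ ℓ hl
      have h1 := hA.abel h l1 l2 hg hgl
      have h2 : ∀ x ∈ cz g, ∀ z ∈ cz g, x * z = z * x := fun x hx z hz => (mem_cz.1 (h1 z hz hx))
      refine ⟨prt ℓ (cz g) (fun x hx _ z hz => h2 x hx z hz), ⟨self_mem g, hgl⟩, prt_pgroup l1, ?_, ?_⟩
      · intro x hx z hz; exact h2 x hx.1 z hz.1
      · rw [card_prt l1]
        change ℓ ^ (c d).factorization ℓ ≤ ℓ ^ (c g).factorization ℓ
        apply Nat.pow_le_pow_right l1.pos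
        have hcd : c d ∣ c g := by
          rw [e3]
          rcases h.two g hg with e | e
          · rw [e]
          · rw [e, ← hm]; exact dvd_mul_right _ _
        exact (Nat.factorization_le_iff_dvd (c_pos d).ne' (c_pos g).ne').2 hcd ℓ)
  obtain ⟨l1, l2, l3⟩ := hℓ ℓ hl
  have htop : cz d = ⊤ := by
    apply H67.eq_top_of_conj_cover
    intro g
    by_cases hg : g ∈ Subgroup.center G
    · exact ⟨1, by rw [one_mul, inv_one, mul_one]; exact center_le_cz d hg⟩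
    · obtain ⟨v, hvg, hvn, hvl⟩ := hA.memA h l1 l3 hg
      obtain ⟨x, hx⟩ := hcov v hvn hvl
      refine ⟨x, ?_⟩
      rw [← hD ℓ hl _ hx (nc_conj hvn) (hvl.conj x), cz_conj]
      exact ⟨g, mem_cz_symm hvg, rfl⟩
  exact e2 (center_of_cz_top htop)

/-- **the non-F case is impossible** -/
theorem Dat.isF (h : Dat G a b) {g₁ g₂ : G} (h1 : g₁ ∉ Subgroup.center G) (h2 : g₂ ∉ Subgroup.center G)
    (hle : cz g₁ ≤ cz g₂) : cz g₁ = cz g₂ := by
  by_contra hne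
  obtain ⟨ha, hb⟩ := h.ab h1 h2 hle hne
  obtain ⟨s, y, hs, hyg, hyn, hys, -⟩ := prime_part' h2
  have hy1 : cz g₂ = cz y := h.big_eq h2 hb hyn (cz_le_of_mem_zpowers hyg)
  have hyb : c y = b := by unfold c; rw [← hy1]; exact hb
  by_cases hex : ∃ (q : ℕ) (w : G), q.Prime ∧ q ≠ s ∧ w ∈ cz y ∧ IsP q w ∧ ¬ cz y ≤ cz w
  · exact A2.false ⟨hs, hyn, hyb, hys, hex⟩ h
  · push_neg at hex
    have hx : g₁ ∈ cz y := by rw [← hy1]; exact hle (self_mem g₁)
    have hxn : ¬ cz y ≤ cz g₁ := by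
      intro hle'
      have := Nat.le_of_dvd (c_pos g₁) (c_dvd hle')
      rw [hyb, ha] at this
      have := h.lt
      omega
    obtain ⟨r, hr, hrs, -, u, hun, hur⟩ := h.pi3 s s
    have hv : ∃ v ∈ cz y, v ∉ Subgroup.center G ∧ IsP r v := by
      rcases h.two u hun with e | e
      · obtain ⟨v, hv, hvn, hvr⟩ := h.mem_of_card (g := u) (k := g₁) hr (e.trans ha.symm) ⟨u, self_mem u, hun, hur⟩
        exact ⟨v, by rw [← hy1]; exact hle hv, hvn, hvr⟩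
      · exact h.mem_of_card hr (e.trans hyb.symm) ⟨u, self_mem u, hun, hur⟩
    obtain ⟨v, hv, hvn, hvr⟩ := hv
    have h3 := h.big_eq hyn hyb hvn (hex r v hr hrs hv hvr)
    exact hxn (h.lemH hs hr (Ne.symm hrs) hyn hvn hys hvr h3 hyb g₁ hx)

end Cfsg.Agent.ItoCS
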