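import Cfsg.Agent.ItoCS.CI5
import Cfsg.Agent.ItoCS.LemH
import Cfsg.Agent.S0143
/-!
Finite groups in which the class sizes of all `p'`-elements of prime power order only involve `p` and one other prime.
-/
set_option autoImplicit false
set_option linter.all false

namespace Cfsg.Agent.ItoCS

open Cfsg.Agent.H35.CR

universe u

/-- the class sizes of the elements of prime power order prime to `p` only involve `p` and `ℓ₀` -/
def Phi (X : Type u) [Group X] (p ℓ₀ : ℕ) : Prop :=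
  ∀ ℓ : ℕ, ℓ.Prime → ℓ ≠ p → ∀ y : X, IsP ℓ y → ∀ s : ℕ, s.Prime → s ∣ (cz y).index → s = p ∨ s = ℓ₀

theorem card_inf_mul_relIndex' {G : Type u} [Group G] (H K : Subgroup G) :
    Nat.card ↥(H ⊓ K) * H.relIndex K = Nat.card K := by
  have := Subgroup.relIndex_mul_relIndex (⊥ : Subgroup G) (H ⊓ K) K bot_le inf_le_right
  rwa [Subgroup.relIndex_bot_left, Subgroup.relIndex_bot_left, Subgroup.inf_relIndex_right] at this

theorem relIndex_dvd_index' {G : Type u} [Group G] [Finite G] (H K : Subgroup G) [K.Normal] : H.relIndex K ∣ H.index := by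
  obtain ⟨c, hc⟩ := Subgroup.relIndex_dvd_index_of_normal K H
  refine ⟨c, ?_⟩
  have e1 : Nat.card H * H.index = Nat.card G := Subgroup.card_mul_index H
  have e2 : Nat.card K * K.index = Nat.card G := Subgroup.card_mul_index K
  have e3 : Nat.card ↥(H ⊓ K) * H.relIndex K = Nat.card K := card_inf_mul_relIndex' H K
  have e4 : Nat.card ↥(H ⊓ K) * K.relIndex H = Nat.card H := by
    rw [inf_comm]
    exact card_inf_mul_relIndex' K H
  have hpos : 0 < Nat.card H := Nat.card_pos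
  apply Nat.eq_of_mul_eq_mul_left hpos
  rw [e1, ← e2, hc]
  calc Nat.card K * (K.relIndex H * c) = (Nat.card ↥(H ⊓ K) * H.relIndex K) * (K.relIndex H * c) := by rw [e3]
    _ = (Nat.card ↥(H ⊓ K) * K.relIndex H) * (H.relIndex K * c) := by ring
    _ = _ := by rw [e4]

variable {X : Type u} [Group X] [Finite X] {p ℓ₀ : ℕ}

theorem Phi.normal (h : Phi X p ℓ₀) (N : Subgroup X) [N.Normal] : Phi N p ℓ₀ := by
  intro ℓ hℓ hℓp y hy s hs hd
  apply h ℓ hℓ hℓp (y : X) (isP_coe.1 hy) s hs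
  have e : cz y = (cz (y : X)).subgroupOf N := by
    ext w
    rw [Subgroup.mem_subgroupOf, mem_cz, mem_cz]
    exact Subtype.ext_iff
  rw [e] at hd
  exact hd.trans (relIndex_dvd_index' _ N)

theorem Phi.quot (h : Phi X p ℓ₀) (N : Subgroup X) [N.Normal] : Phi (X ⧸ N) p ℓ₀ := by
  intro ℓ hℓ hℓp y hy s hs hd
  obtain ⟨x, rfl⟩ := QuotientGroup.mk_surjective y
  obtain ⟨a, w, ha, hw, haw, haℓ, hwℓ⟩ := split x hℓ
  have hw1 : (QuotientGroup.mk w : X ⧸ N) = 1 := by
    have h1 : (QuotientGroup.mk w : X ⧸ N) ∈ Subgroup.zpowers (QuotientGroup.mk x : X ⧸ N) := by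
      obtain ⟨k, rfl⟩ := Subgroup.mem_zpowers_iff.1 hw
      rw [QuotientGroup.mk_zpow]
      exact Subgroup.zpow_mem _ (Subgroup.mem_zpowers _) k
    obtain ⟨k, hk⟩ := hy.mem_zpowers h1
    have h2 : orderOf (QuotientGroup.mk w : X ⧸ N) ∣ ℓ ^ k := orderOf_dvd_of_pow_eq_one hk
    have h3 : orderOf (QuotientGroup.mk w : X ⧸ N) ∣ orderOf w := by
      apply orderOf_dvd_of_pow_eq_one
      rw [← QuotientGroup.mk_pow, pow_orderOf_eq_one, QuotientGroup.mk_one]
    rw [← orderOf_eq_one_iff]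
    apply Nat.eq_one_of_dvd_coprimes _ h2 h3
    exact Nat.Coprime.pow_left _ ((hℓ.coprime_iff_not_dvd).2 hwℓ)
  have hxa : (QuotientGroup.mk x : X ⧸ N) = QuotientGroup.mk a := by
    rw [haw, QuotientGroup.mk_mul, hw1, mul_one]
  rw [hxa] at hd
  apply h ℓ hℓ hℓp a haℓ s hs
  have h4 : (cz a).map (QuotientGroup.mk' N) ≤ cz (QuotientGroup.mk a : X ⧸ N) := by
    rintro _ ⟨b, hb, rfl⟩
    rw [mem_cz]
    show (QuotientGroup.mk b : X ⧸ N) * QuotientGroup.mk a = _
    rw [← QuotientGroup.mk_mul, mem_cz.1 hb]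
    rfl
  exact hd.trans ((Subgroup.index_dvd_of_le h4).trans (Subgroup.index_map_dvd _ (QuotientGroup.mk'_surjective N)))

/-- simple groups -/
theorem Phi.simple [IsSimpleGroup X] (hp : p.Prime) (h : Phi X p ℓ₀) : Group.IsSolvable X := by
  classical
  -- reduce to an element with a class of `p`-power size
  suffices hkey : (∃ k : ℕ, Nat.card X = p ^ k) ∨ ∃ y : X, y ≠ 1 ∧ ∀ s : ℕ, s.Prime → s ∣ (cz y).index → s = p by
    rcases hkey with ⟨k, hk⟩ | ⟨y, hy, hi⟩
    · haveI : Fact p.Prime := ⟨hp⟩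
      have : IsPGroup p X := IsPGroup.of_card hk
      haveI := this.isNilpotent
      infer_instance
    · have h1 : (cz y).index = p ^ (cz y).index.primeFactorsList.length :=
        Nat.eq_prime_pow_of_unique_prime_dvd (Subgroup.index_ne_zero_of_finite) (fun {d} hd hdv => hi d hd hdv)
      have h2 : (Subgroup.centralizer ({y} : Set X)).index = p ^ (cz y).index.primeFactorsList.length := h1
      have h3 := Cfsg.Agent.S0143.result p _ hp y hy h2
      haveI : Fact (Nat.card X).Prime := ⟨h3⟩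
      have : IsPGroup (Nat.card X) X := IsPGroup.of_card (n := 1) (by rw [pow_one])
      haveI := this.isNilpotent
      infer_instance
  by_cases hpl : ∀ s : ℕ, s.Prime → s ∣ Nat.card X → s = p
  · left
    exact ⟨_, Nat.eq_prime_pow_of_unique_prime_dvd Nat.card_pos.ne' (fun {d} hd hdv => hpl d hd hdv)⟩
  right
  push_neg at hpl
  obtain ⟨ℓ, hℓ, hℓX, hℓp⟩ := hpl
  by_cases hℓ₀ : ℓ₀.Prime ∧ ℓ₀ ∣ Nat.card X ∧ ℓ₀ ≠ p
  · obtain ⟨h0, h0X, h0p⟩ := hℓ₀
    haveI : Fact ℓ₀.Prime := ⟨h0⟩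
    obtain ⟨R⟩ : Nonempty (Sylow ℓ₀ X) := inferInstance
    have hR1 : Nontrivial (R : Subgroup X) := by
      rw [Subgroup.nontrivial_iff_ne_bot]
      exact R.ne_bot_of_dvd_card h0X
    haveI := R.isPGroup'.center_nontrivial
    obtain ⟨⟨y, hyc⟩, hy1⟩ := exists_ne (1 : Subgroup.center (R : Subgroup X))
    refine ⟨(y : X), ?_, ?_⟩
    · intro he
      apply hy1
      apply Subtype.ext
      exact Subtype.ext he
    · intro s hs hd
      have hyP : IsP ℓ₀ (y : X) := by
        obtain ⟨k, hk⟩ := R.isPGroup' y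
        exact ⟨k, congrArg Subtype.val hk⟩
      rcases h ℓ₀ h0 h0p (y : X) hyP s hs hd with h1 | h1
      · exact h1
      · exfalso
        rw [h1] at hd
        have hRle : (R : Subgroup X) ≤ cz (y : X) := by
          intro r hr
          rw [mem_cz]
          exact congrArg Subtype.val (Subgroup.mem_center_iff.1 hyc ⟨r, hr⟩)
        exact R.not_dvd_index (hd.trans (Subgroup.index_dvd_of_le hRle))
  · haveI : Fact ℓ.Prime := ⟨hℓ⟩
    obtain ⟨y, hy⟩ := exists_prime_orderOf_dvd_card' ℓ hℓX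
    refine ⟨y, ?_, ?_⟩
    · rintro rfl
      rw [orderOf_one] at hy
      exact hℓ.one_lt.ne hy
    · intro s hs hd
      rcases h ℓ hℓ hℓp y ⟨1, by rw [pow_one, ← hy, pow_orderOf_eq_one]⟩ s hs hd with h1 | h1
      · exact h1
      · by_contra hsp
        apply hℓ₀
        rw [← h1]
        exact ⟨hs, hd.trans (Subgroup.index_dvd_card _), hsp⟩

theorem Phi.solvable_aux (hp : p.Prime) : ∀ (n : ℕ) (X : Type u) [Group X] [Finite X], Nat.card X ≤ n → Phi X p ℓ₀ →
    Group.IsSolvable X := by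
  intro n
  induction n with
  | zero =>
    intro X _ _ hX
    exact absurd hX (by have : 0 < Nat.card X := Nat.card_pos; omega)
  | succ n ih =>
    intro X _ _ hX h
    by_cases hs : ∃ N : Subgroup X, N.Normal ∧ N ≠ ⊥ ∧ N ≠ ⊤
    · obtain ⟨N, hN, hN1, hN2⟩ := hs
      haveI := hN
      have c1 : Nat.card N * N.index = Nat.card X := Subgroup.card_mul_index N
      have c2 : 1 < Nat.card N := (Subgroup.one_lt_card_iff_ne_bot N).2 hN1
      have c3 : 1 < N.index := by
        have h0 : N.index ≠ 0 := Subgroup.index_ne_zero_of_finite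
        have h1 : N.index ≠ 1 := fun he => hN2 (Subgroup.index_eq_one.1 he)
        omega
      have c4 : Nat.card (X ⧸ N) = N.index := rfl
      have s1 : Group.IsSolvable N := ih N (by nlinarith) (h.normal N)
      have s2 : Group.IsSolvable (X ⧸ N) := ih (X ⧸ N) (by rw [c4]; nlinarith) (h.quot N)
      exact solvable_of_ker_le_range N.subtype (QuotientGroup.mk' N) (by
        rw [QuotientGroup.ker_mk', Subgroup.range_subtype])
    · push_neg at hs
      by_cases hX1 : Nontrivial X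
      · haveI : IsSimpleGroup X := ⟨fun N hN => by
          by_cases h1 : N = ⊥
          · exact Or.inl h1
          · exact Or.inr (hs N hN h1)⟩
        exact h.simple hp
      · rw [not_nontrivial_iff_subsingleton] at hX1
        infer_instance

theorem Phi.solvable (hp : p.Prime) (h : Phi X p ℓ₀) : Group.IsSolvable X :=
  Phi.solvable_aux hp (Nat.card X) X le_rfl h

/-- **Case I** -/
theorem CI.solvable {D : Subgroup X} (hp : p.Prime) (h : CI X p D) : Group.IsSolvable X := by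
  classical
  obtain ⟨ℓ₀, hℓ₀⟩ : ∃ ℓ₀ : ℕ, ∀ s : ℕ, s.Prime → s ≠ p → s ≠ ℓ₀ → ∃ R : Sylow s X, (R : Subgroup X) ≤ D := by
    by_cases hb : ∃ ℓ₀ : ℕ, ℓ₀.Prime ∧ ℓ₀ ≠ p ∧ ¬ ∃ R : Sylow ℓ₀ X, (R : Subgroup X) ≤ D
    · obtain ⟨ℓ₀, h1, h2, h3⟩ := hb
      refine ⟨ℓ₀, fun s hs hsp hs0 => ?_⟩
      by_contra hcon
      exact h.one_bad hs h1 hsp h2 hs0 hcon h3
    · push_neg at hb
      exact ⟨0, fun s hs hsp _ => hb s hs hsp⟩
  apply Phi.solvable (ℓ₀ := ℓ₀) hp
  intro ℓ hℓ hℓp y hy s hs hd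
  by_contra hcon
  push_neg at hcon
  obtain ⟨R, hR⟩ := hℓ₀ s hs hcon.1 hcon.2
  haveI : Fact s.Prime := ⟨hs⟩
  by_cases hyc : y ∈ Subgroup.center X
  · rw [cz_top_of_center hyc, Subgroup.index_top] at hd
    exact hs.one_lt.ne' (Nat.dvd_one.1 hd)
  · obtain ⟨x, -, hx⟩ := h.conj_cz hℓ hℓp hyc hy
    have h1 : (cz y).index = D.index := by
      rw [← hx, Subgroup.index_map_of_bijective (MulAut.conj x).bijective]
    rw [h1] at hd
    exact R.not_dvd_index (hd.trans (Subgroup.index_dvd_of_le hR))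

end Cfsg.Agent.ItoCS
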