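import Cfsg.Agent.ItoCS.NoS
/-!
TI subgroups modulo the centre which are centralizers of all their noncentral elements.
-/
set_option autoImplicit false
set_option linter.all false

namespace Cfsg.Agent.ItoCS

open Cfsg.Agent.H35.CR

universe u

section Abs

variable {A : Type u} [CommGroup A]

theorem norm_fix (X : Monoid.End A) (n : ℕ) (hn : X ^ n = 1) (a : A) :
    X (∏ j ∈ Finset.range n, (X ^ j) a) = ∏ j ∈ Finset.range n, (X ^ j) a := by
  rw [map_prod]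
  have h1 : ∏ j ∈ Finset.range n, X ((X ^ j) a) = ∏ j ∈ Finset.range n, (X ^ (j + 1)) a := by
    apply Finset.prod_congr rfl
    intro j _
    rw [pow_succ']; rfl
  rw [h1]
  have h2 := Finset.prod_range_succ' (fun j => (X ^ j) a) n
  have h3 := Finset.prod_range_succ (fun j => (X ^ j) a) n
  rw [h3] at h2
  simp only [hn, pow_zero] at h2
  exact (mul_right_cancel h2).symm

theorem rank_abs (Z : Subgroup A) (ℓ : ℕ) (hℓ : 0 < ℓ) (X₁ X₂ : Monoid.End A) (hc : Commute X₁ X₂)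
    (hZ : ∀ z ∈ Z, X₁ z ∈ Z) (hN : ∀ (i : ℕ) (a : A), ∏ j ∈ Finset.range ℓ, ((X₁ * X₂ ^ i) ^ j) a ∈ Z)
    (hN2 : ∀ j : ℕ, 0 < j → j < ℓ → ∀ a : A, ∏ i ∈ Finset.range ℓ, ((X₂ ^ j) ^ i) a ∈ Z) (a : A) : a ^ ℓ ∈ Z := by
  have h1 : ∏ i ∈ Finset.range ℓ, ∏ j ∈ Finset.range ℓ, ((X₁ * X₂ ^ i) ^ j) a ∈ Z := Subgroup.prod_mem _ fun i _ => hN i a
  have h2 : ∏ i ∈ Finset.range ℓ, ∏ j ∈ Finset.range ℓ, ((X₁ * X₂ ^ i) ^ j) a =
      ∏ j ∈ Finset.range ℓ, (X₁ ^ j) (∏ i ∈ Finset.range ℓ, ((X₂ ^ j) ^ i) a) := by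
    rw [Finset.prod_comm]
    apply Finset.prod_congr rfl
    intro j _
    rw [map_prod]
    apply Finset.prod_congr rfl
    intro i _
    rw [(hc.pow_right i).mul_pow, ← pow_mul, ← pow_mul, mul_comm i j]
    rfl
  rw [h2] at h1
  obtain ⟨m, rfl⟩ := Nat.exists_eq_succ_of_ne_zero hℓ.ne'
  rw [Nat.succ_eq_add_one, Finset.prod_range_succ'] at h1
  have hXj : ∀ (j : ℕ) (z : A), z ∈ Z → (X₁ ^ j) z ∈ Z := by
    intro j
    induction j with
    | zero => intro z hz; exact hz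
    | succ j ih =>
      intro z hz
      rw [pow_succ']
      exact hZ _ (ih z hz)
  have h3 : ∏ j ∈ Finset.range m, (X₁ ^ (j + 1)) (∏ i ∈ Finset.range (m + 1), ((X₂ ^ (j + 1)) ^ i) a) ∈ Z := by
    apply Subgroup.prod_mem
    intro j hj
    apply hXj
    apply hN2 (j + 1) (Nat.succ_pos j)
    have := Finset.mem_range.1 hj
    omega
  have h4 := (Subgroup.mul_mem_cancel_left Z h3).1 h1
  simp only [pow_zero, one_pow] at h4
  have h5 : ∏ i ∈ Finset.range (m + 1), (1 : Monoid.End A) a = a ^ (m + 1) := by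
    show ∏ i ∈ Finset.range (m + 1), a = _
    rw [Finset.prod_const, Finset.card_range]
  rw [h5] at h4
  exact h4

end Abs

variable {G : Type u} [Group G]

/-- elements commuting with `x` modulo the centre -/
def cm (x : G) : Subgroup G := (cz (QuotientGroup.mk x : G ⧸ Subgroup.center G)).comap (QuotientGroup.mk' (Subgroup.center G))

theorem mem_cm {g x : G} : g ∈ cm x ↔ (QuotientGroup.mk g : G ⧸ Subgroup.center G) * QuotientGroup.mk x =
    QuotientGroup.mk x * QuotientGroup.mk g := by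
  show (QuotientGroup.mk g : G ⧸ Subgroup.center G) ∈ cz _ ↔ _
  rw [mem_cz]

theorem mem_cm' {g x : G} : g ∈ cm x ↔ ∃ z ∈ Subgroup.center G, g * x * g⁻¹ = x * z := by
  rw [mem_cm, ← QuotientGroup.mk_mul, ← QuotientGroup.mk_mul, eq_comm, QuotientGroup.eq]
  constructor
  · intro h
    refine ⟨_, h, ?_⟩
    have h1 := Subgroup.mem_center_iff.1 h g
    have e : x * (g * ((x * g)⁻¹ * (g * x)) * g⁻¹) = g * x * g⁻¹ := by group
    rw [h1] at e
    rw [← e]; group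
  · rintro ⟨z, hz, h⟩
    have h1 := Subgroup.mem_center_iff.1 hz g
    have e : (x * g)⁻¹ * (g * x) = z := by
      have : g * x = x * z * g := by rw [← h]; group
      rw [this]
      calc (x * g)⁻¹ * (x * z * g) = g⁻¹ * (z * g) := by group
        _ = g⁻¹ * (g * z) := by rw [h1]
        _ = z := by group
    rw [e]; exact hz

theorem cm_symm {g x : G} (h : g ∈ cm x) : x ∈ cm g := mem_cm.2 (mem_cm.1 h).symm

theorem cz_le_cm (x : G) : cz x ≤ cm x := by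
  intro g hg
  rw [mem_cm, ← QuotientGroup.mk_mul, mem_cz.1 hg]
  rfl

theorem conj_pow_of {g x z : G} (hz : z ∈ Subgroup.center G) (h : g * x * g⁻¹ = x * z) (n : ℕ) :
    g ^ n * x * (g ^ n)⁻¹ = x * z ^ n := by
  induction n with
  | zero => simp
  | succ n ih =>
    have hzn : z ^ n ∈ Subgroup.center G := (Subgroup.center G).pow_mem hz n
    calc g ^ (n + 1) * x * (g ^ (n + 1))⁻¹ = g * (g ^ n * x * (g ^ n)⁻¹) * g⁻¹ := by rw [pow_succ']; group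
      _ = g * (x * z ^ n) * g⁻¹ := by rw [ih]
      _ = g * x * (z ^ n * g⁻¹) := by group
      _ = g * x * (g⁻¹ * z ^ n) := by rw [Subgroup.mem_center_iff.1 hzn]
      _ = g * x * g⁻¹ * z ^ n := by group
      _ = x * z ^ (n + 1) := by rw [h, pow_succ', mul_assoc]

theorem conj_pow_of' {g x z : G} (hz : z ∈ Subgroup.center G) (h : g * x * g⁻¹ = x * z) (n : ℕ) :
    g * x ^ n * g⁻¹ = x ^ n * z ^ n := by
  rw [← conj_pow, h]
  exact (show Commute x z from Subgroup.mem_center_iff.1 hz x).mul_pow n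

/-- `[g,x]` central and `x ^ n` central -/
theorem pow_mem_cz {g x : G} (hg : g ∈ cm x) {n : ℕ} (hn : x ^ n ∈ Subgroup.center G) : g ^ n ∈ cz x := by
  obtain ⟨z, hz, h⟩ := mem_cm'.1 hg
  have h1 := conj_pow_of' hz h n
  have h2 : g * x ^ n * g⁻¹ = x ^ n := by
    rw [Subgroup.mem_center_iff.1 hn g]; group
  rw [h2] at h1
  have h3 : z ^ n = 1 := by
    have := h1.symm
    rwa [mul_eq_left] at this
  have h4 := conj_pow_of hz h n
  rw [h3, mul_one] at h4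
  rw [mem_cz]
  exact mul_inv_eq_iff_eq_mul.1 h4

theorem pow_mem_cz' {g x : G} (hg : g ∈ cm x) {n : ℕ} (hn : g ^ n ∈ cz x) : g ∈ cz (x ^ n) := by
  obtain ⟨z, hz, h⟩ := mem_cm'.1 hg
  have h1 := conj_pow_of hz h n
  have h2 : g ^ n * x * (g ^ n)⁻¹ = x := by rw [mem_cz.1 hn]; group
  rw [h2] at h1
  have h3 : z ^ n = 1 := by
    have := h1.symm
    rwa [mul_eq_left] at this
  have h4 := conj_pow_of' hz h n
  rw [h3, mul_one] at h4
  rw [mem_cz]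
  exact mul_inv_eq_iff_eq_mul.1 h4

theorem comm_mem_cz {s t x : G} (hs : s ∈ cm x) (ht : t ∈ cm x) : s * t * s⁻¹ * t⁻¹ ∈ cz x := by
  obtain ⟨z, hz, h⟩ := mem_cm'.1 hs
  obtain ⟨w, hw, h'⟩ := mem_cm'.1 ht
  have k1 : ∀ v ∈ Subgroup.center G, ∀ a : G, a * v * a⁻¹ = v := by
    intro v hv a
    rw [Subgroup.mem_center_iff.1 hv a]; group
  have c1 : s⁻¹ * x * s = x * z⁻¹ := by
    have : x = s⁻¹ * (x * z) * s := by rw [← h]; group
    have e2 : s⁻¹ * (x * z) * s = s⁻¹ * x * s * (s⁻¹ * z * s⁻¹⁻¹) := by group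
    rw [k1 z hz s⁻¹] at e2
    rw [e2] at this
    rw [eq_mul_inv_iff_mul_eq]; exact this.symm
  have c2 : t⁻¹ * x * t = x * w⁻¹ := by
    have : x = t⁻¹ * (x * w) * t := by rw [← h']; group
    have e2 : t⁻¹ * (x * w) * t = t⁻¹ * x * t * (t⁻¹ * w * t⁻¹⁻¹) := by group
    rw [k1 w hw t⁻¹] at e2
    rw [e2] at this
    rw [eq_mul_inv_iff_mul_eq]; exact this.symm
  have hzi : z⁻¹ ∈ Subgroup.center G := (Subgroup.center G).inv_mem hz
  have hwi : w⁻¹ ∈ Subgroup.center G := (Subgroup.center G).inv_mem hw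
  have key : (s * t * s⁻¹ * t⁻¹) * x * (s * t * s⁻¹ * t⁻¹)⁻¹ = x := by
    calc (s * t * s⁻¹ * t⁻¹) * x * (s * t * s⁻¹ * t⁻¹)⁻¹ = s * t * s⁻¹ * (t⁻¹ * x * t) * s * t⁻¹ * s⁻¹ := by group
      _ = s * t * s⁻¹ * (x * w⁻¹) * s * t⁻¹ * s⁻¹ := by rw [c2]
      _ = s * t * (s⁻¹ * x * s) * (s⁻¹ * w⁻¹ * s⁻¹⁻¹) * t⁻¹ * s⁻¹ := by group
      _ = s * t * (x * z⁻¹) * w⁻¹ * t⁻¹ * s⁻¹ := by rw [c1, k1 _ hwi]
      _ = s * (t * x * t⁻¹) * (t * (z⁻¹ * w⁻¹) * t⁻¹) * s⁻¹ := by group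
      _ = s * (x * w) * (z⁻¹ * w⁻¹) * s⁻¹ := by rw [h', k1 _ ((Subgroup.center G).mul_mem hzi hwi)]
      _ = s * x * s⁻¹ * (s * (w * (z⁻¹ * w⁻¹)) * s⁻¹) := by group
      _ = x * z * (w * (z⁻¹ * w⁻¹)) := by rw [h, k1 _ ((Subgroup.center G).mul_mem hw ((Subgroup.center G).mul_mem hzi hwi))]
      _ = x * (z * (w * z⁻¹) * w⁻¹) := by group
      _ = x * (z * (z⁻¹ * w) * w⁻¹) := by rw [Subgroup.mem_center_iff.1 hzi w]
      _ = x := by group
  rw [mem_cz]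
  exact mul_inv_eq_iff_eq_mul.1 key

theorem cop_mem {H : Subgroup G} {w : G} {m n : ℕ} (hm : w ^ m ∈ H) (hn : w ^ n ∈ H) (hc : m.Coprime n) : w ∈ H := by
  have h1 := Nat.gcd_eq_gcd_ab m n
  rw [hc.gcd_eq_one] at h1
  have h2 : w = (w ^ m) ^ (Nat.gcdA m n) * (w ^ n) ^ (Nat.gcdB m n) := by
    rw [← zpow_natCast, ← zpow_natCast, ← zpow_mul, ← zpow_mul, ← zpow_add, ← h1]
    simp
  rw [h2]
  exact H.mul_mem (H.zpow_mem hm _) (H.zpow_mem hn _)

theorem IsP.mem_of_pow {q ℓ : ℕ} (hq : q.Prime) (hℓ : ℓ.Prime) (hne : q ≠ ℓ) {H : Subgroup G} {w : G} (hw : IsP q w)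
    (h : w ^ ℓ ∈ H) : w ∈ H := by
  obtain ⟨k, hk⟩ := hw
  exact cop_mem (m := q ^ k) (n := ℓ) (by rw [hk]; exact H.one_mem) h (Nat.Coprime.pow_left _ ((Nat.coprime_primes hq hℓ).2 hne))

end Cfsg.Agent.ItoCS
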